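import Cfsg.Agent.Lib.JR.FRa
import Cfsg.Agent.Lib.SE.NB2

/-!
# Package FR: the frame of a group of Janko-Ree type
-/

set_option autoImplicit false

namespace Cfsg.Agent.JR

open Subgroup Cfsg.Agent.OO Cfsg.Agent.Coprime Cfsg.Agent.Lin Cfsg.Agent.GW Cfsg.Agent.R1 Matrix L2
open scoped Pointwise MatrixGroups

universe u

namespace FRa

variable {G : Type u} [Group G] [Finite G] {H L W P T : Subgroup G} {p q r k : ℕ} {g j s t w : G}

/-- the structure of `H = L W` -/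
structure Md (H L W P T : Subgroup G) (j s : G) (p q r k : ℕ) : Prop extends C1.Bl L P T j p q r k where
  sup : L ⊔ W = H
  inf : L ⊓ W = ⊥
  cycW : IsCyclic W
  cardW : ∀ f, q = p ^ f → ♯W ∣ f
  WP : W ≤ 𝐍(P)
  WT : W ≤ 𝐍(T)
  centP : H ⊓ 𝐂(P) = P
  pair : Pair L j s
  WV : W ≤ 𝐂(S4 j s)
  exρ : p = 3 → ∃ ρ ∈ P ⊓ 𝐍(S4 j s), ρ ≠ 1
  exx : p = 3 → ∃ x ∈ T, (orderOf x).Prime ∧ ¬ orderOf x ∣ ♯W ∧ H ⊓ 𝐂[x] = T
  fix : Fix L W q

theorem exists_norm (h : C1.Bl L P T j p q r k) (hL : L ⊴ H) (hg : g ∈ H) :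
    ∃ l ∈ L, ∃ m ∈ H, m ∈ 𝐍(P) ∧ m ∈ 𝐍(T) ∧ l * m = g := by
  have := Fact.mk h.prime
  have h1 : Syl p P L := ⟨h.uni.le, abelem_isPGroup h.uni.elem, fun e => by
    have h2 := card_mul_relIndex h.uni.le
    rw [h.uni.card, h.card, show 4 * q * r * k = q * (2 * (r * (2 * k))) by ring] at h2
    rw [Nat.eq_of_mul_eq_mul_left h.odd_q.pos h2] at e
    exact h.prime.not_dvd_mul (fun e => h.odd_p.not_two_dvd_nat ((Nat.prime_dvd_prime_iff_eq h.prime
      Nat.prime_two).1 e).symm.dvd) (h.prime.not_dvd_mul h.not_dvd_r h.not_dvd_k) e⟩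
  obtain ⟨l, hl, m, hm, rfl⟩ := (h1.frattini hL).mem_iff.1 hg
  have h2 := IsSdprod.of_coprime h.TP h.coprime
  have h3 := h2.conj m
  rw [conj_eq_of_mem_norm hm.2, h.sup, conj_inf, conj_eq_of_mem_norm (hL.2 hm.1),
    conj_eq_of_mem hm.2, ← h.sup] at h3
  obtain ⟨x, hx, e⟩ := h2.exists_conj h3 h.coprime (.inr (.inl (sol_of_ab h.tor.ab)))
  exact ⟨l * x, mul_mem hl (h.uni.le hx), x⁻¹ * m, mul_mem (inv_mem (hL.1 (h.uni.le hx))) hm.1,
    mul_mem (inv_mem (le_norm_self P hx)) hm.2,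
    by rw [← conj_eq_self_iff, ← conj_conj, e, inv_conj_conj], by group⟩

variable {F : Type} [Field F] [Fintype F] {f : SL(2, F) →* G}

theorem bl (hk : f.ker = center SL(2, F)) [CharP F p] (h : LF f.range p (Fintype.card F) r k) :
    C1.Bl f.range ((Un F).map f) ((Dg F).map f) (f (J F)) p (Fintype.card F) r k := by
  obtain ⟨c, hc⟩ := IsCyclic.exists_generator (α := Fˣ)
  have h1 : c ^ 2 ≠ 1 := fun e => by
    have h2 := Nat.le_of_dvd two_pos (orderOf_dvd_of_pow_eq_one e)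
    have := h.five
    rw [orderOf_eq_card_of_forall_mem_zpowers hc, Nat.card_units, Nat.card_eq_fintype_card] at h2
    omega
  refine ⟨h, uni_map f hk h.odd_q h.prime, cent_dg h1 ▸ tor_map f hk h.odd_q (fun e => h1 ?_) ?_,
    (map_mono (Dg_le.trans norm_Un.ge)).trans (map_norm_le _ _), ⟨_, rfl⟩, J_norm,
    fun e => J_not_mem hk (map_mono Dg_le e)⟩
  · simp [dg, trace_fin_two] at e
    field_simp at e
    exact Units.ext (sub_eq_zero.1 (pow_eq_zero_iff two_ne_zero |>.1 (by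
      push_cast; linear_combination e)))
  · obtain ⟨m, hm⟩ := h.odd_q
    rw [cent_dg h1, card_Dg]; omega

theorem exists_md (hk : f.ker = center SL(2, F)) [CharP F p] (h : LF f.range p (Fintype.card F) r k)
    (hL : f.range ⊴ H) (ho : Odd (f.range.relIndex H)) (hc : H ⊓ 𝐂(f.range) = ⊥) :
    ∃ W s, Md H f.range W ((Un F).map f) ((Dg F).map f) (f (J F)) s p (Fintype.card F) r k := by
  have b := bl hk h
  have h2 := S4357.two_ne_zero' h.odd_q
  have a0 := mem_map_of_mem f (um_mem (1 : F))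
  have a1 : f (um 1) ≠ 1 := fun e => by simpa [um] using mem_center.1 (hk.le e)
  obtain ⟨W, hW⟩ : ∃ W, W = H ⊓ 𝐍((Dg F).map f) ⊓ 𝐂[f (um 1)] := ⟨_, rfl⟩
  have w1 : W ≤ H := hW.le.trans (inf_le_left.trans inf_le_left)
  have w2 : W ≤ 𝐍((Dg F).map f) := hW.le.trans (inf_le_left.trans inf_le_right)
  have w3 : W ≤ 𝐂[f (um 1)] := hW.le.trans inf_le_right
  have w4 : W ≤ 𝐍((Un F).map f) := fun w hw => by
    rw [← b.uni.cent _ a0 a1, ← conj_eq_self_iff, conj_inf, conj_eq_of_mem_norm (hL.2 (w1 hw)),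
      conj_eq_of_mem (w3 hw)]
  have w5 : ∀ w ∈ W, w * f (J F) * w⁻¹ = f (J F) := fun w hw => by
    obtain ⟨_, ⟨c, rfl⟩, e⟩ := C1.tor_mul b.tor ⟨hL.conj_mem (w1 hw) b.jL, conj_mem_of_mem (w2 hw) b.jN⟩
      ⟨b.jL, b.jN⟩ (fun e => b.jT (by simpa [mul_assoc] using conj_mem_of_norm' (w2 hw) e)) b.jT
    exact fix_J hk (mem_cent1_iff_conj.1 (w3 hw)) e.symm
  have w6 : ∀ w : W, ∃ σ : F ≃+* F, ∀ x, w * f (um x) * (w : G)⁻¹ = f (um (σ x)) := fun w => by
    obtain ⟨u, σ, e⟩ := semi hk h2 (w4 w.2) (w2 w.2)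
    have := um_inj hk ((mem_cent1_iff_conj.1 (w3 w.2)).symm.trans (e 1))
    rw [map_one, mul_one] at this
    exact ⟨σ, by simpa [← this] using e⟩
  choose σ hσ using w6
  let θ : W →* (F ≃+* F) := MonoidHom.mk' σ fun a b => RingEquiv.ext fun x => um_inj hk (by
    rw [← hσ, coe_mul, mul_cj, hσ, hσ]; rfl)
  have w7 := fun w : W => act (hσ w) (w5 w w.2)
  have w8 : ∀ w : W, (∀ x, σ w x = x) → w = 1 := fun w e => Subtype.ext (mem_bot.1 (hc ▸ ⟨w1 w.2,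
    mem_cent_iff_conj.2 (by
      rintro _ ⟨y, rfl⟩
      exact (w7 w y).trans (congrArg f (Subtype.ext (by ext i j; exact e _))))⟩))
  have inj : Function.Injective θ := (injective_iff_map_eq_one θ).2 fun w e =>
    w8 w fun x => DFunLike.congr_fun e x
  have e1 := Nat.card_congr (MonoidHom.ofInjective inj).toEquiv
  have w9 : f.range ⊓ W = ⊥ := eq_bot_iff.2 fun l hl => by_contra fun l1 => by
    have h3 := (b.uni.cent _ a0 a1).le ⟨hl.1, w3 hl.2⟩
    exact b.jB ⟨b.jL, le_norm_self _ ((b.uni.cent l h3 l1).le ⟨b.jL, mem_cent1_comm.1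
      (mem_cent1_iff_conj.2 (w5 l hl.2))⟩)⟩
  have sup : f.range ⊔ W = H := le_antisymm (sup_le hL.1 w1) fun g hg => by
    obtain ⟨l, hl, m, hm, m1, m2, rfl⟩ := exists_norm b hL hg
    obtain ⟨u, τ, e⟩ := semi hk h2 m1 m2
    have hF : ringChar F ≠ 2 := fun e => h2 (by simpa [e] using ringChar.Nat.cast_ringChar (R := F))
    obtain ⟨c, h3⟩ : IsSquare (u * τ u) := (FiniteField.isSquare_iff hF (by simp)).2 (by
      rw [mul_pow, ← map_pow]
      rcases FiniteField.pow_dichotomy hF u.ne_zero with e | e <;> simp [e])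
    lift c to Fˣ using Ne.isUnit (by rintro rfl; simp at h3)
    have h4 : f (dg c) ∈ (Dg F).map f := mem_map_of_mem f ⟨_, rfl⟩
    have h5 : (f (dg c))⁻¹ * m ^ 2 ∈ W := hW.ge ⟨⟨H.mul_mem (H.inv_mem (hL.1 ⟨_, rfl⟩))
      (pow_mem hm 2), Subgroup.mul_mem _ (Subgroup.inv_mem _ (le_norm_self _ h4)) (pow_mem m2 2)⟩,
      mem_cent1_iff_conj.2 (by
        rw [mul_cj, pow_two, mul_cj, e, map_one, mul_one, e, h3, ← mul_one (c * c : F), ← pow_two,
          ← dg_um, map_mul, map_mul, map_inv]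
        group)⟩
    obtain ⟨n, hn⟩ := ho
    have := hL.subgroupOf
    have h6 : m ^ (2 * n + 1) ∈ f.range := hn ▸ (f.range.subgroupOf H).pow_index_mem ⟨m, hm⟩
    rw [pow_succ, pow_mul] at h6
    exact mul_mem (mem_sup_left hl) ((mul_mem_cancel_left (pow_mem ((mul_mem_cancel_left
      (mem_sup_left (inv_mem (b.tor.le h4)))).1 (mem_sup_right h5)) n)).1 (mem_sup_left h6))
  have dec : ∀ g ∈ H, ∃ l ∈ f.range, ∃ w ∈ W, l * w = g := fun g hg =>
    (mem_sup_norm_left (w1.trans hL.2)).1 (sup ▸ hg)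
  have oW : Odd ♯W := by
    rwa [← sup, (IsSdprod.of_sup (w1.trans hL.2) w9).relIndex_left] at ho
  have oθ : ∀ w : W, Odd (orderOf (θ w)) := fun w => by
    rw [orderOf_injective θ inj, ← orderOf_coe]; exact odd_of_mem oW w.2
  have := Fact.mk h.prime
  have pw : ∀ {e} (A : Subgroup (F ≃+* F)), Fintype.card F = p ^ e →
      ∃ m, Nat.card (FixedPoints.subfield A F) = p ^ m ∧ e = m * ♯A := fun A e => by
    obtain ⟨m, -, hm⟩ := (Nat.dvd_prime_pow h.prime).1 (e ▸ gal_card A ▸ dvd_pow_self _ (card_pos' A).ne')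
    exact ⟨m, hm, Nat.pow_right_injective h.prime.two_le (by simp only [pow_mul, ← hm, ← gal_card, e])⟩
  have cW : ∀ e, Fintype.card F = p ^ e → ♯W ∣ e := fun e he => by
    obtain ⟨m, -, rfl⟩ := pw θ.range he
    exact e1 ▸ dvd_mul_left _ _
  obtain ⟨x, y, hx, h3⟩ : ∃ x y : ℕ, (x : F) ^ 2 + y ^ 2 = -1 ∧ (p = 3 → x = 1 ∧ y = 1) := by
    by_cases e : p = 3
    · exact ⟨1, 1, by have := CharP.cast_eq_zero F p; subst e; push_cast at *; linear_combination this,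
        fun _ => ⟨rfl, rfl⟩⟩
    · obtain ⟨x, y, hx⟩ := CharP.sq_add_sq F p (-1)
      exact ⟨x, y, by simpa using hx, fun e' => absurd e' e⟩
  have n2 : ∀ z : F, z = -z → z = 0 := fun z e => mul_left_cancel₀ h2 (by linear_combination e)
  refine ⟨W, f (mk2 x y y (-x) (by linear_combination -hx)), b, sup, w9,
    (MonoidHom.ofInjective inj).isCyclic.2 (gal_cyc _), cW, w4, w2, le_antisymm (fun g hg => ?_)
      (le_inf (b.uni.le.trans hL.1) (abelem_ab b.uni.elem).le_cent),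
    ⟨b.jL, ⟨_, rfl⟩, fun e => b.jT (e ▸ one_mem _), fun e => ?_, fun e => ?_, J_sq hk, ?_, ?_,
      h.not_eight⟩, ?_, fun e => ?_, fun e => ?_, fun w hw ho => ?_⟩
  · obtain ⟨l, hl, w, hw, rfl⟩ := dec g hg.1
    have h4 := (b.uni.cent _ a0 a1).le ⟨hl, (mul_mem_cancel_right (w3 hw)).1 (cent_le_cent1 a0 hg.2)⟩
    have h5 := (mul_mem_cancel_left ((abelem_ab b.uni.elem).le_cent h4)).1 hg.2
    rwa [show w = 1 from congrArg Subtype.val (w8 ⟨w, hw⟩ fun z => um_inj hk ((hσ _ z).symm.trans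
      (mem_cent_iff_conj.1 h5 _ (mem_map_of_mem f (um_mem z))))), mul_one]
  · obtain ⟨e1, -, e2⟩ := mem_center.1 (hk.le e)
    simp at e1 e2
    simp [e1, n2 _ e2] at hx
  · obtain ⟨e1, -, e2⟩ := mem_center.1 ((eq_iff hk).1 e)
    simp [J, mul_apply, Fin.sum_univ_two, adjugate_fin_two] at e1 e2
    simp [e1, n2 _ e2.symm] at hx
  · rw [← map_mul, ← MonoidHom.mem_ker, hk, mem_center]
    simp [mul_apply, Fin.sum_univ_two, mul_comm, add_comm]
  · rw [Commute, SemiconjBy, ← map_mul, ← map_mul, eq_iff hk, mem_center]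
    simp [J, mul_apply, Fin.sum_univ_two, adjugate_fin_two, mul_comm, add_comm]
  · rw [cent_S4]
    refine le_inf (fun w hw => mem_cent1_iff_conj.2 (w5 w hw)) fun w hw => mem_cent1_iff_conj.2
      ((w7 ⟨w, hw⟩ _).trans (congrArg f (Subtype.ext ?_)))
    ext i j; fin_cases i <;> fin_cases j <;> simp
  · obtain ⟨rfl, rfl⟩ := h3 e
    refine ⟨_, ⟨a0, mem_norm_of_conj_le ?_⟩, a1⟩
    rw [conj_S4, S4_le]
    refine ⟨Set.mem_of_eq_of_mem ?_ (s_mem_S4 _ _),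
      Set.mem_of_eq_of_mem ?_ (Subgroup.mul_mem _ (t_mem_S4 _ _) (s_mem_S4 _ _))⟩ <;>
    simp only [← map_inv, ← map_mul, eq_iff hk, mem_center] <;>
    simp [J, um, mul_apply, Fin.sum_univ_two, adjugate_fin_two] at hx ⊢
    all_goals constructor <;> first | linear_combination hx | linear_combination -hx
  · subst e
    obtain ⟨e, e0, he⟩ := h.pow
    have e2 : 1 < e := (Nat.pow_lt_pow_iff_right (by decide : 1 < 3)).1 (by have := h.five; omega)
    obtain ⟨s, hs, s1, s2⟩ := zsig e0 e2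
    have := Fact.mk hs
    obtain ⟨c, hc⟩ := exists_prime_orderOf_dvd_card' (G := Fˣ) s (by
      rwa [Nat.card_units, Nat.card_eq_fintype_card, he])
    have s3 : ¬ s ∣ 2 := fun e' => e2.ne (s2 1 (one_dvd e) e')
    have h4 : f (dg c) ∈ (Dg F).map f := mem_map_of_mem f ⟨_, rfl⟩
    have h5 : ∀ z, f (dg c) * f (um z) * (f (dg c))⁻¹ = f (um (c ^ 2 * z)) := fun z => by
      rw [← dg_um, map_mul, map_mul, map_inv]
    have h6 : f (dg c) * f (dg c) ≠ 1 := fun e' => s3 (hs.dvd_of_dvd_pow (n := 2) (by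
      have := h5 (c ^ 2 * 1)
      rw [← h5, ← mul_cj, e', one_mul, inv_one, mul_one] at this
      exact hc ▸ orderOf_dvd_of_pow_eq_one (Units.ext (by
        push_cast; linear_combination -um_inj hk this))))
    have h7 : orderOf (f (dg c)) = s := orderOf_eq_prime (by
      rw [← map_pow, show dg c ^ s = _ from (map_pow (MonoidHom.mk' dg dg_mul) c s).symm, ← hc,
        pow_orderOf_eq_one, map_one, map_one]) fun e' => h6 (by simp [e'])
    refine ⟨_, h4, h7 ▸ hs, fun e' => ?_, le_antisymm (fun g hg => ?_)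
      (le_inf (b.tor.le.trans hL.1) (b.tor.ab.le_cent.trans (cent_le_cent1 h4)))⟩
    · exact not_dvd_of_zsig hs e0.pos s1 s2 ((h7 ▸ e').trans (cW e he))
    · obtain ⟨l, hl, w, hw, rfl⟩ := dec g hg.1
      have h8 := mem_cent1_iff_conj.1 hg.2
      rw [mul_cj] at h8
      have h9 := conj_mem_of_norm (w2 hw) h4
      have h10 : w ^ 2 ∈ 𝐂[f (dg c)] := mem_cent1_iff_conj.2 (by
        rw [pow_two, mul_cj]
        by_cases e' : l ∈ (Dg F).map f
        · rw [mem_cent_iff_conj.1 (b.tor.ab.le_cent e') _ h9] at h8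
          rw [h8, h8]
        · rw [(b.tor.inv l (C1.tor_norm b.tor h9 (conj_ne_one.2 fun e' => h6 (by simp [e'])) hl
            (h8.symm ▸ h4)) e').2 _ h9, inv_eq_iff_eq_inv] at h8
          rw [h8, ← cj_inv, h8, inv_inv])
      have h11 := zpowers_le.2 h10 (mem_zpowers_pow_iff.2 (Nat.coprime_two_left.2 (odd_of_mem oW hw)))
      have h12 : σ ⟨w, hw⟩ (c ^ 2) = c ^ 2 := um_inj hk (by
        rw [← hσ, ← mul_one (c ^ 2 : F), ← h5, ← mul_cj, mem_cent1.1 h11, mul_cj,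
          mem_cent1_iff_conj.1 (w3 hw)])
      obtain ⟨m, m1, m2⟩ := pw (zpowers (θ ⟨w, hw⟩)) he
      let := Fintype.ofFinite (FixedPoints.subfield (zpowers (θ ⟨w, hw⟩)) F)
      have h13 := congrArg Subtype.val (FiniteField.pow_card_sub_one_eq_one
        (⟨c ^ 2, fun a => (zpowers_le.2 (show θ ⟨w, hw⟩ ∈ MulAction.stabilizer _ _ from h12) a.2 :)⟩ :
          FixedPoints.subfield (zpowers (θ ⟨w, hw⟩)) F) (by simp [Subtype.ext_iff]))
      rw [← Nat.card_eq_fintype_card, m1] at h13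
      have h14 := s2 m ⟨_, m2⟩ ((hs.dvd_mul.1 (hc ▸ orderOf_dvd_of_pow_eq_one (Units.ext (by
        simpa [pow_mul] using h13)))).resolve_left s3)
      rw [h14, eq_comm, Nat.mul_eq_left e0.pos.ne', card_eq_one_iff, zpowers_eq_bot,
        map_eq_one_iff θ inj, Subtype.ext_iff] at m2
      rw [show w = 1 from m2, mul_one] at hg ⊢
      exact (b.tor.cent h4 h6).le ⟨hl, hg.2⟩
  · obtain ⟨i⟩ := fix hk (oθ ⟨w, hw⟩) (w7 ⟨w, hw⟩)
    let := Fintype.ofFinite (FixedPoints.subfield (zpowers (θ ⟨w, hw⟩)) F)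
    refine ⟨_, inferInstance, this, ?_, ⟨i⟩, fun v hv => ?_⟩
    · rw [gal_card (zpowers (θ ⟨w, hw⟩)), Nat.card_zpowers, orderOf_injective θ inj, ← orderOf_coe,
        ← Nat.card_eq_fintype_card]
    · obtain ⟨n, hn⟩ := gal_mem (A := zpowers (θ ⟨w, hw⟩)) (σ := θ ⟨v, hv.1⟩) fun z hz =>
        um_inj hk ((hσ _ z).symm.trans (mem_cent_iff_conj.1 hv.2 _ ⟨⟨_, rfl⟩, mem_cent1_comm.1
          (mem_cent1_iff_conj.2 ((hσ ⟨w, hw⟩ z).trans (congrArg (f <| um ·)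
            (hz ⟨_, mem_zpowers _⟩))))⟩))
      exact ⟨n, congrArg Subtype.val (inj ((map_zpow θ _ n).trans hn))⟩

theorem fr_of_md (h : JRs t H L F) (m : Md H L W P T j s p q r k) :
    Fr t H L W (S4 j s ⊔ zpowers t) P T p q r k := by
  have hH := SE.jr_le_cent h
  have hf := W3.JRs.half h
  have hL : L ⊴ H := ⟨h.le, h.norm⟩
  have hW : W ≤ H := le_sup_right.trans m.sup.le
  have sd := m.sup ▸ IsSdprod.of_sup (hW.trans h.norm) m.inf
  have oW : Odd ♯W := sd.relIndex_left ▸ h.odd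
  have hz := abelem_zpowers (p := 2) (x := t) (by rw [sq, h.t2])
  have v1 : S4 j s ≤ 𝐂[t] := m.pair.le.trans (h.le.trans hH)
  have hA := abelem_sup m.pair.isEp.abelem hz (cent_zpowers t ▸ v1)
  have vS : S4 j s ≤ S4 j s ⊔ zpowers t := le_sup_left
  have tS : t ∈ S4 j s ⊔ zpowers t := mem_sup_right (mem_zpowers t)
  have c8 : ♯(S4 j s ⊔ zpowers t : Subgroup G) = 8 := by
    rw [card_sup_of_inf_eq_bot (.inl (le_norm_of_le_cent (cent_zpowers t ▸ v1))) (eq_bot_iff.2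
      fun x hx => ((mem_zp h.t2).1 hx.2).resolve_right fun e => h.tH (h.le (m.pair.le (e ▸ hx.1)))),
      m.pair.card, Nat.card_zpowers, orderOf_eq_two h.t2 h.t1]
  have cS : 𝐂(S4 j s ⊔ zpowers t) = 𝐂(S4 j s) ⊓ 𝐂[t] := by rw [cent_sup, cent_zpowers]
  have nS : 𝐂[t] ⊓ 𝐍(S4 j s) ≤ 𝐍(S4 j s ⊔ zpowers t) :=
    le_norm_sup inf_le_right (inf_le_left.trans (cent_zpowers t ▸ cent_le_norm _))
  generalize S4 j s ⊔ zpowers t = S at hA vS tS c8 cS nS
  have sq : ∀ a ∈ S, a * a = 1 := fun a ha => by simpa [pow_two] using hA.2 a ha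
  have ab : Ab S := abelem_ab hA
  have hS := ab.le_cent.trans (cent_le_cent1 tS)
  have oH : ♯H = 4 * (q * r * k * ♯W) := by rw [← sd.card, m.card]; ring
  have o1 : Odd (q * r * k * ♯W) := ((m.odd_q.mul m.par.1).mul m.par.2.1).mul oW
  have s1 : Syl 2 S 𝐂[t] := ⟨hS, abelem_isPGroup hA, fun e => o1.not_two_dvd_nat (by
    have := card_mul_relIndex hS
    rw [c8, SE.jr_card_cent h, oH] at this
    rwa [show S.relIndex 𝐂[t] = q * r * k * ♯W by omega] at e)⟩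
  have cj : ∀ a : G, a ≠ 1 → a * a = 1 → ∃ g, g * t * g⁻¹ = a := fun a a1 a2 =>
    isConj_iff.1 (h.conj a a1 a2).symm
  have s2 : Syl 2 S ⊤ := by
    obtain ⟨R, hR, e⟩ := exists_syl_ge le_top s1.isPGroup
    obtain ⟨z, hz, z2⟩ := cauchy Nat.prime_two (dvd_card_of_isPGroup (hR.isPGroup.to_le (Zc_le R))
      (Zc_ne_bot hR.nil fun e' => h.t1 (mem_bot.1 (e' ▸ e tS))))
    obtain ⟨g, rfl⟩ := cj z (MN.ne_one_of_prime (z2 ▸ Nat.prime_two)) (by rw [← pow_two, ← z2, pow_orderOf_eq_one])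
    refine hR.of_card_le le_top s1.isPGroup (Nat.le_of_dvd (card_pos' _) ?_)
    exact card_conj g S ▸ (s1.conj g).card_dvd (cent1_conj g t ▸ le_cent1_iff.2 hz.2) hR.isPGroup
  have wS : W ≤ 𝐂(S) := cS ▸ le_inf m.WV (hW.trans hH)
  have cL : L ⊓ 𝐂(S4 j s) ≤ S4 j s := fun l hl => by
    obtain ⟨K, hK, hj⟩ := m.exists_torK m.jL m.pair.t_ne m.pair.t_sq
    have h1 := hK.cent_inv hj m.pair.t_ne m.pair.t_sq
    refine m.pair.syl.mem_of_mem_norm hl.1 (cent_le_norm _ hl.2) (piElt_two (by_contra fun e => ?_))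
    have h2 : l ∈ K := by_contra fun e' => e (hK.inv l (h1.le ⟨hl.1, (cent_S4 j s ▸ hl.2).1⟩) e').1
    have h3 := (hK.cent h2 e).le ⟨m.pair.s_mem, mem_cent1_comm.1 (cent_S4 j s ▸ hl.2).2⟩
    have := eq_of_isCyclic_of_card_eq hK.cyc (zpowers_le.2 hj) (zpowers_le.2 h3) (by
      rw [Nat.card_zpowers, Nat.card_zpowers, orderOf_eq_two m.pair.t_sq m.pair.t_ne,
        orderOf_eq_two m.pair.s_sq m.pair.s_ne])
    exact ((mem_zp m.pair.s_sq).1 (this ▸ mem_zpowers j)).elim m.pair.t_ne m.pair.ne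
  have red : ∀ X : Subgroup G, t ∈ X → W ≤ X → ∀ Y : Subgroup G, t ∈ Y → W ≤ Y → L ⊓ X ≤ Y →
      𝐂[t] ⊓ X ≤ Y := fun X tX wX Y tY wY e g hg => by
    have k : ∀ g ∈ H, g ∈ X → g ∈ Y := fun g hg hX => by
      obtain ⟨l, hl, w, hw, rfl⟩ := sd.mem_iff.1 hg
      exact mul_mem (e ⟨hl, (mul_mem_cancel_right (wX hw)).1 hX⟩) (wY hw)
    exact (hf.or g hg.1).elim (k g · hg.2) fun e' =>
      (mul_mem_cancel_right tY).1 (k _ e' (mul_mem hg.2 tX))
  have cS' : 𝐂(S) = S ⊔ W := le_antisymm ((le_inf (cent_le_cent1 tS) le_rfl).trans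
    (red _ (ab.le_cent tS) wS _ (mem_sup_left tS) le_sup_right
      ((inf_le_inf_left _ (cent_anti vS)).trans (cL.trans (vS.trans le_sup_left)))))
    (sup_le ab.le_cent wS)
  have sd2 := cS' ▸ sup_comm W S ▸ IsSdprod.of_coprime (K := W) (R := S) (le_norm_of_le_cent (le_cent_symm wS))
    (c8 ▸ (Nat.coprime_two_right.2 oW).pow_right 3)
  have tr : ∀ a ∈ S, a ≠ 1 → ∃ g ∈ 𝐍(S), g * t * g⁻¹ = a := fun a ha a1 => by
    obtain ⟨g, rfl⟩ := cj a a1 (sq a ha)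
    obtain ⟨n, hn, e⟩ := W3.fusion s2 ab tS (mem_top g) ha
    exact ⟨n, hn.2, e⟩
  have i7 : (𝐍(S) ⊓ 𝐂[t]).relIndex 𝐍(S) = 7 := by
    rw [inf_relIndex_left, ← GW.ncard_conj, show _ '' _ = sharp S from Set.ext fun a => ⟨by
      rintro ⟨g, hg, rfl⟩; exact conj_mem_sharp hg ⟨tS, h.t1⟩, fun ha => tr a ha.1 ha.2⟩, ncard_sharp, c8]
  obtain ⟨ρ, hρ⟩ := m.pair.sdprod_or.resolve_left fun e => m.pair.t_ne (eq_one_of_odd_of_sq
    (odd_of_mem (odd_O L) ((m.perfect ▸ e.der_le_of_ab m.pair.ab) m.jL)) m.pair.t_sq)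
  have nL : 𝐂[t] ≤ 𝐍(L) := fun g hg => (hf.or g hg).elim (h.norm ·) fun e =>
    (mul_mem_cancel_right (cent_le_norm L (le_cent1_iff.1 (h.le.trans hH)))).1 (h.norm e)
  have SL : S ⊓ L = S4 j s := le_antisymm (m.pair.syl.le_of_norm inf_le_right (s1.isPGroup.to_le
    inf_le_left) (.inr (inf_le_left.trans (ab.le_cent.trans ((cent_anti vS).trans (cent_le_norm _))))))
    (le_inf vS m.pair.le)
  have nV : 𝐍(S) ⊓ 𝐂[t] ≤ 𝐍(S4 j s) := SL ▸ le_norm_inf inf_le_left (inf_le_right.trans nL)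
  have r1 : ρ ∈ 𝐍(S) ⊓ 𝐂[t] := ⟨nS ⟨hH (h.le hρ.ρ_mem), hρ.mem_norm⟩, hH (h.le hρ.ρ_mem)⟩
  have pH : Pair H j s := { m.pair with
    t_mem := h.le m.jL, s_mem := h.le m.pair.s_mem
    not_dvd := fun e => o1.not_two_dvd_nat (Nat.dvd_of_mul_dvd_mul_left (by decide : 0 < 4) (oH ▸ e)) }
  have i3 : 𝐂(S).relIndex (𝐍(S) ⊓ 𝐂[t]) = 3 := by
    have e : 𝐂(S) = (𝐍(S) ⊓ 𝐂[t]) ⊓ 𝐂[j] := le_antisymm (le_inf (le_inf (cent_le_norm S)
      (cent_le_cent1 tS)) (cent_le_cent1 (vS (t_mem_S4 j s)))) fun g hg => by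
        have k := fun g hg h1 h2 => pH.mem_cent_of_norm (g := g) hg (nV h1) h2
        have ht : t ∈ 𝐂(S4 j s) := le_cent1_iff.1 v1
        rw [cent_S4] at ht
        rw [cS, cent_S4]
        exact ⟨⟨hg.2, (hf.or g hg.1.2).elim (k g · hg.1 hg.2) fun e => (mul_mem_cancel_right (mem_inf.1 ht).2).1
          (k _ e (mul_mem hg.1 (mem_inf.2 ⟨le_norm_self S tS, mem_cent1_self t⟩))
            (Subgroup.mul_mem _ hg.2 ht.1))⟩, hg.1.2⟩
    rw [e, inf_relIndex_left, ← GW.ncard_conj, show _ '' _ = sharp (S4 j s) from Set.ext fun a => ⟨by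
      rintro ⟨g, hg, rfl⟩; exact conj_mem_sharp (nV hg) ⟨t_mem_S4 j s, m.pair.t_ne⟩, fun ha => ?_⟩,
      ncard_sharp, m.pair.card]
    exact (hρ.exists_conj_of_mem ha.1 ha.2).imp fun g e => ⟨zpowers_le.2 r1 e.1, e.2⟩
  have nW : 𝐍(S) ≤ 𝐍(W) := fun n hn => mem_norm_of_conj_mem fun w hw =>
    BSW.mem_of_coprime_relIndex sd2.normal.2 (conj_mem_of_norm (norm_le_norm_cent S hn) (wS hw)) (by
      rw [sd2.relIndex_left, c8, orderOf_conj]
      exact (Nat.coprime_two_right.2 (odd_of_mem oW hw)).pow_right 3)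
  have aW := ab_of_isCyclic m.cycW
  have c1 : 𝐍(S) ⊓ 𝐂[t] ≤ 𝐍(S) ⊓ 𝐂(W) := le_inf inf_le_left ((inf_comm _ _).le.trans
    (red _ (le_norm_self S tS) (wS.trans (cent_le_norm S)) _ (le_cent1_iff.1 (hW.trans hH)) aW.le_cent
      (le_cent_of_inf_eq_bot (inf_le_right.trans nW) (le_norm_inf (hW.trans h.norm)
        (le_norm_of_le (wS.trans (cent_le_norm S))))
        (eq_bot_iff.2 ((inf_le_inf_right _ inf_le_left).trans m.inf.le)))))
  have c2 : 𝐍(S) ≤ 𝐂(W) := by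
    have e := relIndex_mul_relIndex _ _ _ c1 inf_le_left
    rw [i7] at e
    rcases (Nat.prime_seven.eq_one_or_self_of_dvd _ ⟨_, e.symm⟩) with e' | e'
    · obtain ⟨n, hn, e⟩ := tr j (vS (t_mem_S4 j s)) m.pair.t_ne
      have h1 := (relIndex_eq_one.1 e' ⟨conj_mem_of_norm' (le_norm_self _ hn) r1.1,
        conj_mem_of_norm' (norm_le_norm_cent W (nW hn)) (c1 r1).2⟩).2
      replace h1 : n⁻¹ * ρ * n ∈ 𝐂[t] := h1
      rw [← mem_conj, ← cent1_conj, e, mem_cent1_iff_conj, hρ.ρt] at h1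
      exact absurd h1.symm m.pair.ne
    · rw [e'] at e
      exact (relIndex_eq_one.1 (by omega)).trans (inf_le_right : 𝐍(S) ⊓ 𝐂(W) ≤ _)
  exact { m with
    simple := h.simple
    ab2 := fun R hR => by
      obtain ⟨g, -, e⟩ := s2.exists_le_conj' le_top hR
      exact ab_of_le (ab_conj.2 ab) e
    t1 := h.t1, t2 := h.t2, conj := cj, cent := fun g => mem_cent1.trans (h.cent g), tH := h.tH
    le := h.le, norm := h.norm, centL := h.centL, oddW := oW, syl := s2, cardS := c8, sq := sq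
    tS := tS, centS := cS', normS := c2, trS := tr
    card_normS := by
      rw [← card_mul_relIndex (inf_le_left : 𝐍(S) ⊓ 𝐂[t] ≤ _), i7, ← card_mul_relIndex
        (le_inf (cent_le_norm S) (cent_le_cent1 tS)), i3, ← sd2.card, c8]
      ring
    exj := ⟨j, ⟨vS (t_mem_S4 j s), m.jL⟩, m.jN, m.jT⟩
    exρ := fun e => (m.exρ e).imp fun ρ e => ⟨⟨e.1.1, nS ⟨hH (h.le (m.uni.le e.1.1)), e.1.2⟩⟩, e.2⟩ }

end FRa

theorem fr2 : FR2.{u} := fun G _ _ t H L F _ _ h => by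
  obtain ⟨e⟩ := h.iso
  obtain ⟨f, hk, rfl⟩ := exists_hom e
  obtain ⟨hs, hn, -⟩ := W3.psl_facts h.five h.mod e
  obtain ⟨p, hp⟩ := CharP.exists F
  obtain ⟨-, p1, -⟩ := FiniteField.card F p
  obtain ⟨r, k, hP⟩ : ∃ r k, Par (Fintype.card F) r k := by
    have := h.five
    rcases h.mod with h | h
    · exact ⟨Fintype.card F / 2, (Fintype.card F + 1) / 4, Nat.odd_iff.2 (by omega),
        Nat.odd_iff.2 (by omega), by omega⟩
    · exact ⟨(Fintype.card F + 1) / 2, Fintype.card F / 4, Nat.odd_iff.2 (by omega),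
        Nat.odd_iff.2 (by omega), by omega⟩
  obtain ⟨W, s, m⟩ := FRa.exists_md hk (lf_map f hk h.five h.mod hs hn p1 hP) ⟨h.le, h.norm⟩ h.odd h.centL
  exact ⟨W, _, _, _, p, r, k, FRa.fr_of_md h m, m.fix⟩

theorem fr : FR.{u} := fun G _ _ t H L F _ _ h =>
  let ⟨W, S, P, T, p, r, k, h, _⟩ := fr2 G t H L F h
  ⟨W, S, P, T, p, r, k, h⟩

end Cfsg.Agent.JR
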