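import Cfsg.Agent.Lib.JR.Hyp
import Cfsg.Agent.Lib.W3.KF
import Cfsg.Agent.Lib.CIT.PSL2
import Cfsg.Agent.Lib.MN.Basic
import Cfsg.Agent.Lib.E8.Dickson

/-!
# The subgroup structure of `L₂(q)` (package LF2)
-/

set_option autoImplicit false
set_option linter.unusedSectionVars false

namespace Cfsg.Agent.JR

open Subgroup Cfsg.Agent.OO Cfsg.Agent.Coprime Cfsg.Agent.Lin Cfsg.Agent.MN Cfsg.Agent.GW Matrix
open scoped commutatorElement Pointwise MatrixGroups

universe u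

namespace L2

variable {G : Type u} [Group G] [Finite G] {L T T' P : Subgroup G} {n p q : ℕ} {g y : G}

theorem tor_conj (h : Tor L T n) (hg : g ∈ L) : Tor L (g •ᶜ T) n := by
  have e := conj_eq_of_mem hg
  refine ⟨conj_le_of_mem hg h.le, isCyclic_conj.2 h.cyc, (card_conj _ _).trans h.card, ?_, ?_, ?_⟩
  · rw [← h.card_norm, norm_conj, ← card_conj g (L ⊓ 𝐍(T)), conj_inf, e]
  · intro a ha ha'
    rw [norm_conj, ← e, ← conj_inf] at ha
    obtain ⟨a, h1, rfl⟩ := mem_conj_iff_exists.1 ha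
    obtain ⟨h2, h3⟩ := h.inv a h1 (conj_mem_conj_iff.not.1 ha')
    refine ⟨by rw [conj_mul, h2, mul_one, mul_inv_cancel], fun x hx => ?_⟩
    obtain ⟨x, h4, rfl⟩ := mem_conj_iff_exists.1 hx
    rw [conj_inv, conj_inv, ← h3 x h4]; group
  · intro a ha a1
    obtain ⟨a, h1, rfl⟩ := mem_conj_iff_exists.1 ha
    rw [← conj_zpowers, norm_conj, norm_conj, ← e, ← conj_inf, ← conj_inf,
      h.norm a h1 fun e => a1 (by simp [e])]

theorem uni_conj (h : Uni L P p q) (hg : g ∈ L) : Uni L (g •ᶜ P) p q := by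
  have e := conj_eq_of_mem hg
  refine ⟨conj_le_of_mem hg h.le, ⟨ab_conj.2 h.elem.1, fun a ha => ?_⟩, (card_conj _ _).trans h.card,
    fun a ha a1 => ?_, fun c hc a ha a1 h2 => ?_, ?_, fun B h1 h2 => ?_⟩
  · obtain ⟨a, h1, rfl⟩ := mem_conj_iff_exists.1 ha
    rw [conj_pow, h.elem.2 a h1, mul_one, mul_inv_cancel]
  · obtain ⟨a, h1, rfl⟩ := mem_conj_iff_exists.1 ha
    rw [cent1_conj, ← e, ← conj_inf, h.cent a h1 fun e => a1 (by simp [e])]
  · obtain ⟨a, h1, rfl⟩ := mem_conj_iff_exists.1 ha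
    rw [norm_conj, mem_conj]
    refine h.ti _ (mul_mem (mul_mem (inv_mem hg) hc) hg) a h1 (fun e => a1 (by simp [e])) ?_
    convert mem_conj.1 h2 using 1; group
  · rw [← h.card_norm, norm_conj, ← card_conj g (L ⊓ 𝐍(P)), conj_inf, e]
  · rw [norm_conj, ← e, ← conj_inf, conj_le_iff_le_inv_conj] at h1
    rw [norm_conj, le_conj_iff_inv_conj_le]
    exact (h.max _ h1 (conj_le_of_mem (inv_mem hg) h2)).imp_right fun e' => by
      rw [← e, ← e', conj_inv_conj]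

theorem tor_eq (h : Tor L T n) (h' : Tor L T' n) (hy : y ∈ T) (hy' : y ∈ T') (y1 : y ≠ 1)
    (h2 : ∀ a ∈ T, a * a = 1 → a ∈ T') : T = T' :=
  eq_of_le_of_card_le (fun a ha => by_contra fun e => e (h2 a ha (h'.inv a (by
    rw [← h'.norm y hy' y1, h.norm y hy y1]; exact ⟨h.le ha, le_norm_self _ ha⟩) e).1))
    (h'.card.trans h.card.symm).le

theorem conj_odd {m : ℕ} (hL : ♯L = n * m) (hc : n.Coprime m) (ho : Odd n) (n1 : n ≠ 1)
    (h : Tor L T n) (h' : Tor L T' n) : ∃ g ∈ L, g •ᶜ T = T' := by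
  obtain ⟨y, hy, y1⟩ := exists_prime_order_mem (H := T) fun e => n1 (by
    rw [← h.card, e, card_bot])
  have := Fact.mk y1
  obtain ⟨S, hS⟩ := exists_syl (orderOf y) T'
  have h1 : Syl (orderOf y) S L := ⟨hS.le.trans h'.le, hS.isPGroup, fun e => by
    rw [← relIndex_mul_relIndex _ _ _ hS.le h'.le] at e
    refine ((Nat.Prime.dvd_mul y1).1 e).elim hS.not_dvd fun e => ?_
    have h3 := card_mul_relIndex h'.le
    rw [h'.card, hL] at h3
    rw [Nat.eq_of_mul_eq_mul_left ho.pos h3] at e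
    exact y1.ne_one (Nat.eq_one_of_dvd_coprimes hc (h.card ▸ OO.orderOf_dvd_card hy) e)⟩
  obtain ⟨g, hg, e⟩ := h1.exists_conj_le (zpowers_le.2 (h.le hy)) (isP_zp rfl)
  refine ⟨g, hg, tor_eq (tor_conj h hg) h' (conj_mem_conj hy)
    (hS.le (e (conj_mem_conj (mem_zpowers y)))) (BSW.conj_ne_one (ne_one_of_prime y1))
    fun a ha a2 => ?_⟩
  rw [eq_one_of_odd_of_sq (odd_of_mem (by rwa [card_conj, h.card]) ha) a2]
  exact one_mem _

theorem conj_even (hi : ∀ a ∈ L, a ≠ 1 → a * a = 1 → ∀ b ∈ L, b ≠ 1 → b * b = 1 →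
      ∃ g ∈ L, g * a * g⁻¹ = b)
    (h : Tor L T (2 * n)) (h' : Tor L T' (2 * n)) : ∃ g ∈ L, g •ᶜ T = T' := by
  obtain ⟨a, ha, a2⟩ := cauchy Nat.prime_two (h.card ▸ dvd_mul_right 2 n : 2 ∣ ♯T)
  obtain ⟨b, hb, b2⟩ := cauchy Nat.prime_two (h'.card ▸ dvd_mul_right 2 n : 2 ∣ ♯T')
  have b1 := ne_one_of_prime (b2 ▸ Nat.prime_two)
  obtain ⟨g, hg, rfl⟩ := hi a (h.le ha) (ne_one_of_prime (a2 ▸ Nat.prime_two))
    (by rw [← pow_two, ← a2, pow_orderOf_eq_one]) b (h'.le hb) b1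
    (by rw [← pow_two, ← b2, pow_orderOf_eq_one])
  have h1 := tor_conj h hg
  refine ⟨g, hg, tor_eq h1 h' (conj_mem_conj ha) hb b1 fun c hc c2 => ?_⟩
  exact zpowers_le.2 hb (le_of_isCyclic_of_card_dvd h1.cyc (zpowers_le.2 hc)
    (zpowers_le.2 (conj_mem_conj ha)) (by
      rw [Nat.card_zpowers, Nat.card_zpowers, b2]
      exact orderOf_dvd_of_pow_eq_one (by rwa [pow_two])) (mem_zpowers c))

variable {F : Type} [Field F] [Fintype F] {x : SL(2, F)}

/-- the matrix with the given entries -/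
def mk2 (a b c d : F) (h : a * d - b * c = 1) : SL(2, F) := ⟨!![a, b; c, d], by rwa [det_fin_two_of]⟩

@[simp] theorem coe_mk2 (a b c d : F) (h : a * d - b * c = 1) : (mk2 a b c d h).1 = !![a, b; c, d] := rfl

theorem exists_inv (hq : Odd (Fintype.card F)) (ht : x.1.trace ^ 2 ≠ 4) :
    ∃ w : SL(2, F), w * x * w⁻¹ = x⁻¹ := by
  have h2 := S4357.two_ne_zero' hq
  have hd := GW.SL.det2 x
  rw [trace_fin_two] at ht
  obtain ⟨u, v, w, h3, h4⟩ : ∃ u v w : F, -u ^ 2 - v * w = 1 ∧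
      u * (x.1 0 0 - x.1 1 1) + v * x.1 1 0 + w * x.1 0 1 = 0 := by
    by_cases hb : x.1 0 1 = 0
    · have : x.1 0 0 - x.1 1 1 ≠ 0 := fun e => ht (by
        rw [hb] at hd; linear_combination 4 * hd + (x.1 0 0 - x.1 1 1) * e)
      exact ⟨-x.1 1 0 / (x.1 0 0 - x.1 1 1), 1, -1 - (-x.1 1 0 / (x.1 0 0 - x.1 1 1)) ^ 2, by ring,
        by rw [hb]; field_simp; ring⟩
    · have hD : (x.1 0 0 + x.1 1 1) ^ 2 - 4 ≠ 0 := sub_ne_zero.2 ht
      obtain ⟨a, b, h⟩ := FiniteField.exists_root_sum_quadratic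
        (f := Polynomial.C (1 : F) * Polynomial.X ^ 2 + Polynomial.C 0 * Polynomial.X + Polynomial.C 1)
        (g := Polynomial.C (-((x.1 0 0 + x.1 1 1) ^ 2 - 4)) * Polynomial.X ^ 2 +
          Polynomial.C 0 * Polynomial.X + Polynomial.C 0)
        (Polynomial.degree_quadratic one_ne_zero) (Polynomial.degree_quadratic (neg_ne_zero.2 hD))
        (Nat.odd_iff.1 hq)
      simp at h
      refine ⟨a + (x.1 0 0 - x.1 1 1) * b, 2 * x.1 0 1 * b,
        -((a + (x.1 0 0 - x.1 1 1) * b) * (x.1 0 0 - x.1 1 1) + 2 * x.1 0 1 * b * x.1 1 0) / x.1 0 1,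
        ?_, by field_simp; ring⟩
      field_simp
      linear_combination -h - 4 * b ^ 2 * hd
  refine ⟨mk2 u v w (-u) (by linear_combination h3), mul_inv_eq_iff_eq_mul.2 (Subtype.ext ?_)⟩
  ext i j
  fin_cases i <;> fin_cases j <;> simp [mul_apply, Fin.sum_univ_two, adjugate_fin_two] <;>
    first | linear_combination h4 | linear_combination -h4 | ring

theorem inv_of_norm {g y : SL(2, F)} (h2 : (2 : F) ≠ 0) (ht : x.1.trace ^ 2 ≠ 4) (hg : g ∈ 𝐍(𝐂[x]))
    (hg' : g ∉ 𝐂[x]) (hy : y ∈ 𝐂[x]) : g * y * g⁻¹ = y⁻¹ := by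
  by_cases h : y ∈ center SL(2, F)
  · rw [mem_center_iff.1 h g, mul_inv_cancel_right, eq_inv_iff_mul_eq_one, ← pow_two,
      SL2.sq_eq_one_of_mem_center h]
  have e := SL2.centralizer_eq h (SL2.notMem_center_of_trace ht) (mem_cent1.1 hy)
  refine (SL2.eq_or_eq_inv h2 (fun e' => ht (CIT.trace_sq_of_cent h e' (mem_cent1_comm.1 hy)))
    (mem_cent1.1 (e ▸ conj_mem_of_norm hg hy)) (isConj_iff.2 ⟨g, rfl⟩)).resolve_left fun e' =>
      hg' (e ▸ mem_cent1_iff_conj.2 e')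

theorem card_norm_cent (hq : Odd (Fintype.card F)) (ht : x.1.trace ^ 2 ≠ 4) :
    ♯𝐍(𝐂[x]) = 2 * ♯𝐂[x] := by
  have h2 := S4357.two_ne_zero' hq
  obtain ⟨w, hw⟩ := exists_inv hq ht
  have h1 : w ∉ 𝐂[x] := fun e => SL2.notMem_center_of_trace ht (SL2.mem_center_of_sq_eq_one h2 (by
    rw [pow_two, ← eq_inv_iff_mul_eq_one, ← hw, mem_cent1_iff_conj.1 e]))
  rw [← card_mul_relIndex (le_norm_self _), mul_comm, relIndex_eq_two_iff.2 ⟨w, conj_eq_self_iff.1 (by
    rw [← cent1_conj, hw, cent1_inv]), fun b hb => ?_⟩]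
  by_cases e : b ∈ 𝐂[x]
  · exact .inr ⟨e, fun e' => h1 ((mul_mem_cancel_left e).1 e')⟩
  · refine .inl ⟨mem_cent1_iff_conj.2 ?_, e⟩
    rw [show b * w * x * (b * w)⁻¹ = b * (w * x * w⁻¹) * b⁻¹ by group, hw,
      inv_of_norm h2 ht hb e (inv_mem (mem_cent1_self x)), inv_inv]

/-- upper triangular matrices -/
def Bo (F : Type) [Field F] : Subgroup SL(2, F) where
  carrier := {y | y.1 1 0 = 0}
  mul_mem' := fun {a b} (ha : _ = _) (hb : _ = _) => by
    simp [mul_apply, Fin.sum_univ_two, ha, hb]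
  one_mem' := by simp
  inv_mem' := fun {a} (ha : _ = _) => by simp [adjugate_fin_two, ha]

/-- upper triangular matrices with equal diagonal entries -/
def Un (F : Type) [Field F] : Subgroup SL(2, F) where
  carrier := {y | y.1 1 0 = 0 ∧ y.1 0 0 = y.1 1 1}
  mul_mem' := fun {a b} (ha : _ ∧ _) (hb : _ ∧ _) => by
    simp [mul_apply, Fin.sum_univ_two, ha.1, hb.1, ha.2, hb.2]
  one_mem' := by simp
  inv_mem' := fun {a} (ha : _ ∧ _) => by simp [adjugate_fin_two, ha.1, ha.2]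

theorem mem_Bo : x ∈ Bo F ↔ x.1 1 0 = 0 := Iff.rfl

theorem mem_Un : x ∈ Un F ↔ x.1 1 0 = 0 ∧ x.1 0 0 = x.1 1 1 := Iff.rfl

theorem mem_center : x ∈ center SL(2, F) ↔ x.1 0 1 = 0 ∧ x.1 1 0 = 0 ∧ x.1 0 0 = x.1 1 1 :=
  SL2.mem_center_iff_scalar.trans mem_range_scalar_two_iff

theorem center_le_Un : center SL(2, F) ≤ Un F := fun _ h => (mem_center.1 h).2

theorem Un_le_Bo : Un F ≤ Bo F := fun _ h => h.1

theorem cent_Un (hx : x ∈ Un F) (h : x ∉ center SL(2, F)) : 𝐂[x] = Un F := by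
  have h1 : x.1 0 1 ≠ 0 := fun e => h (mem_center.2 ⟨e, hx⟩)
  ext y
  rw [mem_cent1, mem_Un]
  refine ⟨fun e => ?_, fun e => Subtype.ext ?_⟩
  · have h2 := congrArg (fun z => z.1 0 0) e
    have h3 := congrArg (fun z => z.1 0 1) e
    simp [mul_apply, Fin.sum_univ_two, hx.1, hx.2] at h2 h3
    exact ⟨mul_left_cancel₀ h1 (by linear_combination -h2),
      mul_left_cancel₀ h1 (by linear_combination h3)⟩
  · ext i j
    fin_cases i <;> fin_cases j <;> simp [mul_apply, Fin.sum_univ_two, hx.1, hx.2, e.1, e.2] <;> ring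

theorem mem_Bo_of_conj {g : SL(2, F)} (hx : x ∈ Un F) (h : x ∉ center SL(2, F))
    (hg : g * x * g⁻¹ ∈ Un F) : g ∈ Bo F := by
  have h1 : x.1 0 1 ≠ 0 := fun e => h (mem_center.2 ⟨e, hx⟩)
  have h2 := hg.1
  simp [mul_apply, Fin.sum_univ_two, hx.1, hx.2, adjugate_fin_two] at h2
  exact pow_eq_zero_iff two_ne_zero |>.1 (mul_left_cancel₀ h1 (by linear_combination -h2 :
    x.1 0 1 * g.1 1 0 ^ 2 = x.1 0 1 * 0))

/-- the unitriangular matrices -/
def um (t : F) : SL(2, F) := mk2 1 t 0 1 (by simp)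

theorem um_mem (t : F) : um t ∈ Un F := by simp [mem_Un, um]

theorem norm_Un : 𝐍(Un F) = Bo F := by
  refine le_antisymm (fun g hg => mem_Bo_of_conj (um_mem 1) (by simp [mem_center, um])
    (conj_mem_of_norm hg (um_mem 1))) fun g hg => mem_norm_of_conj_mem fun x hx => ?_
  rw [mem_Un]
  simp [mul_apply, Fin.sum_univ_two, hx.1, hx.2, adjugate_fin_two, mem_Bo.1 hg]
  ring

theorem card_Bo : ♯(Bo F) = Fintype.card F * (Fintype.card F - 1) := by
  rw [← Nat.card_eq_fintype_card, ← Nat.card_units, ← Nat.card_prod]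
  refine (Nat.card_eq_of_bijective (fun z : F × Fˣ => (⟨mk2 z.2 z.1 0 z.2⁻¹ (by simp), by
    simp [mem_Bo]⟩ : Bo F)) ⟨fun a b e => ?_, fun y => ?_⟩).symm
  · exact Prod.ext (congrArg (fun z => z.1.1 0 1) e) (Units.ext (congrArg (fun z => z.1.1 0 0) e))
  · have hd := SL.det2 y.1
    rw [mem_Bo.1 y.2, mul_zero, sub_zero] at hd
    refine ⟨(y.1.1 0 1, Units.mk0 (y.1.1 0 0) (left_ne_zero_of_mul_eq_one hd)),
      Subtype.ext (Subtype.ext ?_)⟩
    ext i j
    fin_cases i <;> fin_cases j <;> simp [mem_Bo.1 y.2, eq_inv_of_mul_eq_one_right hd]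

theorem eq_top_of_Bo {C : Subgroup SL(2, F)} (hC : Bo F ≤ C) (hx : x ∈ C) (h : x ∉ Bo F) : C = ⊤ := by
  have key : ∀ y : SL(2, F), y ∉ Bo F → ∃ a ∈ Bo F, ∃ b ∈ Bo F,
      y = a * mk2 0 1 (-1) 0 (by simp) * b := fun y hy => by
    have h0 : y.1 1 0 ≠ 0 := hy
    have hd := SL.det2 y
    refine ⟨um (y.1 0 0 / y.1 1 0), Un_le_Bo (um_mem _), mk2 (-y.1 1 0) (-y.1 1 1) 0 (-(y.1 1 0)⁻¹)
      (by simp [h0]), by simp [mem_Bo], Subtype.ext ?_⟩
    ext i j
    fin_cases i <;> fin_cases j <;> simp [mul_apply, Fin.sum_univ_two, um, h0]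
    field_simp
    linear_combination -hd
  obtain ⟨a, ha, b, hb, rfl⟩ := key x h
  rw [mul_mem_cancel_right (hC hb), mul_mem_cancel_left (hC ha)] at hx
  refine top_le_iff.1 fun y _ => by_contra fun e => ?_
  obtain ⟨a, ha, b, hb, rfl⟩ := key y fun e' => e (hC e')
  exact e (mul_mem (mul_mem (hC ha) hx) (hC hb))

theorem exists_conj_Un (h2 : (2 : F) ≠ 0) (ht : x.1.trace ^ 2 = 4) :
    ∃ g : SL(2, F), x ∈ g •ᶜ Un F := by
  have hd := SL.det2 x
  rw [trace_fin_two] at ht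
  by_cases h : x.1 1 0 = 0
  · refine ⟨1, (one_conj (Un F)).ge ⟨h, sub_eq_zero.1 (pow_eq_zero_iff two_ne_zero |>.1 ?_)⟩⟩
    rw [h] at hd
    linear_combination ht - 4 * hd
  refine ⟨mk2 ((x.1 0 0 - x.1 1 1) / (2 * x.1 1 0)) (-1) 1 0 (by simp),
    mem_conj.2 (mem_Un.2 ?_)⟩
  simp [mul_apply, Fin.sum_univ_two, adjugate_fin_two, vecMul, dotProduct]
  constructor <;> field_simp
  · linear_combination -ht + 4 * hd
  · ring

variable (f : SL(2, F) →* G) (hk : f.ker = center SL(2, F)) {C : Subgroup SL(2, F)}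
include hk

theorem mem_map_iff (hC : center _ ≤ C) : f x ∈ C.map f ↔ x ∈ C := by
  rw [← mem_comap, comap_map_eq, hk, sup_eq_left.2 hC]

theorem card_map (h2 : (2 : F) ≠ 0) (hC : center _ ≤ C) : 2 * ♯(C.map f) = ♯C := by
  rw [← relIndex_ker, hk, ← card_mul_relIndex hC, E8.card_center_SL2' h2]

theorem norm_map (hC : center _ ≤ C) : f.range ⊓ 𝐍(C.map f) = 𝐍(C).map f := by
  refine le_antisymm ?_ (le_inf (map_le_range _ _) (map_norm_le _ _))
  rintro _ ⟨⟨g, rfl⟩, hg⟩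
  refine mem_map_of_mem f (mem_norm_of_conj_mem fun y hy => (mem_map_iff f hk hC).1 ?_)
  simpa using conj_mem_of_norm hg (mem_map_of_mem f hy)

theorem tor_map (hq : Odd (Fintype.card F)) (ht : x.1.trace ^ 2 ≠ 4) (hn : ♯𝐂[x] = 2 * n) :
    Tor f.range (𝐂[x].map f) n := by
  have h2 := S4357.two_ne_zero' hq
  have hC := center_le_centralizer ({x} : Set SL(2, F))
  have h1 := card_map f hk h2 hC
  have h3 := card_map f hk h2 (hC.trans (le_norm_self _))
  have := CIT.isCyclic_cent ht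
  have hc : IsCyclic (𝐂[x].map f) := isCyclic_of_surjective _ (f.subgroupMap_surjective _)
  rw [card_norm_cent hq ht] at h3
  refine ⟨map_le_range _ _, hc, by omega, by rw [norm_map f hk hC]; omega, ?_, ?_⟩
  · rw [norm_map f hk hC]
    rintro _ ⟨g, hg, rfl⟩ hg'
    replace hg' : g ∉ 𝐂[x] := fun e => hg' (mem_map_of_mem f e)
    have h4 := inv_of_norm h2 ht hg hg' (mem_cent1_self x)
    have h5 := inv_of_norm h2 ht hg hg' (y := g * g) (mem_cent1_iff_conj.2 (by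
      rw [show g * g * x * (g * g)⁻¹ = g * (g * x * g⁻¹) * g⁻¹ by group, h4,
        inv_of_norm h2 ht hg hg' (inv_mem (mem_cent1_self x)), inv_inv]))
    refine ⟨?_, ?_⟩
    · rw [← map_mul, ← MonoidHom.mem_ker, hk]
      refine SL2.mem_center_of_sq_eq_one h2 ?_
      rw [pow_two, ← eq_inv_iff_mul_eq_one, ← h5]; group
    · rintro _ ⟨y, hy, rfl⟩
      rw [← map_inv, ← map_mul, ← map_mul, inv_of_norm h2 ht hg hg' hy, map_inv]
  · rintro _ ⟨y, hy, rfl⟩ y1
    refine le_antisymm ?_ (inf_le_inf_left _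
      (norm_le_norm_of_isCyclic hc (zpowers_le.2 (mem_map_of_mem f hy))))
    rintro _ ⟨⟨g, rfl⟩, hg⟩
    have hx := SL2.notMem_center_of_trace ht
    have h4 : y ∉ center SL(2, F) := fun e => y1 (hk.ge e)
    have h5 : g * y * g⁻¹ ∈ 𝐂[x] := (mem_map_iff f hk hC).1 (zpowers_le.2 (mem_map_of_mem f hy) (by
      simpa using conj_mem_of_norm hg (mem_zpowers _)))
    refine ⟨⟨g, rfl⟩, map_norm_le f _ (mem_map_of_mem f (conj_eq_self_iff.1 ?_))⟩
    have h6 := SL2.centralizer_eq (x := g * y * g⁻¹) (fun e => h4 (by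
      simpa [mul_assoc] using Normal.conj_mem' inferInstance _ e g)) hx (mem_cent1.1 h5)
    rwa [cent1_conj, SL2.centralizer_eq h4 hx (mem_cent1.1 hy)] at h6

theorem uni_map (hq : Odd (Fintype.card F)) (hp : p.Prime) [CharP F p] :
    Uni f.range ((Un F).map f) p (Fintype.card F) := by
  have h2 := S4357.two_ne_zero' hq
  have h1 : ∀ y ∈ (Un F).map f, y ^ p = 1 := by
    rintro _ ⟨y, hy, rfl⟩
    have hd := SL.det2 y
    rw [← map_pow, ← MonoidHom.mem_ker, hk]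
    refine SL2.mem_center_of_sq_eq_one h2 ?_
    rw [← pow_mul, mul_comm, SL2.pow_eq_one_of_trace p]
    rw [hy.1, hy.2] at hd
    rw [trace_fin_two, hy.2]
    linear_combination 4 * hd
  have h3 := norm_map f hk center_le_Un
  rw [norm_Un] at h3
  refine ⟨map_le_range _ _, ⟨ab_map (ab_iff.2 fun a ha b hb => ?_) f, h1⟩, ?_, fun y hy y1 => ?_,
    ?_, ?_, fun B hB hB' => or_iff_not_imp_left.2 fun e => ?_⟩
  · by_cases e : b ∈ center SL(2, F)
    · exact mem_center_iff.1 e a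
    · exact mem_cent1.1 (cent_Un hb e ▸ ha)
  · rw [← Nat.card_eq_fintype_card]
    refine (Nat.card_eq_of_bijective (fun t : F => (⟨f (um t), mem_map_of_mem f (um_mem t)⟩ :
      (Un F).map f)) ⟨fun a b e => ?_, ?_⟩).symm
    · have h4 := mem_center.1 (hk.le (MonoidHom.eq_iff f |>.1 (congrArg Subtype.val e)))
      simp [mul_apply, Fin.sum_univ_two, adjugate_fin_two, um] at h4
      linear_combination h4
    · rintro ⟨_, y, hy, rfl⟩
      have hd := SL.det2 y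
      rw [hy.1, hy.2] at hd
      refine ⟨y.1 1 1 * y.1 0 1, Subtype.ext (MonoidHom.eq_iff f |>.2 (hk.ge (mem_center.2 ?_)))⟩
      simp [mul_apply, Fin.sum_univ_two, adjugate_fin_two, um, hy.1, hy.2]
      linear_combination y.1 0 1 * hd
  · have ho : Odd (orderOf y) := Odd.of_dvd_nat (hp.odd_of_ne_two fun e => h2 (by
      subst e; exact CharP.cast_eq_zero F 2)) (orderOf_dvd_of_pow_eq_one (h1 y hy))
    obtain ⟨z, rfl, hz⟩ := exists_lift f hk (map_le_range _ _ hy) ho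
    rw [← cent_Un ((mem_map_iff f hk center_le_Un).1 hy) fun e => y1 (hk.ge e)]
    refine le_antisymm ?_ ?_
    · rintro _ ⟨⟨g, rfl⟩, hg⟩
      exact mem_map_of_mem f (mem_cent1.2 (commute_of_map f hk (hz ▸ ho) hg))
    · rintro _ ⟨g, hg, rfl⟩
      exact ⟨⟨g, rfl⟩, mem_cent1.2 (by rw [← map_mul, mem_cent1.1 hg, map_mul])⟩
  · rintro _ ⟨g, rfl⟩ _ ⟨y, hy, rfl⟩ y1 hg
    exact (h3.ge (mem_map_of_mem f (mem_Bo_of_conj hy (fun e => y1 (hk.ge e))
      ((mem_map_iff f hk center_le_Un).1 (by simpa using hg))))).2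
  · rw [h3, card_map f hk h2 (center_le_Un.trans Un_le_Bo), card_Bo]
  · obtain ⟨g, hg, hg'⟩ := SetLike.not_le_iff_exists.1 e
    obtain ⟨g, rfl⟩ := hB' hg
    rw [h3, map_le_iff_le_comap] at hB
    rw [← map_comap_eq_self hB', eq_top_of_Bo hB hg fun e => hg' (h3.ge (mem_map_of_mem f e)).2,
      MonoidHom.range_eq_map]

theorem lf_map (h5 : 5 ≤ Fintype.card F) (h8 : Fintype.card F % 8 = 3 ∨ Fintype.card F % 8 = 5)
    (hs : IsSimpleGroup f.range) (hn : ¬ IsMulCommutative f.range) (hp : p.Prime) [CharP F p]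
    {r k : ℕ} (hP : Par (Fintype.card F) r k) : LF f.range p (Fintype.card F) r k := by
  have hq : Odd (Fintype.card F) := Nat.odd_iff.2 (by omega)
  have h2 := S4357.two_ne_zero' hq
  have := Fact.mk hp
  have h1 := card_map f hk h2 (le_top : _ ≤ ⊤)
  rw [← MonoidHom.range_eq_map, card_top, card_SL2] at h1
  obtain ⟨r1, k1, hP'⟩ := hP
  have hc : ♯f.range = 4 * Fintype.card F * r * k := by
    refine Nat.eq_of_mul_eq_mul_left two_pos (h1.trans ?_)
    rcases hP' with ⟨e1, e2⟩ | ⟨e1, e2⟩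
    · rw [← e2, show Fintype.card F - 1 = 4 * k by omega]; ring
    · rw [e1, show Fintype.card F - 1 = 2 * r by omega]; ring
  have hS : Smp f.range := fun N hN => (hN.subgroupOf.eq_bot_or_eq_top).imp
    (fun e => by rw [← inf_eq_left.2 hN.le, ← subgroupOf_eq_bot.1 e |>.eq_bot])
    fun e => le_antisymm hN.le (subgroupOf_eq_top.1 e)
  have hi : ∀ a ∈ f.range, a ≠ 1 → a * a = 1 → ∀ b ∈ f.range, b ≠ 1 → b * b = 1 →
      ∃ g ∈ f.range, g * a * g⁻¹ = b := fun a ha a1 a2 b hb b1 b2 => by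
    obtain ⟨-, t, s, ρ, hV⟩ := exists_v4 hn (by
      rw [card_top, hc, mul_assoc, mul_assoc]
      exact fun e => (hq.mul (r1.mul k1)).not_two_dvd_nat
        (Nat.dvd_of_mul_dvd_mul_left (by decide : 0 < 4) e))
    obtain ⟨g, -, e⟩ := hV.exists_conj (a := ⟨a, ha⟩) trivial (fun e => a1 (congrArg Subtype.val e))
      (Subtype.ext a2)
    obtain ⟨g', -, e'⟩ := hV.exists_conj (a := ⟨b, hb⟩) trivial (fun e => b1 (congrArg Subtype.val e))
      (Subtype.ext b2)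
    refine ⟨_, (g' * g⁻¹).2, ?_⟩
    rw [← show _ = a from congrArg Subtype.val e, ← show _ = b from congrArg Subtype.val e']
    simp [mul_assoc]
  refine ⟨hp, ?_, h5, ⟨r1, k1, hP'⟩, hc, hS, hS.perfect hn, hi, ?_, fun T T' => conj_odd
    (m := 4 * Fintype.card F * k) (by rw [hc]; ring) ?_ r1 (by omega), fun T T' => conj_even hi⟩
  · obtain ⟨m, -, hm⟩ := FiniteField.card F p
    refine ⟨m, Nat.not_even_iff_odd.1 ?_, hm⟩
    rintro ⟨j, hj⟩
    rw [hj, pow_add] at hm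
    have : (p ^ j * p ^ j) % 8 = 0 ∨ (p ^ j * p ^ j) % 8 = 1 ∨ (p ^ j * p ^ j) % 8 = 4 := by
      rw [Nat.mul_mod]
      have := Nat.mod_lt (p ^ j) (by decide : 0 < 8)
      generalize p ^ j % 8 = c at *
      interval_cases c <;> simp
    omega
  · rintro _ ⟨x, rfl⟩ x1
    by_cases ht : x.1.trace ^ 2 = 4
    · obtain ⟨g, hg⟩ := exists_conj_Un h2 ht
      exact ⟨_, map_conj f g _ ▸ mem_map_of_mem f hg, .inl (uni_conj (uni_map f hk hq hp) ⟨g, rfl⟩)⟩
    · refine ⟨_, mem_map_of_mem f (mem_cent1_self x), .inr ?_⟩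
      have := SL2.card_centralizer h2 ht
      by_cases e : ♯𝐂[x] = 2 * r
      exacts [.inl (tor_map f hk hq ht e), .inr (tor_map f hk hq ht (by omega))]
  · refine Nat.Coprime.mul_right (Nat.Coprime.mul_right ((Nat.coprime_two_right.2 r1).pow_right 2) ?_) ?_
    · refine Nat.Coprime.coprime_mul_left (k := 2) ?_
      rcases hP' with ⟨e1, e2⟩ | ⟨e1, e2⟩
      · simp [e2]
      · simp [← e2]
    · refine Nat.Coprime.coprime_mul_left_right (k := 2) ?_
      rcases hP' with ⟨e1, e2⟩ | ⟨e1, e2⟩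
      · simp [show r = 2 * k + 1 by omega]
      · simp [show 2 * k = r + 1 by omega]

omit hk in
theorem exists_hom (e : L ≃* PSL(2, F)) :
    ∃ f : SL(2, F) →* G, f.ker = center SL(2, F) ∧ f.range = L := by
  refine ⟨(L.subtype.comp e.symm.toMonoidHom).comp (QuotientGroup.mk' _), ?_, ?_⟩
  · rw [← MonoidHom.comap_ker, (MonoidHom.ker_eq_bot_iff (L.subtype.comp e.symm.toMonoidHom)).2
      (L.subtype_injective.comp e.symm.injective), MonoidHom.comap_bot, QuotientGroup.ker_mk']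
  · rw [MonoidHom.range_comp, QuotientGroup.range_mk', ← MonoidHom.range_eq_map, MonoidHom.range_comp,
      MonoidHom.range_eq_top.2 e.symm.surjective, map_subtype_top]

end L2

theorem lf2 : LF2.{u} := fun G _ _ L F _ _ h5 h8 ⟨e⟩ => by
  obtain ⟨f, hk, rfl⟩ := L2.exists_hom e
  obtain ⟨hs, hn, -⟩ := W3.psl_facts h5 h8 e
  obtain ⟨p, hp⟩ := CharP.exists F
  obtain ⟨-, p1, -⟩ := FiniteField.card F p
  rcases h8 with h | h
  · exact ⟨p, _, _, L2.lf_map f hk h5 (.inl h) hs hn p1 (r := Fintype.card F / 2)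
      (k := (Fintype.card F + 1) / 4) ⟨Nat.odd_iff.2 (by omega), Nat.odd_iff.2 (by omega), by omega⟩⟩
  · exact ⟨p, _, _, L2.lf_map f hk h5 (.inr h) hs hn p1 (r := (Fintype.card F + 1) / 2)
      (k := Fintype.card F / 4) ⟨Nat.odd_iff.2 (by omega), Nat.odd_iff.2 (by omega), by omega⟩⟩

end Cfsg.Agent.JR
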