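import Cfsg.Agent.Lib.JR.T3
import Cfsg.Agent.Lib.JR.LF2

/-!
# Groups of Janko-Ree type: conjugating a frame, and its first properties
-/

set_option autoImplicit false

namespace Cfsg.Agent.JR

open Subgroup Cfsg.Agent.OO Cfsg.Agent.Coprime Cfsg.Agent.R1 Cfsg.Agent.GW
open scoped commutatorElement Pointwise

universe u

variable {G : Type u} [Group G] {H L W S P T X U : Subgroup G} {p q r k n : ℕ} {a b g t u v x y : G}

theorem forall_conj {A : G → Prop} : (∀ x ∈ g •ᶜ X, A x) ↔ ∀ x ∈ X, A (g * x * g⁻¹) :=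
  ⟨fun h x hx => h _ (conj_mem_conj hx), fun h x hx => by
    obtain ⟨y, hy, rfl⟩ := mem_conj_iff_exists.1 hx; exact h y hy⟩

theorem cj_mul (g a b : G) : g * a * g⁻¹ * (g * b * g⁻¹) = g * (a * b) * g⁻¹ := by group

theorem cj_cj (g a b : G) :
    g * a * g⁻¹ * (g * b * g⁻¹) * (g * a * g⁻¹)⁻¹ = g * (a * b * a⁻¹) * g⁻¹ := by group

theorem mul_cj (a b y : G) : a * b * y * (a * b)⁻¹ = a * (b * y * b⁻¹) * a⁻¹ := by group

theorem cj_inj : g * a * g⁻¹ = g * b * g⁻¹ ↔ a = b := by simp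

theorem cj_one : g * a * g⁻¹ = 1 ↔ a = 1 := not_iff_not.1 conj_ne_one

theorem cj_inv (g a : G) : (g * a * g⁻¹)⁻¹ = g * a⁻¹ * g⁻¹ := by group

theorem Tor.conj (h : Tor L T n) (g : G) : Tor (g •ᶜ L) (g •ᶜ T) n where
  le := conj_mono g h.le
  cyc := isCyclic_conj.2 h.cyc
  card := by rw [card_conj, h.card]
  card_norm := by rw [norm_conj, ← conj_inf, card_conj, h.card_norm]
  inv := by
    simpa only [norm_conj, ← conj_inf, forall_conj, conj_mem_conj_iff, cj_cj, cj_mul, cj_inv, cj_inj,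
      cj_one] using h.inv
  norm := by
    simpa only [norm_conj, ← conj_inf, forall_conj, ← conj_zpowers, conj_ne_one, conj_inj] using h.norm

theorem Uni.conj (h : Uni L P p q) (g : G) : Uni (g •ᶜ L) (g •ᶜ P) p q where
  le := conj_mono g h.le
  elem := abelem_conj.2 h.elem
  card := by rw [card_conj, h.card]
  cent := by simpa only [forall_conj, cent1_conj, ← conj_inf, conj_ne_one, conj_inj] using h.cent
  ti := by
    simpa only [forall_conj, norm_conj, conj_mem_conj_iff, cj_cj, conj_ne_one] using h.ti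
  card_norm := by rw [norm_conj, ← conj_inf, card_conj, h.card_norm]
  max := fun B h1 h2 => by
    rw [norm_conj, ← conj_inf, conj_le_iff_le_inv_conj] at h1
    rw [norm_conj, le_conj_iff_inv_conj_le, eq_comm, conj_eq_iff_eq_inv_conj, eq_comm]
    exact h.max _ h1 (le_conj_iff_inv_conj_le.1 h2)

theorem Tor.conj_mem (h : Tor L T n) (hg : g ∈ 𝐍(L)) : Tor L (g •ᶜ T) n :=
  conj_eq_of_mem_norm hg ▸ h.conj g

theorem Uni.conj_mem (h : Uni L P p q) (hg : g ∈ 𝐍(L)) : Uni L (g •ᶜ P) p q :=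
  conj_eq_of_mem_norm hg ▸ h.conj g

theorem LF.conj (h : LF L p q r k) (g : G) : LF (g •ᶜ L) p q r k :=
  have c : ∀ n, (∀ T T', Tor L T n → Tor L T' n → ∃ g ∈ L, g •ᶜ T = T') → ∀ T T', Tor (g •ᶜ L) T n →
      Tor (g •ᶜ L) T' n → ∃ a ∈ g •ᶜ L, a •ᶜ T = T' := fun n e T T' h1 h2 => by
    obtain ⟨a, ha, e⟩ := e _ _ (inv_conj_conj g L ▸ h1.conj g⁻¹) (inv_conj_conj g L ▸ h2.conj g⁻¹)
    refine ⟨_, conj_mem_conj ha, ?_⟩
    rw [← conj_conj, ← conj_conj, e, conj_inv_conj]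
  { h with
    card := by rw [card_conj, h.card]
    smp := fun N hN => (h.smp _ (inv_conj_conj g L ▸ hN.conj g⁻¹)).imp conj_eq_bot_iff.1
      fun e => by rw [← e, conj_inv_conj]
    perfect := by rw [der_conj, h.perfect]
    inv := by
      simp only [forall_conj, conj_ne_one, cj_mul, cj_one]
      intro a ha a1 a2 b hb b1 b2
      obtain ⟨c, hc, e⟩ := h.inv a ha a1 a2 b hb b1 b2
      exact ⟨_, conj_mem_conj hc, by rw [cj_cj, e]⟩
    part := forall_conj.2 fun y hy y1 => by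
      obtain ⟨T, hT, e⟩ := h.part y hy (conj_ne_one.1 y1)
      exact ⟨_, conj_mem_conj hT, e.imp (·.conj g) (.imp (·.conj g) (·.conj g))⟩
    conjR := c _ h.conjR
    conjK := c _ h.conjK }

theorem Fr.cj (h : Fr t H L W S P T p q r k) (g : G) : Fr (g * t * g⁻¹) (g •ᶜ H) (g •ᶜ L) (g •ᶜ W)
    (g •ᶜ S) (g •ᶜ P) (g •ᶜ T) p q r k where
  toLF := h.toLF.conj g
  simple := h.simple
  ab2 := h.ab2
  t1 := conj_ne_one.2 h.t1
  t2 := conj_sq h.t2 g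
  conj := fun a a1 a2 => by
    obtain ⟨c, rfl⟩ := h.conj a a1 a2
    exact ⟨c * g⁻¹, by group⟩
  cent := fun c => by
    rw [cent1_conj, mem_conj, mem_conj, mem_conj, h.cent,
      show g⁻¹ * (c * (g * t * g⁻¹)) * g = g⁻¹ * c * g * t by group]
  tH := by rw [conj_mem_conj_iff]; exact h.tH
  le := conj_mono g h.le
  norm := conj_le_norm_conj.2 h.norm
  centL := by rw [cent_conj, ← conj_inf, h.centL, conj_bot]
  sup := by rw [← conj_sup, h.sup]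
  inf := by rw [← conj_inf, h.inf, conj_bot]
  cycW := isCyclic_conj.2 h.cycW
  oddW := by rw [card_conj]; exact h.oddW
  cardW := by rw [card_conj]; exact h.cardW
  syl := h.syl.conj_of_mem (mem_top g)
  cardS := by rw [card_conj, h.cardS]
  sq := forall_conj.2 fun s hs => conj_sq (h.sq s hs) g
  tS := conj_mem_conj h.tS
  centS := by rw [cent_conj, h.centS, conj_sup]
  normS := by rw [norm_conj, cent_conj]; exact conj_mono g h.normS
  card_normS := by rw [norm_conj, card_conj, card_conj, h.card_normS]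
  trS := forall_conj.2 fun s hs s1 => by
    obtain ⟨c, hc, e⟩ := h.trS s hs (conj_ne_one.1 s1)
    exact ⟨_, norm_conj g S ▸ conj_mem_conj hc, by rw [cj_cj, e]⟩
  uni := h.uni.conj g
  tor := h.tor.conj g
  TP := conj_le_norm_conj.2 h.TP
  WP := conj_le_norm_conj.2 h.WP
  WT := conj_le_norm_conj.2 h.WT
  centP := by rw [cent_conj, ← conj_inf, h.centP]
  exj := by
    obtain ⟨j, h1, h2, h3⟩ := h.exj
    exact ⟨_, conj_inf g S L ▸ conj_mem_conj h1, norm_conj g T ▸ conj_mem_conj h2,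
      fun e => h3 (conj_mem_conj_iff.1 e)⟩
  exρ := fun e => by
    obtain ⟨ρ, h1, h2⟩ := h.exρ e
    exact ⟨_, by rw [norm_conj, ← conj_inf]; exact conj_mem_conj h1, conj_ne_one.2 h2⟩
  exx := fun e => by
    obtain ⟨x, h1, h2, h3, h4⟩ := h.exx e
    exact ⟨_, conj_mem_conj h1, by rwa [orderOf_conj], by rwa [orderOf_conj, card_conj],
      by rw [cent1_conj, ← conj_inf, h4]⟩

variable [Finite G]

namespace Tor

variable (h : Tor L T n)
include h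

theorem ab : Ab T := ab_of_isCyclic h.cyc

theorem exists_inv : ∃ j ∈ L ⊓ 𝐍(T), j ∉ T := SetLike.not_le_iff_exists.1 fun e => by
  have h1 := card_le e
  have h2 := card_pos' T
  rw [h.card_norm, ← h.card] at h1
  omega

theorem cent (hy : y ∈ T) (y2 : y * y ≠ 1) : L ⊓ 𝐂[y] = T :=
  le_antisymm (fun g hg => by_contra fun e => y2 (by
    have := (h.inv g (h.norm y hy (fun e => y2 (by simp [e])) ▸ ⟨hg.1, cent_le_norm _
      (cent_zpowers y ▸ hg.2)⟩) e).2 y hy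
    rwa [mem_cent1_iff_conj.1 hg.2, eq_inv_iff_mul_eq_one] at this))
    (le_inf h.le (h.ab.le_cent.trans (cent_le_cent1 hy)))

theorem cent_inv (hv : v ∈ T) (v1 : v ≠ 1) (v2 : v * v = 1) : L ⊓ 𝐂[v] = L ⊓ 𝐍(T) := by
  rw [← h.norm v hv v1]
  refine le_antisymm (inf_le_inf_left _ (cent_zpowers v ▸ cent_le_norm _)) fun g hg =>
    ⟨hg.1, mem_cent1_iff_conj.2 (((mem_zp v2).1 (conj_mem_of_norm hg.2 (mem_zpowers v))).resolve_left
      (conj_ne_one.2 v1))⟩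

/-- the normalizer of a torus is generated by involutions -/
theorem exists_mul (hg : g ∈ L ⊓ 𝐍(T)) :
    ∃ a ∈ L ⊓ 𝐍(T), ∃ b ∈ L ⊓ 𝐍(T), a * a = 1 ∧ b * b = 1 ∧ g = a * b := by
  by_cases e : g ∈ T
  · obtain ⟨j, hj, j1⟩ := h.exists_inv
    exact ⟨g * j, mul_mem hg hj, j, hj, (h.inv _ (mul_mem hg hj) fun e' =>
      j1 ((mul_mem_cancel_left e).1 e')).1, (h.inv j hj j1).1, by
        rw [mul_assoc, (h.inv j hj j1).1, mul_one]⟩
  · exact ⟨g, hg, 1, one_mem _, (h.inv g hg e).1, mul_one 1, (mul_one g).symm⟩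

end Tor

namespace LF

variable (h : LF L p q r k)
include h

omit [Finite G] in
theorem odd_q : Odd q := by
  obtain ⟨-, -, e⟩ := h.par
  exact Nat.odd_iff.2 (by omega)

omit [Finite G] in
theorem dvd_q : p ∣ q := by
  obtain ⟨f, hf, rfl⟩ := h.pow
  exact dvd_pow_self p hf.pos.ne'

omit [Finite G] in
theorem odd_p : Odd p := h.odd_q.of_dvd_nat h.dvd_q

omit [Finite G] in
theorem not_dvd_r : ¬ p ∣ r := fun e => h.prime.not_dvd_one (by
  obtain ⟨-, -, ⟨-, e'⟩ | ⟨-, e'⟩⟩ := h.par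
  · exact (Nat.dvd_add_right h.dvd_q).1 (e' ▸ e.mul_left 2)
  · exact (Nat.dvd_add_right (e.mul_left 2)).1 (e' ▸ h.dvd_q))

omit [Finite G] in
theorem not_dvd_k : ¬ p ∣ 2 * k := fun e => h.prime.not_dvd_one (by
  replace e : p ∣ 4 * k := e.trans ⟨2, by ring⟩
  obtain ⟨-, -, ⟨e', -⟩ | ⟨e', -⟩⟩ := h.par
  · exact (Nat.dvd_add_right e).1 (e' ▸ h.dvd_q)
  · exact (Nat.dvd_add_right h.dvd_q).1 (e' ▸ e))

omit [Finite G] in
theorem not_eight : ¬ 8 ∣ ♯L := fun e => by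
  rw [h.card, mul_assoc, mul_assoc] at e
  exact (h.odd_q.mul (h.par.1.mul h.par.2.1)).not_two_dvd_nat
    (Nat.dvd_of_mul_dvd_mul_left (by decide : 0 < 4) e)

omit [Finite G] in
/-- for `p = 3`: `q = 4 k - 1 = 2 r + 1` -/
theorem three (h3 : p = 3) : q + 1 = 4 * k ∧ 2 * r + 1 = q := by
  obtain ⟨f, ⟨m, rfl⟩, e⟩ := h.pow
  have : 3 ^ (2 * m + 1) % 4 = 3 := by rw [pow_succ, pow_mul, Nat.mul_mod, Nat.pow_mod]; simp
  rw [← h3, ← e] at this
  obtain ⟨-, -, e⟩ := h.par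
  omega

theorem ne_bot : L ≠ ⊥ := fun e => by
  have h1 := h.card
  rw [e, card_bot, mul_assoc, mul_assoc] at h1
  omega

theorem not_ab : ¬ Ab L := fun e => h.ne_bot (h.perfect ▸ ab_iff_der.1 e)

theorem exists_torK (hv : v ∈ L) (v1 : v ≠ 1) (v2 : v * v = 1) : ∃ K, Tor L K (2 * k) ∧ v ∈ K := by
  obtain ⟨K, hK, e | e | e⟩ := h.part v hv v1
  · exact absurd (eq_one_of_odd_of_sq (odd_of_mem (e.card ▸ h.odd_q) hK) v2) v1
  · exact absurd (eq_one_of_odd_of_sq (odd_of_mem (e.card ▸ h.par.1) hK) v2) v1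
  · exact ⟨K, e, hK⟩

theorem exists_uni (hy : y ∈ L) (y1 : y ≠ 1) (hp : PiElt {p} y) : ∃ P, Uni L P p q ∧ y ∈ P := by
  have := Fact.mk h.prime
  have h1 : p ∣ orderOf y := Nat.card_zpowers y ▸
    dvd_card_of_isPGroup (isPGroup_zpowers_iff.2 hp) (by simpa)
  obtain ⟨K, hK, e | e | e⟩ := h.part y hy y1
  · exact ⟨K, e, hK⟩
  · exact absurd (h1.trans (e.card ▸ orderOf_dvd_card hK)) h.not_dvd_r
  · exact absurd (h1.trans (e.card ▸ orderOf_dvd_card hK)) h.not_dvd_k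

end LF

namespace Fr

variable (h : Fr t H L W S P T p q r k)
include h

omit [Finite G] in
theorem H_le : H ≤ 𝐂[t] := fun g hg => (h.cent g).2 (.inl hg)

omit [Finite G] in
theorem L_le : L ≤ 𝐂[t] := h.le.trans h.H_le

omit [Finite G] in
theorem W_le : W ≤ H := le_sup_right.trans h.sup.le

omit [Finite G] in
theorem tL : t ∉ L := fun e => h.tH (h.le e)

omit [Finite G] in
theorem normal : L ⊴ H := ⟨h.le, h.norm⟩

omit [Finite G] in
theorem half : W3.Half 𝐂[t] H t :=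
  ⟨⟨h.H_le, fun g hg => ((h.cent g).1 hg).elim (le_norm_self H ·) fun e => (mul_mem_cancel_right
    (cent_le_norm H (le_cent1_iff.1 h.H_le))).1 (le_norm_self H e)⟩, mem_cent1_self t, h.t2, le_rfl,
    h.tH, fun g => (h.cent g).1⟩

omit [Finite G] in
theorem cent_le_normL : 𝐂[t] ≤ 𝐍(L) := fun g hg => ((h.cent g).1 hg).elim (h.norm ·) fun e =>
  (mul_mem_cancel_right (cent_le_norm L (le_cent1_iff.1 h.L_le))).1 (h.norm e)

omit [Finite G] in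
theorem abS : Ab S := ab_of_sq h.sq

omit [Finite G] in
theorem S_le : S ≤ 𝐂[t] := h.abS.le_cent.trans (cent_le_cent1 h.tS)

omit [Finite G] in
theorem W_le_centS : W ≤ 𝐂(S) := le_sup_right.trans h.centS.ge

theorem mem_H (hy : y ∈ 𝐂[t]) (ho : Odd (orderOf y)) : y ∈ H := h.half.mem_of_odd hy ho

theorem card_H : ♯H = ♯L * ♯W := by
  rw [← h.sup, card_sup_of_inf_eq_bot (.inr (h.W_le.trans h.norm)) h.inf]

theorem relIndex : L.relIndex H = ♯W :=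
  Nat.eq_of_mul_eq_mul_left (card_pos' L) ((card_mul_relIndex h.le).trans h.card_H)

theorem card_cent : ♯𝐂[t] = 2 * ♯H := by
  rw [← card_mul_relIndex h.H_le, mul_comm, relIndex_eq_two_iff.2 ⟨t, mem_cent1_self t, fun b hb => ?_⟩]
  by_cases e : b ∈ H
  · exact .inr ⟨e, fun e' => h.tH ((mul_mem_cancel_left e).1 e')⟩
  · exact .inl ⟨((h.cent b).1 hb).resolve_left e, e⟩

theorem sq_of_two (hX : IsPGroup 2 X) (hx : x ∈ X) : x * x = 1 := by
  obtain ⟨g, -, e⟩ := h.syl.exists_le_conj' le_top hX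
  exact (h.cj g).sq x (e hx)

theorem card_two_dvd (hX : IsPGroup 2 X) : ♯X ∣ 8 := h.cardS ▸ h.syl.card_dvd le_top hX

theorem sq_of_piElt (hx : PiElt {2} x) : x * x = 1 :=
  h.sq_of_two (isPGroup_zpowers_iff.2 hx) (mem_zpowers x)

theorem sq_of_four (x : G) (hx : x ^ 4 = 1) : x * x = 1 :=
  h.sq_of_piElt ((isPiNum_singleton_pow Nat.prime_two 2).of_dvd (orderOf_dvd_of_pow_eq_one hx))

theorem mem_L (hx : x ∈ H) (x2 : x * x = 1) : x ∈ L :=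
  BSW.mem_of_coprime_relIndex h.norm hx (Nat.Coprime.coprime_dvd_left
    (orderOf_dvd_of_pow_eq_one (by rwa [pow_two])) (Nat.coprime_two_left.2 (h.relIndex ▸ h.oddW)))

theorem mem_or (hx : x ∈ 𝐂[t]) (x2 : x * x = 1) : x ∈ L ∨ x * t ∈ L :=
  ((h.cent x).1 hx).imp (h.mem_L · x2) (h.mem_L · (by
    rw [(show Commute t x from (mem_cent1.1 hx).symm).mul_mul_mul_comm, x2, h.t2, one_mul]))

/-- two involutions of a subgroup have commuting conjugates -/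
theorem exists_comm (ha : a ∈ X) (hb : b ∈ X) (a2 : a * a = 1) (b2 : b * b = 1) :
    ∃ c ∈ X, c * a * c⁻¹ ∈ 𝐂[b] := by
  obtain ⟨Q, hQ, e⟩ := exists_syl_ge (zpowers_le.2 hb) (isPGroup_zpowers_iff.2 (piElt_two b2))
  obtain ⟨c, hc, e'⟩ := hQ.exists_conj_le (zpowers_le.2 ha) (isPGroup_zpowers_iff.2 (piElt_two a2))
  exact ⟨c, hc, mem_cent1.2 (ab_iff.1 (h.ab2 Q hQ.isPGroup) _ (e' (conj_mem_conj (mem_zpowers a))) _
    (e (mem_zpowers b)))⟩

/-- a real element is strongly real -/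
theorem exists_inv (e : g * y * g⁻¹ = y⁻¹) : ∃ j ∈ zpowers g, j * j = 1 ∧ j * y * j⁻¹ = y⁻¹ := by
  refine ⟨constt {2} g, constt_mem_zpowers _ g, h.sq_of_piElt (piElt_constt _ g), ?_⟩
  have h1 : g * g ∈ 𝐂[y] := mem_cent1_iff_conj.2 (by
    rw [mul_cj, e, ← cj_inv, e, inv_inv])
  have h2 : constt {2}ᶜ g ∈ 𝐂[y] := by
    have h3 : constt {2}ᶜ g ∈ zpowers (constt {2}ᶜ g ^ 2) := mem_zpowers_pow_iff.2
      (Nat.prime_two.coprime_iff_not_dvd.2 ((isPiNum_compl_singleton Nat.prime_two).1 (piElt_constt _ g)))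
    rw [← constt_pow] at h3
    exact zpowers_le.2 (constt_mem _ (by rwa [pow_two])) h3
  rwa [← constt_mul_constt_compl {2} g, mul_cj, mem_cent1_iff_conj.1 h2] at e

/-- (NR) -/
theorem nr (hy : y ∈ 𝐂[t]) (ho : Odd (orderOf y)) (e : g * y * g⁻¹ = y⁻¹) :
    y ∈ L ∧ ∃ j ∈ L, j * j = 1 ∧ j * y * j⁻¹ = y⁻¹ := by
  obtain ⟨i, -, i2, e⟩ := h.exists_inv e
  obtain ⟨c, hc, h1⟩ := h.exists_comm (X := 𝐍(zpowers y)) (conj_eq_self_iff.1 (by
    rw [conj_zpowers, e, zpowers_inv])) (cent_le_norm _ (cent_zpowers y ▸ mem_cent1_comm.1 hy)) i2 h.t2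
  have h2 : c * i * c⁻¹ * y * (c * i * c⁻¹)⁻¹ = y⁻¹ := by
    obtain ⟨m, hm⟩ := mem_zpowers_iff.1 (conj_mem_of_norm' hc (mem_zpowers y))
    rw [mul_cj, mul_cj, inv_inv, ← hm, ← conj_zpow, e, inv_zpow, hm]
    group
  obtain ⟨j, hj, j2, e⟩ : ∃ j ∈ L, j * j = 1 ∧ j * y * j⁻¹ = y⁻¹ := by
    rcases h.mem_or h1 (conj_sq i2 c) with e | e
    · exact ⟨_, e, conj_sq i2 c, h2⟩
    · refine ⟨_, e, ?_, ?_⟩
      · rw [(show Commute t _ from (mem_cent1.1 h1).symm).mul_mul_mul_comm, conj_sq i2, h.t2, one_mul]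
      · rw [mul_cj, mem_cent1_iff_conj.1 (mem_cent1_comm.1 hy), h2]
  refine ⟨zpowers_le.2 ?_ (mem_zpowers_pow_iff.2 (Nat.coprime_two_left.2 ho)), j, hj, j2, e⟩
  have h3 := mul_mem (h.normal.conj_mem (h.mem_H hy ho) hj) (inv_mem hj)
  rwa [mul_assoc (y * j), mul_assoc y, ← mul_assoc j, ← cj_inv, e, inv_inv, ← pow_two] at h3

/-- (NR) for an arbitrary involution -/
theorem nr' (hy : y ∈ 𝐂[u * t * u⁻¹]) (ho : Odd (orderOf y)) (e : g * y * g⁻¹ = y⁻¹) :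
    y ∈ u •ᶜ L ∧ ∃ j ∈ u •ᶜ L, j * j = 1 ∧ j * y * j⁻¹ = y⁻¹ := (h.cj u).nr hy ho e

theorem odd_normP (h3 : p = 3) {P : Subgroup G} (hP : Uni L P p q) :
    Odd ♯(L ⊓ 𝐍(P) : Subgroup G) := by
  have h1 := hP.card_norm
  rw [show q - 1 = 2 * r by have := (h.three h3).2; omega, mul_left_comm] at h1
  exact Nat.eq_of_mul_eq_mul_left two_pos h1 ▸ h.odd_q.mul h.par.1

/-- (R3) -/
theorem r3 (h3 : p = 3) (u1 : u ≠ 1) (u2 : u * u = 1) (hy : y ∈ 𝐂[u]) (y1 : y ≠ 1)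
    (y3 : PiElt {3} y) (g : G) : g * y * g⁻¹ ≠ y⁻¹ := fun e => by
  obtain ⟨c, rfl⟩ := h.conj u u1 u2
  have ho : Odd (orderOf y) := Nat.coprime_two_right.1
    (y3.coprime ((isPiNum_prime Nat.prime_two).2 (by simp)))
  obtain ⟨h1, j, hj, j2, e⟩ := (h.cj c).nr hy ho e
  obtain ⟨P, hP, h2⟩ := (h.cj c).exists_uni h1 y1 (h3 ▸ y3)
  rw [eq_one_of_odd_of_sq (odd_of_mem ((h.cj c).odd_normP h3 hP)
    ⟨hj, hP.ti j hj y h2 y1 (e ▸ inv_mem h2)⟩) j2] at e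
  exact y1 (eq_one_of_odd_of_sq ho (by simpa [eq_inv_iff_mul_eq_one] using e))

theorem mem_H_iff : g ∈ H ↔ ∃ l ∈ L, ∃ w ∈ W, l * w = g := by
  rw [← h.sup, mem_sup_norm_left (h.W_le.trans h.norm)]

theorem der_le : der H ≤ L := commutator_le.2 fun a ha b hb => by
  obtain ⟨l, hl, w, hw, rfl⟩ := h.mem_H_iff.1 ha
  obtain ⟨l', hl', w', hw', rfl⟩ := h.mem_H_iff.1 hb
  have := mul_mem (mul_mem (mul_mem hl (h.normal.conj_mem (h.W_le hw) hl'))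
    (h.normal.conj_mem (h.W_le hw') (inv_mem hl))) (inv_mem hl')
  rwa [show l * (w * l' * w⁻¹) * (w' * l⁻¹ * w'⁻¹) * l'⁻¹ =
    l * w * (l' * (w⁻¹ * w') * l⁻¹ * (l' * w')⁻¹) by group,
    ab_iff.1 (ab_of_isCyclic h.cycW) _ (inv_mem hw) _ hw', show l * w * (l' * (w' * w⁻¹) * l⁻¹ *
      (l' * w')⁻¹) = ⁅l * w, l' * w'⁆ by rw [commutatorElement_def]; group] at this

/-- conjugation in `C(t)` fixes `H / L` -/
theorem inv_mul_cj (hy : y ∈ H) (hg : g ∈ 𝐂[t]) : y⁻¹ * (g * y * g⁻¹) ∈ L := by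
  have k : ∀ g ∈ H, y⁻¹ * (g * y * g⁻¹) ∈ L := fun g hg => by
    simpa [commutatorElement_def, mul_assoc] using h.der_le (commutator_mem_commutator (inv_mem hy) hg)
  refine ((h.cent g).1 hg).elim (k g) fun e => ?_
  have := k _ e
  rwa [mul_cj, mem_cent1_iff_conj.1 (mem_cent1_comm.1 (h.H_le hy))] at this

/-- Burnside's fusion lemma for subgroups of `S` -/
theorem fusion (hU : U ≤ S) (hg : g •ᶜ U ≤ S) : ∃ n ∈ 𝐍(S), n⁻¹ * g ∈ 𝐂(U) := by
  obtain ⟨c, hc, e⟩ := (h.syl.mono (h.abS.le_cent.trans (cent_anti hU)) le_top).exists_conj'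
    ((h.syl.conj_of_mem (mem_top g⁻¹)).mono (h.abS.le_cent.trans (cent_anti hg) |> fun e => by
      rwa [cent_conj, le_conj_iff_inv_conj_le] at e) le_top)
  exact ⟨g * c, by rw [← conj_eq_self_iff, ← conj_conj, ← e, conj_inv_conj], by
    simpa [mul_assoc] using inv_mem hc⟩

/-- the centralizer in `H` of an involution `v` of `S ∩ L` is `C_L(v) W` -/
theorem exists_mul (hv : v ∈ S) (hy : y ∈ H ⊓ 𝐂[v]) : ∃ l ∈ L ⊓ 𝐂[v], ∃ w ∈ W, l * w = y := by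
  obtain ⟨l, hl, w, hw, rfl⟩ := h.mem_H_iff.1 hy.1
  exact ⟨l, ⟨hl, (mul_mem_cancel_right (cent_le_cent1 hv (h.W_le_centS hw))).1 hy.2⟩, w, hw, rfl⟩

theorem isPGroup_S4 (a2 : a * a = 1) (b2 : b * b = 1) (hc : a ∈ 𝐂[b]) : IsPGroup 2 (S4 a b) :=
  abelem_isPGroup (abelem_sup (abelem_zpowers (by rwa [pow_two])) (abelem_zpowers (by rwa [pow_two]))
    (by rwa [cent_zpowers, zpowers_le]))

/-- a 2-subgroup of `C(t)` is conjugate in `L` to a subgroup of `S` -/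
theorem exists_conj_le (hX : X ≤ 𝐂[t]) (h2 : IsPGroup 2 X) : ∃ l ∈ L, l •ᶜ X ≤ S := by
  obtain ⟨g, hg, e⟩ := (h.syl.mono h.S_le le_top).exists_conj_le hX h2
  obtain ⟨g, hg, e⟩ : ∃ g ∈ H, g •ᶜ X ≤ S := ((h.cent g).1 hg).elim (⟨g, ·, e⟩) fun e' =>
    ⟨_, e', by rwa [← conj_conj, conj_eq_of_mem_cent (le_cent1_iff.1 hX)]⟩
  obtain ⟨l, hl, w, hw, rfl⟩ := h.mem_H_iff.1 hg
  refine ⟨_, h.normal.conj_mem (inv_mem (h.W_le hw)) hl, ?_⟩
  rw [inv_inv, mul_assoc, ← conj_conj]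
  exact conj_le_of_mem_norm (inv_mem (cent_le_norm _ (h.W_le_centS hw))) e

theorem mem_sup (hx : x ∈ 𝐂[t]) (x2 : x * x = 1) : x ∈ L ⊔ zpowers t :=
  (h.mem_or hx x2).elim (mem_sup_left ·) fun e =>
    (mul_mem_cancel_right (mem_sup_right (mem_zpowers t))).1 (mem_sup_left e)

omit [Finite G] in
theorem mem_of_mem_sup (hx : x ∈ H) (h1 : x ∈ L ⊔ zpowers t) : x ∈ L := by
  obtain ⟨l, hl, s, hs, rfl⟩ := (mem_sup_norm_left (zpowers_le.2 (h.cent_le_normL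
    (mem_cent1_self t)))).1 h1
  rcases (mem_zp h.t2).1 hs with rfl | rfl
  · rwa [mul_one]
  · exact absurd ((mul_mem_cancel_left (h.le hl)).1 hx) h.tH

/-- `C_L(u)` is generated by involutions -/
theorem exists_mul_sq (hu : u ∈ 𝐂[t]) (u1 : u ≠ 1) (u2 : u * u = 1) (ut : u ≠ t) (hy : y ∈ L ⊓ 𝐂[u]) :
    ∃ a ∈ L ⊓ 𝐂[u], ∃ b ∈ L ⊓ 𝐂[u], a * a = 1 ∧ b * b = 1 ∧ y = a * b := by
  obtain ⟨v, hv, v1, v2, e⟩ : ∃ v ∈ L, v ≠ 1 ∧ v * v = 1 ∧ L ⊓ 𝐂[u] = L ⊓ 𝐂[v] := by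
    refine (h.mem_or hu u2).elim (⟨u, ·, u1, u2, rfl⟩) fun e => ⟨_, e, fun e' => ut ?_, ?_, ?_⟩
    · rw [eq_inv_of_mul_eq_one_left e', inv_eq h.t2]
    · rw [(show Commute t u from (mem_cent1.1 hu).symm).mul_mul_mul_comm, u2, h.t2, one_mul]
    · ext g
      rw [mem_inf, mem_inf, and_congr_right_iff]
      intro hg
      exact mem_cent1_comm.trans ((mul_mem_cancel_right (mem_cent1_comm.1 (h.L_le hg))).symm.trans
        mem_cent1_comm)
  obtain ⟨K, hK, h1⟩ := h.exists_torK hv v1 v2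
  rw [e, hK.cent_inv h1 v1 v2] at hy ⊢
  exact hK.exists_mul hy

/-- (DELTA) -/
theorem delta (hy : y ∈ H) (hg : g * y * g⁻¹ ∈ H) : y⁻¹ * (g * y * g⁻¹) ∈ L := by
  have tr : ∀ {a b c : G}, a⁻¹ * b ∈ L → b⁻¹ * c ∈ L → a⁻¹ * c ∈ L := fun h1 h2 => by
    simpa [mul_assoc] using mul_mem h1 h2
  obtain ⟨c, hc, h1⟩ := h.exists_comm (X := 𝐂[g * y * g⁻¹]) (a := g * t * g⁻¹)
    (cent1_conj g y ▸ conj_mem_conj (mem_cent1_comm.1 (h.H_le hy))) (mem_cent1_comm.1 (h.H_le hg))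
    (conj_sq h.t2 g) h.t2
  rw [← mem_cent1_iff_conj.1 hc, ← mul_cj] at hg ⊢
  rw [← mul_cj] at h1
  generalize c * g = g at hg h1
  by_cases e : g ∈ 𝐂[t]
  · exact h.inv_mul_cj hy e
  have h2 : g⁻¹ * t * g⁻¹⁻¹ ∈ 𝐂[t] := by
    rw [inv_inv, ← mem_conj, ← cent1_conj]; exact mem_cent1_comm.1 h1
  obtain ⟨a, ha, ea⟩ := h.exists_conj_le (S4_le.2 ⟨h2, mem_cent1_self t⟩)
    (h.isPGroup_S4 (conj_sq h.t2 _) h.t2 h2)
  obtain ⟨b, hb, eb⟩ := h.exists_conj_le (S4_le.2 ⟨h1, mem_cent1_self t⟩)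
    (h.isPGroup_S4 (conj_sq h.t2 _) h.t2 h1)
  obtain ⟨m, hm, h3⟩ := h.fusion (g := b * g * a⁻¹) ea (by
    rwa [conj_conj, inv_mul_cancel_right, ← conj_conj, conj_S4 g, S4_comm, ← mul_cj, mul_inv_cancel,
      one_mul, inv_one, mul_one])
  rw [conj_S4, mem_cent1_iff_conj.1 (h.L_le ha)] at ea h3
  rw [cent_S4] at h3
  have h4 := mul_mem h3.2 (h.L_le ha)
  have h5 := h.half.normal.conj_mem h4 hy
  have h6 : m * (a * (g⁻¹ * t * g⁻¹⁻¹) * a⁻¹) * m⁻¹ = t := by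
    rw [← mem_cent1_iff_conj.1 h3.1]
    nth_rewrite 2 [← mem_cent1_iff_conj.1 (h.L_le hb)]
    group
  obtain ⟨l, hl, w, hw, e'⟩ := h.exists_mul (S4_le.1 ea).1 <| mem_inf.2 ⟨h5, by
    rw [← mem_cent1_iff_conj.1 h3.1, ← mul_cj, cent1_conj, conj_mem_conj_iff,
      cent1_conj, mem_conj, inv_inv]
    exact h.H_le hg⟩
  obtain ⟨i, hi, j, hj, i2, j2, rfl⟩ := h.exists_mul_sq (h.S_le (S4_le.1 ea).1)
    (conj_ne_one.2 (conj_ne_one.2 h.t1)) (conj_sq (conj_sq h.t2 _) _) (fun e' => e (by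
      simpa using mul_mem (inv_mem (mem_cent1_iff_conj.2 ((mul_cj _ _ _).trans e'))) (h.L_le ha))) hl
  have k : ∀ i ∈ L ⊓ 𝐂[a * (g⁻¹ * t * g⁻¹⁻¹) * a⁻¹], i * i = 1 → m * i * m⁻¹ ∈ L ⊔ zpowers t :=
    fun i hi i2 => h.mem_sup (by rw [← h6, cent1_conj]; exact conj_mem_conj hi.2) (conj_sq i2 m)
  have h7 : m * (i * j * w) * m⁻¹ = b * (g * y * g⁻¹) * b⁻¹ := by rw [e']; group
  have h8 := h.half.normal.conj_mem (h.L_le hb) hg
  have h9 : m * w * m⁻¹ = w := mem_cent_iff_conj.1 (h.normS hm) w hw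
  refine tr (h.inv_mul_cj hy h4) (tr (b := b * (g * y * g⁻¹) * b⁻¹) ?_ (by
    simpa [mul_assoc] using h.inv_mul_cj h8 (inv_mem (h.L_le hb))))
  rw [← h7, ← cj_mul, h9] at h8 ⊢
  rw [← e']
  have := h.mem_of_mem_sup ((mul_mem_cancel_right (h.W_le hw)).1 h8) (by
    rw [← cj_mul]; exact mul_mem (k i hi i2) (k j hj j2))
  simpa [mul_assoc] using h.normal.conj_mem (inv_mem (h.W_le hw)) (mul_mem (inv_mem hl.1) this)

/-- a Sylow subgroup of `G` inside `H` lies in `L` -/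
theorem le_L_of_syl {s : ℕ} [Fact s.Prime] (hX : Syl s X ⊤) (h1 : X ≤ H) : X ≤ L := by
  have := h.simple
  rw [← inf_top_eq X, ← (smp_top (G := G)).perfect fun e => h.not_ab (ab_of_le e le_top),
    focal_subgroup_gen hX, closure_le]
  rintro _ ⟨x, hx, g, -, hg, rfl⟩
  exact h.delta (h1 hx) (h1 hg)

end Fr

end Cfsg.Agent.JR
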