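import Cfsg.Agent.Lib.JR.CH2Lat

/-!
# The lattice part of the order formula in the case `q = 5`
-/

set_option autoImplicit false

namespace Cfsg.Agent.JR.Q5x

variable {Λ : Type*} [AddCommGroup Λ] {B : Λ →+ Λ →+ ℤ} {d : Λ →+ ℤ} {e f : Λ →+ ℂ}
  {o θ a b : Λ} {N c X : ℤ}

theorem bessel4 (L : C2.Lat B d e f) {x y p q : Λ} (hx : B x x = 1) (hy : B y y = 1) (hp : B p p = 1)
    (hq : B q q = 1) (xy : B x y = 0) (xp : B x p = 0) (xq : B x q = 0) (yp : B y p = 0)
    (yq : B y q = 0) (pq : B p q = 0) (b : Λ) :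
    B x b ^ 2 + B y b ^ 2 + B p b ^ 2 + B q b ^ 2 ≤ B b b := by
  have h1 := L.nonneg (b - B x b • x - B y b • y - B p b • p - B q b • q)
  simp only [map_sub, AddMonoidHom.sub_apply, map_zsmul, AddMonoidHom.smul_apply, smul_eq_mul, hp,
    hq, hx, hy, xy, xp, xq, yp, yq, pq, L.symm b x, L.symm b y, L.symm b p, L.symm b q,
    L.symm y x, L.symm p x, L.symm q x, L.symm p y, L.symm q y, L.symm q p] at h1
  linarith

theorem lat5 (L : C2.Lat B d e f) (oo : B o o = 1) (d_o : d o = 1) (e_o : e o = 1) (θθ : B θ θ = 4)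
    (oθ : B o θ = 1) (dθ : d θ = 0) (eθ : e θ = -8) (fθ : N * f θ = 720) (aa : B a a = 3)
    (bb : B b b = 3) (ab : B a b = 0) (oa : B o a = 1) (ob : B o b = 0) (θa : B θ a = 2)
    (θb : B θ b = -2) (da : d a = 0) (db : d b = 0) (ea : e a = 0) (eb : e b = 0) (fa : N * f a = c)
    (fb : N * f b = c - 720) (N0 : N ≠ 0)
    (at_t : ∀ x, B x x = 1 → B x θ ≠ 0 → ∃ m : ℤ, e x = -5 * B x θ + 3 * m)
    (cong : ∀ x, ∃ m : ℤ, e x = d x + 8 * m) :
    ∃ X : ℤ, 8 ∣ X + 5 ∧ N * (X + 5) ^ 2 = c * X * (X + 1) := by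
  obtain ⟨x, y, hx, hy, xy, h1, ox, oy, θx, θy⟩ : ∃ x y, B x x = 1 ∧ B y y = 1 ∧ B x y = 0 ∧
      a = o + x + y ∧ B o x = 0 ∧ B o y = 0 ∧ B θ x = 1 ∧ B θ y = 0 := by
    obtain ⟨x, y, hx, hy, xy, h⟩ := L.split2 (w := a - o) (by
      simp only [map_sub, AddMonoidHom.sub_apply, L.symm a o]; omega)
    obtain rfl : a = o + x + y := by rw [add_assoc, ← h]; abel
    simp only [map_add, L.symm θ o] at oa θa
    have h1 := L.orth2 hx hy xy oo (by omega)
    have h2 := L.bessel oo hx hy h1 (by omega) xy θ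
    rw [L.symm θ o, oθ] at h2
    have := C2.sq_le (a := B θ x) (by linarith [sq_nonneg (B θ y)])
    have := C2.sq_le (a := B θ y) (by linarith [sq_nonneg (B θ x)])
    by_cases h3 : B θ x = 1
    · exact ⟨x, y, hx, hy, xy, rfl, h1, by omega, h3, by omega⟩
    · exact ⟨y, x, hy, hx, L.symm x y ▸ xy, add_right_comm _ _ _, by omega, h1, by omega, by omega⟩
  subst h1
  obtain ⟨p, q, hp, hq, pq, h⟩ := L.split2 (w := θ - o - x) (by
    simp only [map_sub, AddMonoidHom.sub_apply, L.symm θ o, L.symm x o, L.symm x θ]; omega)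
  obtain rfl : θ = o + x + p + q := by rw [add_assoc, ← h]; abel
  simp only [map_add, AddMonoidHom.add_apply, L.symm p x, L.symm q x, L.symm p y,
    L.symm q y] at oθ θx θy dθ eθ fθ da ea fa ab θb
  have op := L.orth2 hp hq pq oo (by omega)
  have xp := L.orth2 hp hq pq hx (by omega)
  have yp := L.orth2 hp hq pq hy (by omega)
  have oq : B o q = 0 := by omega
  have xq : B x q = 0 := by omega
  have yq : B y q = 0 := by omega
  have h1 := bessel4 L hx hy hp hq xy xp xq yp yq pq b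
  rw [show B y b = -B x b by omega, bb, neg_sq] at h1
  have b1 := C2.sq_le (a := B x b) (by linarith [sq_nonneg (B x b), sq_nonneg (B p b), sq_nonneg (B q b)])
  have b2 := C2.sq_le (a := B p b) (by linarith [sq_nonneg (B x b), sq_nonneg (B q b)])
  have b3 := C2.sq_le (a := B q b) (by linarith [sq_nonneg (B p b), sq_nonneg (B x b)])
  have key : ∀ p q, B p p = 1 → B q q = 1 → B o q = 0 → B x p = 0 → B x q = 0 → B y p = 0 →
      B p q = 0 → B x b = -1 → B p b = -1 → e o + e x + e p + e q = -8 →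
      (∃ m : ℤ, e q = -5 + 3 * m) → (∃ m : ℤ, e x = -5 + 3 * m) → False :=
    fun p q hp hq oq xp xq yp pq h2 h3 h4 ⟨m, hm⟩ ⟨n, hn⟩ => by
      have h5 := congrArg e (L.eq_zero (x := b + x - y + p) (by
        simp only [map_sub, map_add, AddMonoidHom.sub_apply, AddMonoidHom.add_apply, L.symm b x,
          L.symm b y, L.symm b p, L.symm y x, L.symm p x, L.symm p y]
        omega))
      simp only [map_add, map_sub, map_zero] at h5
      have : (3 * m : ℤ) = 3 * n - 8 := Int.cast_injective (α := ℂ) (by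
        push_cast; linear_combination h4 - h5 - ea + eb - hm + hn)
      omega
  have ax := at_t x hx
  have ap := at_t p hp
  have aq := at_t q hq
  simp only [map_add, L.symm x o, L.symm p o, L.symm q o, L.symm p x, L.symm q x, L.symm q p, hx, hp,
    hq, ox, op, oq, xp, xq, pq, zero_add, add_zero, ne_eq, one_ne_zero, not_false_eq_true,
    Int.cast_one, mul_one, forall_const] at ax ap aq
  by_cases h2 : B x b = -1
  · by_cases h3 : B p b = -1
    · exact (key p q hp hq oq xp xq yp pq h2 h3 eθ aq ax).elim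
    by_cases h4 : B q b = -1
    · exact (key q p hq hp op xq xp yq (L.symm p q ▸ pq) h2 h4 (by rw [← eθ]; ring) ap ax).elim
    · omega
  have h3 : B x b = 0 := by
    by_contra h3
    rw [show B x b = 1 by omega, show B p b = -1 by omega, show B q b = -1 by omega] at θb
    omega
  obtain ⟨z, rfl⟩ : ∃ z, b = z - p - q := ⟨b + p + q, by abel⟩
  have hz : B z z = 1 := by
    have h4 : B p (z - p - q) = -1 := by omega
    have h5 : B q (z - p - q) = -1 := by omega
    simp only [map_sub, AddMonoidHom.sub_apply, L.symm z p, L.symm z q, L.symm q p] at h4 h5 bb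
    omega
  simp only [map_sub] at db eb fb
  have N0' : (N : ℂ) ≠ 0 := Int.cast_ne_zero.2 N0
  have h4 : f z = f y := mul_left_cancel₀ N0' (by linear_combination fb - fa + fθ)
  have x0 : (d x : ℂ) ≠ 0 := Int.cast_ne_zero.2 (L.d_ne x hx)
  have y0 : (d y : ℂ) ≠ 0 := Int.cast_ne_zero.2 (L.d_ne y hy)
  rw [L.df z hz, L.df y hy, show d z = d y by omega, div_left_inj' y0,
    show e z = -9 - e x by linear_combination eb + eθ - e_o,
    show e y = -1 - e x by linear_combination ea - e_o] at h4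
  have h5 : e x = -5 := by linear_combination (1 / 16) * h4
  obtain ⟨m, hm⟩ := cong x
  refine ⟨d x, ⟨-m, Int.cast_injective (α := ℂ) (by push_cast; linear_combination h5 - hm)⟩,
    Int.cast_injective (α := ℂ) ?_⟩
  have h6 : (d y : ℂ) = -(d x + 1) := by exact_mod_cast (by omega : d y = -(d x + 1))
  rw [L.df o oo, L.df x hx, L.df y hy, e_o, d_o, h5, show e y = 4 by linear_combination ea - e_o - h5,
    h6] at fa
  rw [h6, neg_ne_zero] at y0
  push_cast at fa ⊢
  rw [← fa]
  field_simp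
  ring

theorem num5a (h : N * (X + 5) ^ 2 = 1296 * X * (X + 1)) (h8 : 8 ∣ X + 5) (h7 : 7 ∣ N)
    (h3 : ¬ 3 ∣ N) : N = 1463 := by
  obtain ⟨z, hz⟩ := h8
  obtain rfl : X = 8 * z - 5 := by omega
  have h1 : N * z ^ 2 = 81 * (8 * z - 5) * (2 * z - 1) := by linarith
  have h2 : z ∣ 405 := ⟨N * z - 1296 * z + 1458, by linear_combination -h1⟩
  have h4 : z.natAbs ∈ Nat.divisors 405 := Nat.mem_divisors.2 ⟨Int.natAbs_dvd_natAbs.2 h2, by omega⟩
  rw [show Nat.divisors 405 = {1, 3, 5, 9, 15, 27, 45, 81, 135, 405} by decide +kernel] at h4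
  simp only [Finset.mem_insert, Finset.mem_singleton, Int.natAbs_eq_iff] at h4
  rcases h4 with (h | h) | (h | h) | (h | h) | (h | h) | (h | h) | (h | h) | (h | h) | (h | h) |
    (h | h) | (h | h) <;> subst h <;> norm_num at h1 <;> omega

theorem num5b (h : N * (X + 5) ^ 2 = 720 * X * (X + 1)) (h8 : 8 ∣ X + 5) (h7 : 7 ∣ N)
    (h3 : ¬ 3 ∣ N) : N = 1015 := by
  obtain ⟨z, hz⟩ := h8
  obtain rfl : X = 8 * z - 5 := by omega
  have h1 : N * z ^ 2 = 45 * (8 * z - 5) * (2 * z - 1) := by linarith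
  have h2 : z ∣ 225 := ⟨N * z - 720 * z + 810, by linear_combination -h1⟩
  have h4 : z.natAbs ∈ Nat.divisors 225 := Nat.mem_divisors.2 ⟨Int.natAbs_dvd_natAbs.2 h2, by omega⟩
  rw [show Nat.divisors 225 = {1, 3, 5, 9, 15, 25, 45, 75, 225} by decide +kernel] at h4
  simp only [Finset.mem_insert, Finset.mem_singleton, Int.natAbs_eq_iff] at h4
  rcases h4 with (h | h) | (h | h) | (h | h) | (h | h) | (h | h) | (h | h) | (h | h) | (h | h) |
    (h | h) <;> subst h <;> norm_num at h1 <;> omega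

end Cfsg.Agent.JR.Q5x
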