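import Cfsg.Agent.Lib.JR.Q5c
import Cfsg.Agent.Lib.JR.Q5Lat
import Cfsg.Agent.Lib.JR.Basic

/-!
# Groups of Janko type have order 175560
-/

set_option autoImplicit false

namespace Cfsg.Agent.JR

open Subgroup Cfsg.Agent.OO Cfsg.Agent.Coprime Cfsg.Agent.GW Cfsg.Agent.ZG Cfsg.Agent.ODD
  Cfsg.Agent.Blk
open scoped Pointwise ComplexConjugate

universe u

namespace Q5x

variable {G : Type u} [Group G] [Finite G] {t u v x : G} {L S : Subgroup G} {Θ : Fin 3 → G → ℂ}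

theorem Tr.parts [IsSimpleGroup G] (c : Tr u v x) (h : J G) (x3 : orderOf x = 3) :
    ∃ m n : ℕ, ♯(O 𝐂[x] ⊓ 𝐂[v] : Subgroup G) = m ∧ ♯(O 𝐂[x] ⊓ 𝐂[u * v] : Subgroup G) = n ∧
      (m = 1 ∧ n = 1 ∨ m = 1 ∧ n = 5 ∨ m = 5 ∧ n = 1) := by
  refine ⟨_, _, rfl, rfl, ?_⟩
  rcases c.part h with e | ⟨y, hy, c1, e⟩ <;> rcases c.mul.part h with e' | ⟨z, hz, c2, e'⟩
  · exact .inl ⟨e, e'⟩
  · exact .inr (.inl ⟨e, e'.trans ((c2.ord h).resolve_left (c.mul.not_three h x3 hz c2))⟩)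
  · exact .inr (.inr ⟨e.trans ((c1.ord h).resolve_left (c.not_three h x3 hy c1)), e'⟩)
  · exact (c.not_five h x3 hy c1 ((c1.ord h).resolve_left (c.not_three h x3 hy c1)) hz c2
      ((c2.ord h).resolve_left (c.mul.not_three h x3 hz c2))).elim

theorem cong (t1 : t ≠ 1) (t2 : t * t = 1) (hS : ♯S = 8) (h : ∀ s ∈ S, s ≠ 1 → ∃ g, g * t * g⁻¹ = s) {φ : G → ℂ} (hφ : φ ∈ ZIrr ⊤) :
    ∃ m : ℤ, φ t = φ 1 + 8 * m := by
  classical
  obtain ⟨m, hm⟩ := Cint_cfdot_vchar (cfRes_vchar le_top hφ) (cf1_vchar S)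
  obtain ⟨n, hn⟩ : IsCint (φ t) := Cint_vchar_of_pow hφ fun k hk => by
    rw [orderOf_eq_two t2 t1, Nat.coprime_two_right] at hk
    obtain ⟨j, rfl⟩ := hk
    rw [pow_succ, pow_mul, pow_two, t2, one_pow, one_mul]
  rw [cfdot_cfRes_left, cfdot_cf1r, ← Finset.add_sum_erase _ _ (mem_elts.2 S.one_mem),
    Finset.sum_congr rfl (g := fun _ => φ t) fun s hs => by
      obtain ⟨g, rfl⟩ := h s (mem_elts.1 (Finset.mem_of_mem_erase hs)) (Finset.ne_of_mem_erase hs)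
      exact cfunJ (vchar_mem_CF hφ) (mem_top g) t, Finset.sum_const,
    Finset.card_erase_of_mem (mem_elts.2 S.one_mem), card_elts, hS] at hm
  refine ⟨n - m, ?_⟩
  push_cast
  simp at hm
  linear_combination 8 * hn - 8 * hm

theorem Tz.main (c : Tz t v x) (hΘ : Th t L 3 1 5 Θ) {T : Subgroup G} (hT : Tor L T 3) (hx : x ∈ T)
    (hS : ♯S = 8) (h : ∀ s ∈ S, s ≠ 1 → ∃ g, g * t * g⁻¹ = s) {m n : ℕ} {e : ℤ}
    (hm : ♯(O 𝐂[x] ⊓ 𝐂[v] : Subgroup G) = m) (hn : ♯(O 𝐂[x] ⊓ 𝐂[t * v] : Subgroup G) = n)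
    (he : (e : ℂ) * (m * n) = 180 * (m + n) ^ 2) :
    ∃ X : ℤ, 8 ∣ X + 5 ∧ 𝐂[t].index * (X + 5) ^ 2 = e * X * (X + 1) := by
  have hN : (𝐂[t].index : ℂ) ≠ 0 := Nat.cast_ne_zero.2 index_ne_zero_of_finite
  have hI := fun φ => C2.sum_invs (φ := φ) c.u1 c.u2 (c.j.conj t · c.u1 c.u2)
  obtain ⟨B, d, ev, f, hL, hB, hd, hev, hf⟩ := C2.exists_lat hN hI
  have inj := Int.cast_injective (α := ℂ)
  have h1 := cf1_mem_CF 𝐍(zpowers x)
  have h2 : ∀ k ∈ 𝐂[x], cf1 𝐍(zpowers x) k = 1 := fun k hk => cf1E (KK.cent_le_norm_zp x hk)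
  have h3 : ∀ k ∈ Dx x, tau x k * tau x k = 1 ∧ conj (tau x k) = tau x k ∧
      conj (Θ 0 k) = 2 - 2 * tau x k := fun k hk => by
    by_cases e : k ∈ O 𝐂[x]
    · simp [tau_O e, hΘ.odd 0 k (odd_of_mem (odd_O _) e)]
    obtain ⟨g, z, hz, z1, e'⟩ := c.conj_D hk e
    rw [← cfunJ (vchar_mem_CF (hΘ.vchar 0)) (mem_top g) k, e', hΘ.valR T hT z (zpowers_le.2 hx hz) z1,
      tau_not hk.1 e]
    norm_num [map_ofNat]
  have h4 : m * n ≠ (0 : ℂ) := hm ▸ hn ▸ mul_ne_zero (cardC_ne_zero _) (cardC_ne_zero _)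
  have h5 : ∀ {σ α β}, σ ∈ CF 𝐍(zpowers x) → (∀ k ∈ O 𝐂[x], σ k = α) →
      (∀ k ∈ 𝐂[x], k ∉ O 𝐂[x] → σ k = β) → 𝐂[t].index * (invSum (tht x σ) / 𝐂[t].index ^ 2) * (m * n) =
        180 * (α * (m ^ 2 + n ^ 2) + 2 * β * m * n) := fun {σ α β} s1 s2 s3 => by
    have := c.pair s1 fun k hk => by
      by_cases e : k ∈ O 𝐂[x]
      · rw [s2 k e, s2 _ (mul_mem e (c.xO c.j))]
      · rw [s3 k hk e, s3 _ (mul_mem hk (mem_cent1_self x)) (by rwa [mul_mem_cancel_right (c.xO c.j)])]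
    rw [c.sum_J s2 s3 hm hn, c.card_norm c.j c.x3, c.card_O c.j, c.x3, hm, hn, ← 𝐂[t].card_mul_index,
      c.j.card t c.u1 c.u2] at this
    push_cast at this
    field_simp
    linear_combination 12⁻¹ * this
  have t3 : ¬ 3 ∣ orderOf t := by rw [orderOf_eq_two c.u2 c.u1]; decide
  have cA := vchar_mem_CF c.vchar.1
  have cB := vchar_mem_CF c.vchar.2
  refine lat5 (o := ⟨_, cf1_vchar ⊤⟩) (θ := ⟨_, hΘ.vchar 0⟩) (a := ⟨_, c.vchar.1⟩) (b := ⟨_, c.vchar.2⟩)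
    hL (inj ?_) (inj ?_) ?_ (inj ?_) (inj ?_) (inj ?_) ?_ ?_ (inj ?_) (inj ?_) (inj ?_) (inj ?_) (inj ?_)
    (inj ?_) (inj ?_) (inj ?_) (inj ?_) ?_ ?_ ?_ ?_ (by exact_mod_cast hN) (fun y hy e => ?_)
    fun y => by rw [hev, hd]; exact cong c.u1 c.u2 hS h y.2
  · simp [hB, cfdot_cf1]
  · simp [hd]
  · exact (hev _).trans (cf1E (mem_top t))
  · simp [hB, hΘ.dot]
  · simp [hB, cfdot_vchar_comm (cf1_vchar ⊤) (hΘ.vchar _), hΘ.one]
  · simp [hd, hΘ.odd]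
  · exact (hev _).trans (hΘ.val.1.trans (by norm_num))
  · simp only [hf, C2.invSum_eq hI (vchar_mem_CF (hΘ.vchar _)), mul_div_cancel_left₀ _
      (pow_ne_zero 2 hN), Int.cast_natCast]
    rw [hΘ.pair0]; norm_num
  · rw [hB, c.dot (α := 3) (β := 0) h1 cA fun k hk => by
      simp [c.apply h1 hk, h2 k hk.1, map_ofNat]]; norm_num
  · rw [hB, c.dot (α := 3) (β := 0) tau_mem cB fun k hk => by
      rw [c.apply tau_mem hk, map_mul, (h3 k hk).2.1, map_ofNat]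
      linear_combination 3 * (h3 k hk).1]; norm_num
  · rw [hB, c.dot (α := 0) (β := 3) h1 cB fun k hk => by
      rw [c.apply tau_mem hk, map_mul, (h3 k hk).2.1, map_ofNat, h2 k hk.1]; ring]; norm_num
  · rw [hL.symm, hB, c.dot (α := 1) (β := 0) h1 (cf1_mem_CF ⊤) fun k hk => by
      simp [h2 k hk.1, cf1E (mem_top k)]]; norm_num
  · rw [hL.symm, hB, c.dot (α := 0) (β := 1) tau_mem (cf1_mem_CF ⊤) fun k hk => by
      simp [cf1E (mem_top k)]]; norm_num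
  · rw [hL.symm, hB, c.dot (α := 2) (β := -2) h1 (vchar_mem_CF (hΘ.vchar 0)) fun k hk => by
      rw [(h3 k hk).2.2, h2 k hk.1]; ring]; norm_num
  · rw [hL.symm, hB, c.dot (α := -2) (β := 2) tau_mem (vchar_mem_CF (hΘ.vchar 0)) fun k hk => by
      rw [(h3 k hk).2.2]; linear_combination -2 * (h3 k hk).1]; norm_num
  · simpa [hd] using Tz.apply_zero (y := 1) (by simp)
  · simpa [hd] using Tz.apply_zero (y := 1) (by simp)
  · exact (hev _).trans (Tz.apply_zero t3)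
  · exact (hev _).trans (Tz.apply_zero t3)
  · refine mul_right_cancel₀ h4 ?_
    rw [hf, Int.cast_natCast, h5 h1 (fun k hk => h2 k (Opi_le _ _ hk)) fun k hk _ => h2 k hk, he]
    ring
  · refine mul_right_cancel₀ h4 ?_
    rw [hf, Int.cast_natCast, h5 tau_mem (fun k => tau_O) fun k => tau_not, sub_mul, he]
    ring
  have key : ∀ y : ZIrr (⊤ : Subgroup G), IsIrr ⊤ y.1 → B y ⟨_, hΘ.vchar 0⟩ ≠ 0 →
      ∃ m : ℤ, ev y = -5 * B y ⟨_, hΘ.vchar 0⟩ + 3 * m := fun y h6 e => by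
    have := hΘ.at_t _ (hΘ.blk 0 _ h6 (by rw [← hB y ⟨_, hΘ.vchar 0⟩]; exact_mod_cast e))
    rw [← hev, ← hB _ ⟨_, hΘ.vchar 0⟩, ← hB _ ⟨_, hΘ.vchar 1⟩, ← hB _ ⟨_, hΘ.vchar 2⟩] at this
    exact ⟨B y ⟨_, hΘ.vchar 1⟩ + B y ⟨_, hΘ.vchar 2⟩, by rw [this]; push_cast; ring⟩
  rcases vchar_norm1P y.2 (cfnorm_eq_one_iff.2 (by rw [← hB, hy, Int.cast_one])) with h6 | h6
  · exact key y h6 e
  · obtain ⟨i, hi⟩ := key (-y) h6 (by simpa using e)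
    simp only [map_neg, AddMonoidHom.neg_apply, Int.cast_neg] at hi
    exact ⟨-i, by push_cast; linear_combination -hi⟩

end Q5x

open Q5x in
theorem q5 : Q5.{u} := by
  intro G _ _ t H L S P T p r k Θ h hΘ
  have := h.simple
  obtain rfl : L = H := by simpa using h.sup
  obtain ⟨rfl, rfl⟩ := par_five h.par
  have j := j_of (KK.gl1_of_fr h)
  obtain ⟨v, x, c, x3⟩ := j.exists_tr h.t1 h.t2 (.inl rfl)
  obtain ⟨m, n, hm, hn, hc⟩ := c.parts j x3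
  have h1 : ♯𝐂[x] = 2 * (3 * m * n) := by rw [c.card_cent j, c.card_O j, x3, hm, hn]
  have h2 : ¬ 3 ^ 2 ∣ ♯𝐂[x] := by
    rw [h1]; rcases hc with ⟨rfl, rfl⟩ | ⟨rfl, rfl⟩ | ⟨rfl, rfl⟩ <;> decide
  have h3 := not_sq_dvd Nat.prime_three x3 h2
  have h4 := card_subgroup_dvd_card 𝐍(S)
  have h5 := 𝐂[t].card_mul_index
  rw [j.card t h.t1 h.t2] at h5
  rw [h.card_normS, card_bot] at h4
  obtain ⟨R, hR, h6⟩ := h.part x (h.mem_H c.xu c.xo) c.x1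
  have h7 := x3 ▸ orderOf_dvd_card hR
  replace h6 : Tor L R 3 := by
    rcases h6 with e | e | e
    · rw [e.card] at h7; omega
    · exact e
    · rw [e.card] at h7; omega
  have key := fun e => Tz.main ⟨c, j, x3, h2⟩ hΘ h6 hR h.cardS
    (fun s hs s1 => (h.trS s hs s1).imp fun _ e => e.2) (e := e) hm hn
  rcases hc with ⟨rfl, rfl⟩ | hc
  · obtain ⟨X, h8, h9⟩ := key 720 (by norm_num)
    have k1 := num5b h9 h8 (by omega) (by omega)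
    obtain ⟨w, y, c', y5⟩ := j.exists_tr h.t1 h.t2 (.inr rfl)
    obtain ⟨b, hb, c2, e⟩ := c'.cube j (by rw [y5]; omega)
    have k2 := c'.card_cube j hb c2 e ▸ card_subgroup_dvd_card (O 𝐂[y])
    rw [y5] at k2
    omega
  · obtain ⟨X, h8, h9⟩ := key 1296 (by rcases hc with ⟨rfl, rfl⟩ | ⟨rfl, rfl⟩ <;> norm_num)
    have k1 := num5a h9 h8 (by omega) (by omega)
    omega

end Cfsg.Agent.JR
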