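import Cfsg.Agent.Lib.JR.Ind
import Cfsg.Agent.Lib.JR.FR
import Cfsg.Agent.Lib.JR.Q5

/-!
# The Janko-Thompson / Ree-type package, unconditional
-/

set_option autoImplicit false

namespace Cfsg.Agent.JR

universe u

theorem jr : R1.JR.{u} := jr_of fr2 q5

end Cfsg.Agent.JR
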