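import Cfsg.Agent.Lib.JR.Hyp
import Cfsg.Agent.Lib.GW.Char2
import Cfsg.Agent.Lib.ODD.Char2
import Cfsg.Agent.Lib.R1.ZBase

/-!
# The principal 2-block of `L₂(q)`, `q ≡ ±3 (mod 8)`
-/

set_option autoImplicit false

namespace Cfsg.Agent.JR.C1

open Subgroup Cfsg.Agent.OO Cfsg.Agent.Coprime Cfsg.Agent.R1 Cfsg.Agent.Blk Cfsg.Agent.GW
open scoped ComplexConjugate Pointwise

universe u

variable {G : Type u} [Group G] [Finite G] {L T K P A D : Subgroup G} {p q r k n : ℕ}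
  {β φ χ a b : G → ℂ} {g j s v x y : G}

theorem sum_cf1 (h : A ≤ D) (c : ℂ) : ∑ x ∈ elts (D : Set G), cf1 A x * c = ♯A * c := by
  rw [← sum_elts_subset h fun x _ hx => by rw [cf1_of_not_mem hx, zero_mul],
    Finset.sum_congr rfl fun x hx => by rw [cf1E (mem_elts.1 hx), one_mul], sum_elts_const,
    nsmul_eq_mul]

theorem tor_norm (h : Tor L T n) (hy : y ∈ T) (h1 : y ≠ 1) (hg : g ∈ L) (e : g * y * g⁻¹ ∈ T) :
    g ∈ L ⊓ 𝐍(T) :=
  h.norm y hy h1 ▸ ⟨hg, conj_eq_self_iff.1 (eq_of_isCyclic_of_card_eq h.cyc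
    (by rw [conj_zpowers]; exact zpowers_le.2 e) (zpowers_le.2 hy) (card_conj _ _))⟩

theorem tor_mul (h : Tor L T n) (hx : x ∈ L ⊓ 𝐍(T)) (hy : y ∈ L ⊓ 𝐍(T)) (h1 : x ∉ T) (h2 : y ∉ T) :
    x * y ∈ T := by
  have h3 := card_mul_relIndex (le_inf h.le le_normalizer : T ≤ L ⊓ 𝐍(T))
  rw [h.card_norm, ← h.card, mul_comm 2] at h3
  exact (mul_mem_iff_of_index_two (H := T.subgroupOf (L ⊓ 𝐍(T)))
    (Nat.eq_of_mul_eq_mul_left Nat.card_pos h3) (a := ⟨x, hx⟩) (b := ⟨y, hy⟩)).2 (iff_of_false h1 h2)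

/-- induction from a maximal torus -/
theorem tor_ind (h : Tor L T n) (hβ : β ∈ CF T) (hy : y ∈ T) (h1 : y ≠ 1) :
    cfInd L T β y = β y + β y⁻¹ := by
  have h2 : T ≤ L ⊓ 𝐍(T) := le_inf h.le le_normalizer
  rw [cfIndE' _ _ (h.le hy), ← sum_elts_subset (A := (L ⊓ 𝐍(T) : Subgroup G)) inf_le_left
    fun g hg hg' => cfun0 hβ fun e => hg' (tor_norm h hy h1 hg e),
    Finset.sum_congr rfl (g := fun g => β y⁻¹ + cf1 T g * (β y - β y⁻¹)) fun g hg => ?_,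
    Finset.sum_add_distrib, sum_cf1 h2, sum_elts_const, h.card_norm, ← h.card]
  · have := cardC_ne_zero T
    field_simp
    push_cast
    ring
  by_cases e : g ∈ T
  · rw [cfunJ hβ e, cf1E e]; ring
  · rw [(h.inv g (mem_elts.1 hg) e).2 y hy, cf1_of_not_mem e]; ring

theorem cfdot_tor_ind (h : Tor L T n) (hβ : β ∈ CF T) (h1 : β 1 = 0) :
    ⟪cfInd L T β, cfInd L T β⟫[L] = ⟪β, β⟫[T] + ⟪β, fun y => β y⁻¹⟫[T] := by
  rw [cfdot_cfInd_left h.le hβ.1 (cfInd_mem_CF L T β), ← cfdotDr]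
  refine cfdot_congr (fun _ _ => rfl) fun y hy => ?_
  by_cases e : y = 1
  · rw [e, cfInd1 h.le, Pi.add_apply, inv_one, h1]; simp
  · exact tor_ind h hβ hy e

/-- the Borel subgroup -/
structure Bl (L P T : Subgroup G) (j : G) (p q r k : ℕ) : Prop extends LF L p q r k where
  uni : Uni L P p q
  tor : Tor L T ((q - 1) / 2)
  TP : T ≤ 𝐍(P)
  jL : j ∈ L
  jN : j ∈ 𝐍(T)
  jT : j ∉ T

/-- the permutation character on the Sylow `p`-subgroups -/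
noncomputable def pc (L P : Subgroup G) : G → ℂ := cfInd L (L ⊓ 𝐍(P)) (cf1 (L ⊓ 𝐍(P)))

theorem pc_mem (L P : Subgroup G) : pc L P ∈ CF L := cfInd_mem_CF _ _ _

namespace Bl

variable (h : Bl L P T j p q r k)
include h

omit [Finite G] in
theorem num : ∃ m, q = 2 * m + 1 ∧ (q - 1) / 2 = m ∧ 2 ≤ m ∧ 4 * r * k = (q + 1) * m := by
  have h5 := h.five
  obtain ⟨-, -, ⟨h1, h2⟩ | ⟨h1, h2⟩⟩ := h.toLF.par
  · exact ⟨2 * k, by omega, by omega, by omega, by rw [← h2]; ring⟩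
  · exact ⟨r, by omega, by omega, by omega, by rw [h1]; ring⟩

theorem coprime : (♯P).Coprime ♯T := by
  obtain ⟨m, h1, h2, -, -⟩ := h.num
  rw [h.uni.card, h.tor.card, h2, h1]
  simp

theorem frob : Frob.IsFrobPair P T := by
  obtain ⟨m, h1, h2, h3, -⟩ := h.num
  refine ⟨h.TP, (one_lt_card_iff_ne_bot P).1 (by rw [h.uni.card]; omega),
    (one_lt_card_iff_ne_bot T).1 (by rw [h.tor.card]; omega), fun x hx h4 y hy e => ?_⟩
  by_contra h5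
  have h6 : x ∈ P := h.uni.cent y hy h5 ▸ (⟨h.tor.le hx, mem_cent1.2 e⟩ : x ∈ L ⊓ 𝐂[y])
  exact h4 (orderOf_eq_one_iff.1 (Nat.eq_one_of_dvd_coprimes h.coprime (orderOf_dvd_card h6)
    (orderOf_dvd_card hx)))

theorem cardB : ♯(L ⊓ 𝐍(P) : Subgroup G) = q * ((q - 1) / 2) := by
  obtain ⟨m, h1, h2, -, -⟩ := h.num
  have h3 := h.uni.card_norm
  rw [h2]
  rw [show q - 1 = 2 * m by omega, mul_left_comm] at h3
  omega

theorem sup : P ⊔ T = L ⊓ 𝐍(P) :=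
  eq_of_le_of_card_ge (sup_le (le_inf h.uni.le le_normalizer) (le_inf h.tor.le h.TP))
    (by rw [h.frob.card_sup, h.cardB, h.uni.card, h.tor.card])

theorem jB : j ∉ L ⊓ 𝐍(P) := fun e => by
  obtain ⟨y, hy, h1⟩ := exists_mem_ne_one h.frob.right_ne_bot
  exact h.jT (h.frob.mem_right_of_conj_mem (h.sup ▸ e) hy h1 (conj_mem_of_norm' h.jN hy))

theorem pc_one : pc L P 1 = q + 1 := by
  obtain ⟨m, h1, h2, h3, h4⟩ := h.num
  have h5 := card_mul_relIndex (inf_le_left : L ⊓ 𝐍(P) ≤ L)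
  rw [h.cardB, h.card, h2, show 4 * q * r * k = q * m * (q + 1) by
    rw [mul_assoc q, mul_comm m, ← h4]; ring] at h5
  rw [pc, cfInd1 inf_le_left, Nat.eq_of_mul_eq_mul_left (Nat.mul_pos (by omega) (by omega)) h5,
    cf1E (one_mem _)]
  simp

theorem pc_of (hy : y ∈ L) {c : ℂ} {F : G → ℂ} (h1 : ∀ g ∈ L, cf1 (L ⊓ 𝐍(P)) (g * y * g⁻¹) = F g)
    (h2 : ∑ g ∈ elts (L : Set G), F g = ♯(L ⊓ 𝐍(P) : Subgroup G) * c) : pc L P y = c := by
  rw [pc, cfIndE' _ _ hy, Finset.sum_congr rfl fun g hg => h1 g (mem_elts.1 hg), h2,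
    inv_mul_cancel_left₀ (cardC_ne_zero _)]

theorem pc_P (hy : y ∈ P) (h1 : y ≠ 1) : pc L P y = 1 := by
  refine h.pc_of (h.uni.le hy) (F := fun g => cf1 (L ⊓ 𝐍(P)) g * 1) (fun g hg => ?_)
    (sum_cf1 inf_le_left 1)
  by_cases e : g ∈ L ⊓ 𝐍(P)
  · rw [cf1E e, cf1E (conj_mem_of_mem e ⟨h.uni.le hy, le_normalizer hy⟩), mul_one]
  rw [cf1_of_not_mem e, cf1_of_not_mem fun e' => e ⟨hg, h.uni.ti g hg y hy h1 ?_⟩, zero_mul]
  by_contra h2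
  obtain ⟨c, -, hc⟩ := h.frob.exists_conj_mem (h.sup ▸ e') h2
  exact h1 (orderOf_eq_one_iff.1 (Nat.eq_one_of_dvd_coprimes h.coprime (orderOf_dvd_card hy)
    (by simpa only [orderOf_conj', orderOf_conj] using orderOf_dvd_card hc)))

theorem pc_T (hy : y ∈ T) (h1 : y ≠ 1) : pc L P y = 2 := by
  have h2 : T ≤ L ⊓ 𝐍(P) := le_inf h.tor.le h.TP
  refine h.pc_of (h.tor.le hy) (F := fun g => cf1 (L ⊓ 𝐍(P)) g * 1 + cf1 (L ⊓ 𝐍(P)) (g * j) * 1)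
    (fun g hg => ?_) (by
      rw [Finset.sum_add_distrib, sum_elts_mul_right h.jL fun g => cf1 (L ⊓ 𝐍(P)) g * 1,
        sum_cf1 inf_le_left]; ring)
  by_cases e : g ∈ L ⊓ 𝐍(P)
  · rw [cf1E e, cf1E (conj_mem_of_mem e (h2 hy)),
      cf1_of_not_mem fun e' => h.jB ((mul_mem_cancel_left e).1 e')]
    simp
  by_cases e1 : g * j ∈ L ⊓ 𝐍(P)
  · rw [cf1E e1, cf1_of_not_mem e, cf1E (by
      simpa [mul_assoc] using conj_mem_of_mem e1 (h2 (conj_mem_of_norm' h.jN hy)))]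
    simp
  rw [cf1_of_not_mem e, cf1_of_not_mem e1, cf1_of_not_mem fun e' => ?_]
  · simp
  obtain ⟨c, hc, h3⟩ := h.frob.exists_conj_mem (h.sup ▸ e') fun h3 =>
    h1 (orderOf_eq_one_iff.1 (Nat.eq_one_of_dvd_coprimes h.coprime
      (by simpa only [orderOf_conj] using orderOf_dvd_card h3) (orderOf_dvd_card hy)))
  have hc' : c ∈ L ⊓ 𝐍(P) := ⟨h.uni.le hc, le_normalizer hc⟩
  have h4 := tor_norm h.tor hy h1 (mul_mem (inv_mem hc'.1) hg) (by simpa [mul_assoc] using h3)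
  by_cases h5 : c⁻¹ * g ∈ T
  · exact e ((mul_mem_cancel_left (inv_mem hc')).1 (h2 h5))
  exact e1 ((mul_mem_cancel_left (inv_mem hc')).1
    (h2 (mul_assoc c⁻¹ g j ▸ tor_mul h.tor h4 ⟨h.jL, h.jN⟩ h5 h.jT)))

theorem pc_zero (hy : y ∈ L) (h1 : y ≠ 1) (hc : (orderOf y).Coprime (q * ((q - 1) / 2))) :
    pc L P y = 0 :=
  h.pc_of hy (F := 0) (fun g _ => cf1_of_not_mem fun e => h1 (orderOf_eq_one_iff.1
    (Nat.eq_one_of_dvd_coprimes hc dvd_rfl (by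
      simpa only [orderOf_conj, h.cardB] using orderOf_dvd_card e)))) (by simp)

theorem pc_norm : ⟪pc L P, pc L P⟫[L] = 2 := by
  have h1 : P ≤ L ⊓ 𝐍(P) := le_inf h.uni.le le_normalizer
  nth_rewrite 1 [pc]
  rw [cfdot_cfInd_left inf_le_left (cf1_mem_CF _).1 (pc_mem L P), cfdotC, cfdot_cf1r,
    Finset.sum_congr rfl (g := fun y => 2 + cf1 P y * -1 + cf1 ⊥ y * q) fun y hy => ?_,
    Finset.sum_add_distrib, Finset.sum_add_distrib, sum_cf1 h1, sum_cf1 bot_le, sum_elts_const,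
    h.uni.card]
  · rw [card_bot, nsmul_eq_mul, show ∀ a b : ℂ, a * 2 + b * -1 + (1 : ℕ) * b = a * 2 by
      intros; push_cast; ring, inv_mul_cancel_left₀ (cardC_ne_zero _), Complex.conj_ofNat]
  by_cases e : y = 1
  · rw [e, h.pc_one, cf1E (one_mem _), cf1E (one_mem _)]; ring
  rw [cf1_of_not_mem (mt mem_bot.1 e)]
  by_cases e1 : y ∈ P
  · rw [h.pc_P e1 e, cf1E e1]; ring
  obtain ⟨c, hc, h3⟩ := h.frob.exists_conj_mem (h.sup ▸ mem_elts.1 hy) e1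
  rw [← cfunJ' (pc_mem L P) (h.uni.le hc), h.pc_T h3 (fun e' => e (by
    simpa using conj_eq_one_iff.1 (show c⁻¹ * y * c⁻¹⁻¹ = 1 by rwa [inv_inv]))),
    cf1_of_not_mem e1]
  ring

theorem pc_conj (hT : ∃ g ∈ L, g •ᶜ K = T) (hy : y ∈ K) (h1 : y ≠ 1) : pc L P y = 2 := by
  obtain ⟨g, hg, e⟩ := hT
  rw [← cfunJ (pc_mem L P) hg, h.pc_T (e ▸ conj_mem_conj hy) (conj_ne_one.2 h1)]

/-- the Steinberg character -/
theorem exists_st : ∃ w, IsDirr L w ∧ ⟪w, cf1 L⟫[L] = 0 ∧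
    w 1 = ((if q % 4 = 1 then q else -q : ℤ) : ℂ) ∧ (∀ R, Tor L R r → ∀ x ∈ R, x ≠ 1 → w x = -1) ∧
    ∀ K, Tor L K (2 * k) → ∀ x ∈ K, x ≠ 1 → w x = 1 := by
  have h1 : ⟪pc L P, cf1 L⟫[L] = 1 := by
    rw [pc, cfdot_cfInd_left inf_le_left (cf1_mem_CF _).1 (cf1_mem_CF _), ← cfdot_cfRes_right,
      cfRes_cf1 inf_le_left, cfdot_cf1]
  have h2 : IsDirr L (pc L P - cf1 L) := ODD.dirr_sub (cfInd_vchar inf_le_left (cf1_vchar _)) h.pc_norm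
    (isIrr_cf1 L).isDirr (by rw [cfdotC, h1, map_one])
  have h3 : ⟪pc L P - cf1 L, cf1 L⟫[L] = 0 := by rw [cfdotBl, h1, cfdot_cf1, sub_self]
  have h4 : (pc L P - cf1 L) 1 = q := by rw [Pi.sub_apply, h.pc_one, cf1E (one_mem _)]; ring
  have hT := h.tor
  obtain ⟨-, -, ⟨e1, e2⟩ | ⟨e1, e2⟩⟩ := h.par
  · rw [show (q - 1) / 2 = 2 * k by omega] at hT
    refine ⟨_, h2, h3, by rw [h4, if_pos (by omega)]; simp, fun R hR x hx x1 => ?_,
      fun K hK x hx x1 => ?_⟩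
    · rw [Pi.sub_apply, cf1E (hR.le hx), h.pc_zero (hR.le hx) x1
        (Nat.Coprime.coprime_dvd_left (hR.card ▸ orderOf_dvd_card hx) ?_), zero_sub]
      rw [show (q - 1) / 2 = 2 * k by omega, show q = r + 2 * k by omega, show r = 2 * k + 1 by omega]
      refine Nat.Coprime.mul_right ?_ (by simp)
      simp
    · rw [Pi.sub_apply, cf1E (hK.le hx), h.pc_conj (h.conjK _ _ hK hT) hx x1]; ring
  · rw [show (q - 1) / 2 = r by omega] at hT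
    refine ⟨_, h2.neg, by rw [cfdotNl, h3, neg_zero],
      by rw [Pi.neg_apply, h4, if_neg (by omega)]; simp, fun R hR x hx x1 => ?_,
      fun K hK x hx x1 => ?_⟩
    · rw [Pi.neg_apply, Pi.sub_apply, cf1E (hR.le hx), h.pc_conj (h.conjR _ _ hR hT) hx x1]; ring
    · rw [Pi.neg_apply, Pi.sub_apply, cf1E (hK.le hx), h.pc_zero (hK.le hx) x1
        (Nat.Coprime.coprime_dvd_left (hK.card ▸ orderOf_dvd_card hx) ?_), zero_sub, neg_neg]
      rw [show (q - 1) / 2 = r by omega, show q = r + 2 * k by omega, show 2 * k = r + 1 by omega]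
      refine Nat.Coprime.mul_right ?_ (by simp)
      simp

end Bl

/-- four times the characteristic function of the elements of even order -/
noncomputable def ev (L : Subgroup G) : G → ℂ := (4 : ℂ) • (cf1 L - regInd 2 L)

theorem ev_even (hy : y ∈ L) (h : 2 ∣ orderOf y) : ev L y = 4 := by
  simp [ev, cf1E hy, regInd_of_not_mem fun e : y ∈ Reg 2 L => e.2 h]

theorem ev_odd (h : ¬ 2 ∣ orderOf y) : ev L y = 0 := by
  by_cases hy : y ∈ L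
  · simp [ev, cf1E hy, regInd_of_mem (⟨hy, h⟩ : y ∈ Reg 2 L)]
  · simp [ev, cf1_of_not_mem hy, regInd_of_not_mem fun e : y ∈ Reg 2 L => hy e.1]

theorem ev_mem (L : Subgroup G) : ev L ∈ CF L :=
  Submodule.smul_mem _ _ (sub_mem (cf1_mem_CF L) regInd_mem_CF)

theorem mem_B0_iff (hχ : IsIrr L χ) (h1 : χ ≠ cf1 L) : χ ∈ B0 2 L ↔ ⟪χ, ev L⟫[L] ≠ 0 := by
  rw [mem_B0, ev, cfdotZr, cfdotBr, hχ.cfdot_cf1 h1,
    cfdotEr (A := Reg 2 L) (fun _ e => e.1) _ fun _ => regInd_of_not_mem,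
    Finset.sum_congr rfl (f := fun x => χ x * conj (regInd 2 L x)) (g := χ) fun x hx => by
      rw [regInd_of_mem (mem_elts.1 hx)]; simp]
  have := cardC_ne_zero L
  simp [hχ, this, Complex.conj_ofNat]

section

variable {ρ : G} (h : V4 L v s ρ)
include h

theorem even_conj (hy : y ∈ L) (h2 : 2 ∣ orderOf y) :
    ∃ g ∈ L, v * (g * y * g⁻¹) ∈ O (L ⊓ 𝐂[v]) := by
  obtain ⟨a, b, ⟨m, hm⟩, h3, h4, h5, h6, rfl⟩ := exists_decomp Nat.prime_two y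
  have ha := zpowers_le.2 hy h5
  have hb := zpowers_le.2 hy h6
  obtain ⟨c, hc, e⟩ := h.pair.syl.exists_conj_le (zpowers_le.2 ha)
    (IsPGroup.of_card_dvd_pow (by rw [Nat.card_zpowers]; exact orderOf_dvd_of_pow_eq_one hm))
  obtain ⟨d, hd, e1⟩ := h.exists_conj_of_mem (e (conj_mem_conj (mem_zpowers a)))
    (conj_ne_one.2 fun e => h3 (by simpa [e] using h2))
  have e2 : d⁻¹ * c * a * (d⁻¹ * c)⁻¹ = v := by
    rw [show d⁻¹ * c * a * (d⁻¹ * c)⁻¹ = d⁻¹ * (c * a * c⁻¹) * d by group, ← e1]; group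
  have hg := mul_mem (inv_mem (zpowers_le.2 h.ρ_mem hd)) hc
  refine ⟨_, hg, ?_⟩
  rw [← conj_mul, e2, h.pair.cinv.zzg]
  exact (h.pair.reg _).1 ⟨⟨conj_mem_of_mem hg hb, mem_cent1.2
    (e2 ▸ h4.symm.map (MulAut.conj (d⁻¹ * c)))⟩, by rwa [orderOf_conj]⟩

theorem colf_eq : colf L v (cf1 (O (L ⊓ 𝐂[v]))) = ev L := by
  have h1 : cf1 (O (L ⊓ 𝐂[v])) ∈ CFon (L ⊓ 𝐂[v]) (O (L ⊓ 𝐂[v])) :=
    ⟨cf1_mem_CF_of_normal h.pair.sd.normal, (cf1_mem_CF _).1⟩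
  refine cfun_ext (cfInd_mem_CF _ _ _) (ev_mem L) fun y hy => ?_
  by_cases e : 2 ∣ orderOf y
  · obtain ⟨g, hg, h2⟩ := even_conj h hy e
    rw [ev_even hy e, colf, ← cfunJ (cfInd_mem_CF _ _ _) hg, normedTI_Ind_id h.pair.ti (h.pair.tr_on h1) h2
      (conj_mem_of_mem hg hy)]
    simp [cf1E h2]
  · rw [ev_odd e]
    refine cfInd_eq_zero _ fun g _ => cfun_on0 (h.pair.tr_on h1) fun h2 => e ?_
    rw [← orderOf_conj' g, ← orderOf_eq_two h.t_sq h.t_ne, ← h.pair.pow_card h2]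
    exact orderOf_pow_dvd _

theorem apply_even (hχ : χ ∈ B0 2 L) (hy : y ∈ L) (h2 : 2 ∣ orderOf y) : χ y = χ v := by
  obtain ⟨g, hg, h3⟩ := even_conj h hy h2
  rw [← cfunJ (isIrr_of_mem_B0 hχ).mem_CF hg, ← h.pair.cinv.zzg (g * y * g⁻¹)]
  exact apply_mul_eq_of_mem_B0 (k := 1) hχ h.t_mem (by rw [pow_one, pow_two, h.t_sq])
    h.pair.sd.normal (Nat.two_dvd_ne_zero.2 (Nat.odd_iff.1 (odd_O _))) h3

theorem ev_vchar : ev L ∈ ZIrr L :=
  colf_eq h ▸ h.pair.colf_vchar (cf1_mem_CF_of_normal h.pair.sd.normal) (cf1_vchar _)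

theorem cfdot_ev (hχ : χ ∈ CF L) : ⟪χ, ev L⟫[L] = ⟪tr v χ, cf1 (O (L ⊓ 𝐂[v]))⟫[O (L ⊓ 𝐂[v])] :=
  colf_eq h ▸ h.pair.cfdot_colf ⟨cf1_mem_CF_of_normal h.pair.sd.normal, (cf1_mem_CF _).1⟩ hχ

theorem cfdot_ev_of {c : ℂ} (hχ : χ ∈ CF L) (h1 : ∀ y ∈ L, 2 ∣ orderOf y → χ y = c) :
    ⟪χ, ev L⟫[L] = c := by
  rw [cfdot_ev h hχ, cfdot_congr (φ' := c • cf1 (O (L ⊓ 𝐂[v]))) (fun y hy => ?_) fun _ _ => rfl,
    cfdotZl, cfdot_cf1, mul_one]
  rw [tr_apply, Pi.smul_apply, cf1E hy, smul_eq_mul, mul_one]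
  refine h1 _ (mul_mem h.t_mem (h.pair.sd.left_le hy).1) ?_
  rw [← orderOf_eq_two h.t_sq h.t_ne]
  nth_rewrite 1 [← h.pair.pow_card (a := v * y) (by rwa [h.pair.cinv.zzg])]
  exact orderOf_pow_dvd _

theorem dirr_even (ha : IsDirr L a) (h0 : ⟪a, cf1 L⟫[L] = 0) (h1 : ⟪a, ev L⟫[L] = 1) (hy : y ∈ L)
    (h2 : 2 ∣ orderOf y) : a y = 1 := by
  obtain ⟨ε, -, χ, hχ, rfl⟩ := ha.exists_sign
  have h3 : χ ∈ B0 2 L := (mem_B0_iff hχ fun e => ?_).2 fun e => by simp [cfdotZl, e] at h1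
  · rw [cfdotZl, cfdot_ev_of h hχ.mem_CF fun y => apply_even h h3] at h1
    rw [Pi.smul_apply, apply_even h h3 hy h2, smul_eq_mul, h1]
  · rw [cfdotZl, e, cfdot_cf1, mul_one] at h0
    simp [h0] at h1

end

theorem ortho_of_add {c : G → ℂ} (ha : IsDirr L a) (hc : IsDirr L c) (h0 : ⟪b, a⟫[L] = 0)
    (h1 : ⟪a + b, c⟫[L] = 0) : ⟪a, c⟫[L] = 0 := by
  by_contra h
  rw [cfdotDl] at h1
  rcases ha.eq_or_eq_neg hc h with e | e
  · rw [← e, h0, add_zero, e] at h1; exact h (e ▸ h1)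
  · rw [e, cfdotNr, neg_eq_zero] at h0; exact h (by rwa [h0, add_zero] at h1)

theorem sum_dirr (ha : IsDirr L a) (x : G) :
    ∑ χ ∈ Irr L, ⟪a, χ⟫[L] * (χ x * χ x / χ 1) = a x * a x / a 1 := by
  obtain ⟨ε, hε, χ, hχ, rfl⟩ := ha.exists_sign
  rw [Finset.sum_eq_single_of_mem χ (mem_Irr.2 hχ) fun ψ hψ e => by
    rw [cfdotZl, cfdot_irr_ne hχ (mem_Irr.1 hψ) e.symm]; simp, cfdotZl, cfdot_irr_self hχ]
  rcases hε with rfl | rfl <;> simp [div_neg]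

/-- a maximal torus of even order -/
structure Kt (L K : Subgroup G) (v s ρ : G) (k : ℕ) : Prop where
  v4 : V4 L v s ρ
  tor : Tor L K (2 * k)
  vK : v ∈ K
  sN : s ∈ 𝐍(K)
  sK : s ∉ K

namespace Kt

variable {ρ : G} (h : Kt L K v s ρ k)
include h

theorem ab : Ab K := ab_of_isCyclic h.tor.cyc

theorem cent : L ⊓ 𝐂[v] = L ⊓ 𝐍(K) :=
  le_antisymm (fun g hg => tor_norm h.tor h.vK h.v4.t_ne hg.1
    ((mem_cent1_iff_conj.1 hg.2).symm ▸ h.vK))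
    fun g hg => ⟨hg.1, by
      by_cases e : g ∈ K
      · exact mem_cent1.2 (ab_iff.1 h.ab g e v h.vK)
      · exact mem_cent1_iff_conj.2 (((h.tor.inv g hg e).2 v h.vK).trans (inv_eq h.v4.t_sq))⟩

theorem card : ♯(L ⊓ 𝐂[v] : Subgroup G) = 4 * k := by rw [h.cent, h.tor.card_norm]; ring

theorem O_le : O (L ⊓ 𝐂[v]) ≤ K := fun y hy => by_contra fun e => e (by
  rw [eq_one_of_odd_of_sq (odd_of_mem (odd_O _) hy)
    (h.tor.inv y (h.cent ▸ h.v4.pair.sd.left_le hy) e).1]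
  exact one_mem K)

theorem K_le : K ≤ L ⊓ 𝐂[v] := h.cent ▸ le_inf h.tor.le le_normalizer

theorem kI_eq : kI L v s = k := by
  have p := h.v4.pair
  have h1 : L ⊓ 𝐂[v] ⊓ 𝐂[s] = S4 v s :=
    le_antisymm (p.cent_le.trans (sup_le (fun y hy => ?_) le_rfl))
      (le_inf (le_inf p.le p.le_cent) p.le_cent')
  · have h2 := card_mul_relIndex (inf_le_left : L ⊓ 𝐂[v] ⊓ 𝐂[s] ≤ L ⊓ 𝐂[v])
    rw [inf_relIndex_left, h1, p.card, h.card] at h2
    exact Nat.eq_of_mul_eq_mul_left (by norm_num) h2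
  have h2 := (h.tor.inv s ⟨p.s_mem, h.sN⟩ h.sK).2 y (h.O_le hy.1)
  rw [mem_cent1_iff_conj.1 (mem_cent1_comm.1 hy.2)] at h2
  rw [eq_one_of_odd_of_sq (odd_of_mem (odd_O _) hy.1) (mul_eq_one_iff_eq_inv.2 h2)]
  exact one_mem _

theorem mul_mem_O (hy : y ∈ K) (h1 : y ∉ O (L ⊓ 𝐂[v])) : v * y ∈ O (L ⊓ 𝐂[v]) := by
  have h2 := card_mul_relIndex h.O_le
  have h3 := h.v4.pair.sd.card
  rw [h.v4.pair.card, h.card, mul_comm] at h3
  rw [h.tor.card, ← Nat.eq_of_mul_eq_mul_left (by norm_num) h3, mul_comm 2] at h2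
  exact (mul_mem_iff_of_index_two (H := (O (L ⊓ 𝐂[v])).subgroupOf K)
    (Nat.eq_of_mul_eq_mul_left Nat.card_pos h2) (a := ⟨v, h.vK⟩) (b := ⟨y, hy⟩)).2
    (iff_of_false h.v4.pair.t_not_mem h1)

theorem even (hy : y ∈ K) (h1 : y ∉ O (L ⊓ 𝐂[v])) : 2 ∣ orderOf y :=
  by_contra fun e => h1 ((h.v4.pair.reg y).1 ⟨h.K_le hy, e⟩)

theorem lin_ext {l m : G → ℂ} (hl : IsLinChar K l) (hm : IsLinChar K m) (h1 : l v = m v)
    (h2 : ∀ y ∈ O (L ⊓ 𝐂[v]), l y = m y) : l = m :=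
  cfun_ext hl.mem_CF hm.mem_CF fun y hy => by
    by_cases e : y ∈ O (L ⊓ 𝐂[v])
    · exact h2 y e
    have h3 := h.mul_mem_O hy e
    rw [← h.v4.pair.cinv.zzg y, lin_charM hl h.vK (h.O_le h3), lin_charM hm h.vK (h.O_le h3), h1,
      h2 _ h3]

theorem lin_v {l : G → ℂ} (hl : IsLinChar K l) : l v = 1 ∨ l v = -1 :=
  mul_self_eq_one_iff.1 (by rw [← lin_charM hl h.vK h.vK, h.v4.t_sq, hl.one])

theorem exists_sgn : ∃ σ, IsLinChar K σ ∧ σ v = -1 ∧ (∀ y ∈ O (L ⊓ 𝐂[v]), σ y = 1) ∧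
    ∀ y ∈ K, y ∉ O (L ⊓ 𝐂[v]) → σ y = -1 := by
  obtain ⟨σ, h1, h2, h3⟩ := exists_lin_char_cfker (H := K)
    ⟨h.O_le, h.K_le.trans h.v4.pair.sd.normal.norm⟩ ((ab_iff_der.1 h.ab).trans_le bot_le)
    h.v4.pair.t_not_mem
  have h4 := (h.lin_v h1).resolve_left (mt (mem_cfker_lin h1).2 h3)
  have h5 : ∀ y ∈ O (L ⊓ 𝐂[v]), σ y = 1 := fun y hy => (mem_cfker_lin h1).1 (h2 hy)
  refine ⟨σ, h1, h4, h5, fun y hy e => ?_⟩
  have h6 := h.mul_mem_O hy e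
  rw [← h.v4.pair.cinv.zzg y, lin_charM h1 h.vK (h.O_le h6), h4, h5 _ h6, mul_one]

/-- the values of the two characters of degree `(q ± 1) / 2` on the torus -/
theorem val {w : G → ℂ} (ha : IsDirr L a) (hb : IsDirr L b) (hw : w ∈ CF L)
    (e : ev L = cf1 L + w + a + b) (h1 : ∀ x ∈ K, x ≠ 1 → w x = 1)
    (h2 : ∀ y ∈ L, 2 ∣ orderOf y → a y = 1) (hx : x ∈ O (L ⊓ 𝐂[v])) (x1 : x ≠ 1) : a x = -1 := by
  obtain ⟨σ, s1, s2, s3, s4⟩ := h.exists_sgn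
  have k1 : ∀ l, IsLinChar K l → l v = -1 → l ≠ cf1 K := fun l _ h3 h4 => by
    rw [h4, cf1E h.vK] at h3; norm_num at h3
  have k2 : ∀ l, IsLinChar K l → l v = -1 → l ≠ σ → ⟪a, σ - l⟫[K] = -1 := fun l hl l1 l2 => by
    have hZ := sub_mem (irr_vchar s1.isIrr) (irr_vchar hl.isIrr)
    have hβ := vchar_mem_CF hZ
    have h0 : (σ - l) 1 = 0 := by rw [Pi.sub_apply, s1.one, hl.one, sub_self]
    have c1 : ∀ m, IsLinChar K m → m v = -1 → star m = m → m = σ := fun m hm m1 m2 =>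
      h.lin_ext hm s1 (m1.trans s2.symm) fun y hy => by
        obtain ⟨i, hi⟩ := odd_of_mem (odd_O _) hy
        have h3 := lin_char_unity_root hm (h.O_le hy)
        have h4 := lin_char_mul_conj hm (h.O_le hy)
        rw [show conj (m y) = m y from congrFun m2 y, ← pow_two] at h4
        rwa [hi, pow_succ, pow_mul, h4, one_pow, one_mul, ← s3 y hy] at h3
    have c2 : star σ = σ := h.lin_ext s1.star s1 (by simp [s2]) fun y hy => by simp [s3 y hy]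
    have c3 : cfnorm L (cfInd L K (σ - l)) < 4 := by
      rw [cfnorm_eq_of_cfdot (r := 3)]
      · norm_num
      rw [cfdot_tor_ind h.tor hβ h0, cfdot_congr (ψ := fun y => (σ - l) y⁻¹) (ψ' := σ - star l)
        (fun _ _ => rfl) fun y _ => by
          rw [Pi.sub_apply, Pi.sub_apply, char_inv s1.isChar, char_inv hl.isChar]
          exact congrArg₂ _ (congrFun c2 y) rfl]
      simp only [cfdotBl, cfdotBr, cfdot_irr_self s1.isIrr, cfdot_irr_self hl.isIrr,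
        cfdot_irr_ne s1.isIrr hl.isIrr l2.symm, cfdot_irr_ne hl.isIrr s1.isIrr l2,
        cfdot_irr_ne s1.isIrr hl.star.isIrr fun e => l2 (by rw [← c2, e, star_star]),
        cfdot_irr_ne hl.isIrr hl.star.isIrr fun e => l2 (c1 l hl l1 e.symm)]
      norm_num
    have c4 : ∀ φ ∈ CF L, ⟪φ, cfInd L K (σ - l)⟫[L] = ⟪φ, σ - l⟫[K] := fun φ hφ =>
      cfdot_cfInd_right h.tor.le hφ hβ.1
    have c5 : ⟪cf1 K, σ - l⟫[K] = 0 := by
      rw [cfdotBr, cfdot_symm0 (s1.isIrr.cfdot_cf1 (k1 σ s1 s2)),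
        cfdot_symm0 (hl.isIrr.cfdot_cf1 (k1 l hl l1)), sub_self]
    have c6 : ∀ φ : G → ℂ, (∀ x ∈ K, x ≠ 1 → φ x = 1) → ⟪φ, σ - l⟫[K] = 0 := fun φ hφ => by
      rw [← c5, cfdotE, cfdotE]
      refine congrArg _ (Finset.sum_congr rfl fun x hx => ?_)
      by_cases e : x = 1
      · simp [e, h0]
      · rw [hφ x (mem_elts.1 hx) e, cf1E (mem_elts.1 hx)]
    have c7 : ⟪ev L, σ - l⟫[K] = -2 := by
      rw [cfdot_congr (φ' := (2 : ℂ) • (cf1 K - σ)) (fun y hy => ?_) fun _ _ => rfl, cfdotZl, cfdotBl,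
        c5, cfdotBr, cfdot_irr_self s1.isIrr, cfdot_irr_ne s1.isIrr hl.isIrr l2.symm]
      · ring
      by_cases e : y ∈ O (L ⊓ 𝐂[v])
      · simp [ev_odd ((h.v4.pair.reg y).2 e).2, cf1E hy, s3 y e]
      · rw [ev_even (h.tor.le hy) (h.even hy e), Pi.smul_apply, Pi.sub_apply, cf1E hy, s4 y hy e]
        norm_num
    rw [e, cfdotDl, cfdotDl, cfdotDl, c6 w h1, c6 _ fun x hx _ => cf1E (h.tor.le hx)] at c7
    have c8 := ODD.coef_cases (cfInd_vchar h.tor.le hZ) c3 ha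
    have c9 := ODD.coef_cases (cfInd_vchar h.tor.le hZ) c3 hb
    rw [c4 _ ha.mem_CF] at c8
    rw [c4 _ hb.mem_CF] at c9
    rcases c8 with c | c | c <;> rcases c9 with d | d | d <;> rw [c, d] at c7 <;>
      first | exact c | norm_num at c7
  have k3 : ∀ l, IsLinChar K l → l v = -1 → ⟪cfRes K a + σ, l⟫[K] = ⟪a, σ⟫[K] + 1 := fun l hl l1 => by
    rw [cfdotDl, cfdot_cfRes_left]
    by_cases e : l = σ
    · rw [e, cfdot_irr_self s1.isIrr]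
    · have := k2 l hl l1 e
      rw [cfdotBr] at this
      rw [cfdot_irr_ne s1.isIrr hl.isIrr (Ne.symm e)]
      linear_combination -this
  have k4 := congrFun (cfun_ext_irr (add_mem (cfRes_mem_CF h.tor.le ha.mem_CF) s1.mem_CF)
    (Submodule.smul_mem _ (⟪a, σ⟫[K] + 1) (cfReg_mem_CF K)) fun l hl => ?_) x
  · rw [Pi.add_apply, Pi.smul_apply, cfReg_of_ne _ x1, cfResE _ (h.O_le hx), s3 x hx] at k4
    linear_combination k4
  have hl' := irr_abelian_lin h.ab hl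
  rw [cfdotZl, cfdotC (cfReg K), cfdot_cfReg, hl'.one, map_one, mul_one]
  rcases h.lin_v hl' with c | c
  · rw [← cfdot_mul_lin s1, ← k3 _ (s1.mul hl') (by rw [Pi.mul_apply, s2, c, mul_one])]
    refine cfdot_congr (fun y hy => ?_) fun _ _ => rfl
    by_cases e : y ∈ O (L ⊓ 𝐂[v])
    · rw [Pi.mul_apply, s3 y e, one_mul]
    · rw [Pi.mul_apply, Pi.add_apply, cfResE _ hy, h2 y (h.tor.le hy) (h.even hy e), s4 y hy e]
      ring
  · exact k3 l hl' c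

end Kt

theorem exists_kt (h : LF L p q r k) : ∃ K v s ρ, Kt L K v s ρ k := by
  obtain ⟨hr, hk, hq⟩ := h.par
  have h1 : Odd q := by rw [Nat.odd_iff]; omega
  obtain ⟨v, hv, h2⟩ := cauchy Nat.prime_two (H := L) ⟨2 * q * r * k, by rw [h.card]; ring⟩
  have v1 : v ≠ 1 := fun e => by simp [e] at h2
  have v2 : v * v = 1 := by rw [← pow_two, ← h2, pow_orderOf_eq_one]
  have h3 : ∀ X : Subgroup G, v ∈ X → ¬ Odd ♯X := fun X hX e =>
    (h2 ▸ odd_of_mem e hX).not_two_dvd_nat dvd_rfl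
  obtain ⟨K, hK, hU | hR | hT⟩ := h.part v hv v1
  · exact absurd (hU.card ▸ h1) (h3 K hK)
  · exact absurd (hR.card ▸ hr) (h3 K hK)
  obtain ⟨s, hs, s1⟩ := SetLike.not_le_iff_exists.1 fun e : L ⊓ 𝐍(K) ≤ K => by
    have := card_le_of_le e
    rw [hT.card_norm, hT.card] at this
    have := hk.pos
    omega
  have hp : Pair L v s := ⟨hv, hs.1, v1, fun e => s1 (e ▸ one_mem K), fun e => s1 (e ▸ hK), v2,
    (hT.inv s hs s1).1, (mul_inv_eq_iff_eq_mul.1 (((hT.inv s hs s1).2 v hK).trans (inv_eq v2))).symm,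
    fun e => by
      rw [h.card, mul_assoc, mul_assoc] at e
      exact ((h1.mul (hr.mul hk)).of_dvd_nat (Nat.dvd_of_mul_dvd_mul_left (k := 4) (m := 2)
        (by norm_num) e)).not_two_dvd_nat dvd_rfl⟩
  obtain ⟨ρ, h4⟩ := hp.sdprod_or.resolve_left fun e =>
    h3 _ (e.der_le_of_ab hp.ab (h.perfect.symm ▸ hv)) (odd_O L)
  exact ⟨K, v, s, ρ, h4, hT, hK, hs.2, s1⟩

/-- the nonprincipal characters of the principal 2-block of `L₂(q)`, with signs -/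
structure Ub (L : Subgroup G) (r k : ℕ) (Q : ℤ) (u : Fin 3 → G → ℂ) : Prop where
  dirr : ∀ i, IsDirr L (u i)
  dot : ∀ i j, ⟪u i, u j⟫[L] = if i = j then 1 else 0
  one : ∀ i, ⟪u i, cf1 L⟫[L] = 0
  sum : ev L = cf1 L + u 0 + u 1 + u 2
  even : ∀ i, ∀ y ∈ L, 2 ∣ orderOf y → u i y = 1
  valR : ∀ R, Tor L R r → ∀ x ∈ R, x ≠ 1 → u 0 x = -1
  valK : ∀ K, Tor L K (2 * k) → ∀ x ∈ K, x ≠ 1 → Odd (orderOf x) → u 0 x = 1 ∧ u 1 x = -1 ∧ u 2 x = -1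
  deg : u 0 1 = Q ∧ u 1 1 = -((Q + 1) / 2) ∧ u 2 1 = -((Q + 1) / 2)

theorem par_Q (h : Par q r k) {Q : ℤ} (hQ : Q = if q % 4 = 1 then (q : ℤ) else -q) :
    (Q : ℂ) * (Q + 1) = 2 * q * r ∧ ((Q : ℂ) - 1) ^ 2 = 16 * k ^ 2 ∧ (Q : ℂ) ^ 2 = q ^ 2 := by
  obtain ⟨-, -, ⟨h1, h2⟩ | ⟨h1, h2⟩⟩ := h
  · rw [if_pos (by omega)] at hQ
    have h3 : (q : ℂ) = 4 * k + 1 := by exact_mod_cast h1
    have h4 : (2 * r : ℂ) = q + 1 := by exact_mod_cast h2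
    rw [hQ]; push_cast
    exact ⟨by linear_combination -q * h4, by rw [h3]; ring, rfl⟩
  · rw [if_neg (by omega)] at hQ
    have h3 : (q + 1 : ℂ) = 4 * k := by exact_mod_cast h1
    have h4 : (2 * r + 1 : ℂ) = q := by exact_mod_cast h2
    rw [hQ]; push_cast
    exact ⟨by linear_combination -q * h4, by linear_combination (q + 1 + 4 * k) * h3, by ring⟩

theorem alg {Q a b : ℂ} (n1 : Q ≠ 0) (n2 : a ≠ 0) (n3 : b ≠ 0) (q1 : Q * (Q + 1) = 2 * q * r)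
    (q2 : (Q - 1) ^ 2 = 16 * k ^ 2) (h1 : 0 = 1 + Q + a + b)
    (h2 : ((q * r : ℕ) : ℂ) * (1 * 1 / 1 + 1 * 1 / Q + 1 * 1 / a + 1 * 1 / b) = 8 * k ^ 2) :
    a + (Q + 1) / 2 = 0 := by
  have h3 : (q * r : ℂ) * ((Q + 1) * a * b + Q * (a + b)) = 8 * k ^ 2 * (Q * a * b) := by
    rw [← h2]; push_cast; field_simp; ring
  obtain rfl : b = -1 - Q - a := by linear_combination -h1
  refine pow_eq_zero_iff (n := 2) (by norm_num) |>.1 (mul_left_cancel₀ (pow_ne_zero 2 n1) ?_)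
  linear_combination (-1 / 4) * (2 * h3 + ((Q + 1) * a * (-1 - Q - a) + Q * (a + (-1 - Q - a))) * q1 -
    Q * a * (-1 - Q - a) * q2)

theorem Bl.exists_ub (h : Bl L P T j p q r k) : ∃ u, Ub L r k (if q % 4 = 1 then q else -q) u := by
  classical
  obtain ⟨w, hw, w0, w1, wR, wK⟩ := h.exists_st
  obtain ⟨K, v, s, ρ, hK⟩ := exists_kt h.toLF
  have hV := hK.v4
  obtain ⟨hr, hk, hq⟩ := h.par
  have h1 : ∀ y ∈ L, 2 ∣ orderOf y → w y = 1 := fun y hy e => by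
    have y1 : y ≠ 1 := fun e' => by simp [e'] at e
    obtain ⟨X, hX, hU | hR | hT⟩ := h.part y hy y1
    · have := e.trans (hU.card ▸ orderOf_dvd_card hX); omega
    · exact absurd (e.trans (hR.card ▸ orderOf_dvd_card hX)) hr.not_two_dvd_nat
    · exact wK X hT y hX y1
  have hZ := ev_vchar hV
  have h2 : ⟪cf1 L, ev L⟫[L] = 1 := cfdot_ev_of hV (cf1_mem_CF L) fun y hy _ => cf1E hy
  have h3 : ⟪w, ev L⟫[L] = 1 := cfdot_ev_of hV hw.mem_CF h1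
  have h4 : ⟪ev L, ev L⟫[L] = 4 := cfdot_ev_of hV (ev_mem L) fun y => ev_even
  have h2' := (cfdot_vchar_comm hZ (cf1_vchar L)).trans h2
  have h3' := (cfdot_vchar_comm hZ hw.vchar).trans h3
  have h5 : cfnorm L (ev L - cf1 L - w) = 2 := cfnorm_eq_of_cfdot (by
    simp only [cfdotBl, cfdotBr, h2, h3, h4, h2', h3', w0, cfdot_symm0 w0, cfdot_cf1, hw.cfdot_self]
    norm_num)
  obtain ⟨A, hA, hd, hc, e⟩ := vchar_small_norm (sub_mem (sub_mem hZ (cf1_vchar L)) hw.vchar)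
    (by rw [h5]; norm_num)
  obtain ⟨a, b, hab, rfl⟩ := Finset.card_eq_two.1 (show A.card = 2 by exact_mod_cast hc.trans h5)
  rw [Finset.sum_pair hab] at e
  have ha := hd a (by simp)
  have hb := hd b (by simp)
  have ab : ⟪a, b⟫[L] = 0 := hA.2 a (by simp) b (by simp) hab
  have e1 : ⟪a + b, cf1 L⟫[L] = 0 := by rw [← e, cfdotBl, cfdotBl, h2', cfdot_cf1, w0]; ring
  have e2 : ⟪a + b, w⟫[L] = 0 := by
    rw [← e, cfdotBl, cfdotBl, h3', cfdot_symm0 w0, hw.cfdot_self]; ring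
  have a1 := ortho_of_add ha (isIrr_cf1 L).isDirr (cfdot_symm0 ab) e1
  have b1 := ortho_of_add hb (isIrr_cf1 L).isDirr ab (add_comm a b ▸ e1)
  have a2 := ortho_of_add ha hw (cfdot_symm0 ab) e2
  have b2 := ortho_of_add hb hw ab (add_comm a b ▸ e2)
  have e3 : ev L = cf1 L + w + a + b := by rw [add_assoc, ← e]; abel
  have a3 : ∀ y ∈ L, 2 ∣ orderOf y → a y = 1 := fun y => dirr_even hV ha a1 (by
    rw [e3, cfdotDr, cfdotDr, cfdotDr, a1, a2, ab, ha.cfdot_self]; ring)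
  have b3 : ∀ y ∈ L, 2 ∣ orderOf y → b y = 1 := fun y => dirr_even hV hb b1 (by
    rw [e3, cfdotDr, cfdotDr, cfdotDr, b1, b2, cfdot_symm0 ab, hb.cfdot_self]; ring)
  have v2 : 2 ∣ orderOf v := (orderOf_eq_two hV.t_sq hV.t_ne).symm.dvd
  have h6 := hV.order_eq (isLinChar_cf1 _) (cf1_mem_CF_of_normal hV.pair.sd.normal)
  have h7 := card_mul_relIndex (inf_le_left : L ⊓ 𝐂[v] ≤ L)
  rw [inf_relIndex_left, hK.card, h.card, show 4 * q * r * k = 4 * k * (q * r) by ring] at h7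
  rw [hK.kI_eq, nI, Nat.eq_of_mul_eq_mul_left (by have := hk.pos; omega) h7,
    Finset.sum_congr rfl fun χ hχ => by
      rw [← cfdot_ev hV (mem_Irr.1 hχ).mem_CF, cfdot_vchar_comm (irr_vchar (mem_Irr.1 hχ)) hZ, e3]] at h6
  simp only [cfdotDl, add_mul, Finset.sum_add_distrib, sum_dirr ha, sum_dirr hb, sum_dirr hw,
    sum_dirr (isIrr_cf1 L).isDirr, h1 v hV.t_mem v2, a3 v hV.t_mem v2, b3 v hV.t_mem v2,
    cf1E hV.t_mem, cf1E L.one_mem] at h6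
  have h8 := congrFun e3 1
  rw [ev_odd (by simp), Pi.add_apply, Pi.add_apply, Pi.add_apply, cf1E L.one_mem] at h8
  obtain ⟨q1, q2, -⟩ := par_Q h.par rfl
  rw [← w1] at q1 q2
  have h9 := alg hw.one_ne_zero ha.one_ne_zero hb.one_ne_zero q1 q2 h8 h6
  refine ⟨![w, a, b], fun i => ?_, fun i j => ?_, fun i => ?_, e3, fun i => ?_, wR,
    fun X hX x hx x1 x2 => ⟨wK X hX x hx x1, ?_⟩, w1, ?_, ?_⟩
  · fin_cases i; exacts [hw, ha, hb]
  · fin_cases i <;> fin_cases j <;>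
      simp [hw.cfdot_self, ha.cfdot_self, hb.cfdot_self, a2, b2, ab, cfdot_symm0 a2, cfdot_symm0 b2,
        cfdot_symm0 ab]
  · fin_cases i; exacts [w0, a1, b1]
  · fin_cases i; exacts [h1, a3, b3]
  · obtain ⟨g, hg, e4⟩ := h.conjK X K hX hK.tor
    have x3 : g * x * g⁻¹ ∈ O (L ⊓ 𝐂[v]) := hV.pair.mem_O_cent (hK.K_le (e4 ▸ conj_mem_conj hx))
      (by rwa [orderOf_conj])
    exact ⟨(cfunJ ha.mem_CF hg x).symm.trans (hK.val ha hb hw.mem_CF e3 (wK K hK.tor) a3 x3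
      (conj_ne_one.2 x1)), (cfunJ hb.mem_CF hg x).symm.trans (hK.val hb ha hw.mem_CF
        (by rw [e3, add_right_comm]) (wK K hK.tor) b3 x3 (conj_ne_one.2 x1))⟩
  · rw [← w1]; exact eq_neg_of_add_eq_zero_left h9
  · rw [← w1]; show b 1 = _; linear_combination -h8 - h9

end Cfsg.Agent.JR.C1
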