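import Cfsg.Agent.Lib.JR.Hyp

/-!
# The frame with the fixed points of the field automorphisms
-/

set_option autoImplicit false

namespace Cfsg.Agent.JR

open Subgroup Cfsg.Agent.OO Cfsg.Agent.R1

universe u

/-- the fixed points on `L = L₂(q)` of a field automorphism of prime order -/
def Fix {G : Type u} [Group G] (L W : Subgroup G) (q : ℕ) : Prop := ∀ w ∈ W, (orderOf w).Prime →
  ∃ (F₀ : Type) (_ : Field F₀) (_ : Fintype F₀), q = Fintype.card F₀ ^ orderOf w ∧
    Nonempty ((L ⊓ 𝐂[w] : Subgroup G) ≃* Matrix.ProjectiveSpecialLinearGroup (Fin 2) F₀) ∧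
    W ⊓ 𝐂(L ⊓ 𝐂[w]) ≤ zpowers w

/-- package FR, strong form -/
def FR2 : Prop := ∀ (G : Type u) [Group G] [Finite G] (t : G) (H L : Subgroup G) (F : Type) [Field F]
  [Fintype F], JRs t H L F →
    ∃ W S P T p r k, Fr t H L W S P T p (Fintype.card F) r k ∧ Fix L W (Fintype.card F)

end Cfsg.Agent.JR
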