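import Cfsg.Agent.Lib.JR.Basic
import Cfsg.Agent.Lib.JR.CH1a
import Cfsg.Agent.Lib.JR.Hyp2
import Mathlib.RingTheory.Polynomial.Cyclotomic.Eval
import Mathlib.NumberTheory.Multiplicity

/-!
# Primitive prime divisors of `3 ^ f - 1`; automorphisms of finite fields and of `L₂(q)`
-/

set_option autoImplicit false
set_option linter.unusedSectionVars false

namespace Cfsg.Agent.JR.FRa

open Subgroup Cfsg.Agent.OO Cfsg.Agent.Coprime Cfsg.Agent.Lin Cfsg.Agent.GW Matrix L2
open scoped Pointwise MatrixGroups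

universe u

theorem le_two_pow_totient {f : ℕ} (hf : Odd f) : f ≤ 2 ^ f.totient := by
  refine (Nat.le_pow_clog one_lt_two f).trans (Nat.pow_le_pow_right two_pos ?_)
  rw [Nat.totient_eq_card_coprime, ← Finset.card_range (Nat.clog 2 f)]
  refine Finset.card_le_card_of_injOn (2 ^ ·) (fun i hi => ?_) fun a _ b _ e =>
    Nat.pow_right_injective le_rfl e
  simp only [Finset.coe_filter, Finset.mem_range, Set.mem_ofPred, Finset.coe_range, Set.mem_Iio] at *
  exact ⟨Nat.pow_lt_of_lt_clog hi, (Nat.coprime_two_right.2 hf).pow_right i⟩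

open Polynomial in
theorem zsig {f : ℕ} (hf : Odd f) (h1 : 1 < f) : ∃ s : ℕ, s.Prime ∧ s ∣ 3 ^ f - 1 ∧
    ∀ e, e ∣ f → s ∣ 3 ^ e - 1 → e = f := by
  by_contra! h
  set N := ((cyclotomic f ℤ).eval 3).natAbs with hN
  have h2 : 2 ^ f.totient < N := by
    simpa using sub_one_pow_totient_lt_natAbs_cyclotomic_eval h1 (q := 3) (by decide)
  have k : ∀ n : ℕ, ((3 ^ n - 1 : ℕ) : ℤ) = 3 ^ n - 1 := fun n => by
    rw [Nat.cast_sub (Nat.one_le_pow _ _ (by decide))]; simp
  have key : ∀ s : ℕ, s.Prime → s ∣ N → s ∣ f ∧ ¬ s * s ∣ N := fun s hs hd => by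
    obtain ⟨e, ⟨m, rfl⟩, h3, h4⟩ := h s hs (by
      rw [← Int.natCast_dvd_natCast, k]
      simpa using (Int.natCast_dvd.2 hd).trans (eval_dvd (cyclotomic.dvd_X_pow_sub_one f ℤ)))
    obtain ⟨l, hl, d, rfl⟩ := Nat.exists_prime_and_dvd (n := m) (by rintro rfl; simp at h4)
    have h5 : 0 < e * d := Nat.pos_of_ne_zero fun e' => by
      rw [mul_left_comm, e'] at h1; simp at h1
    have h6 := eval_dvd (x := (3 : ℤ)) (X_pow_sub_one_mul_cyclotomic_dvd_X_pow_sub_one_of_dvd ℤ
      (Nat.mem_properDivisors.2 ⟨⟨l, by ring⟩, (by nlinarith [hl.two_le] : e * d < e * (l * d))⟩))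
    have h7 : (s : ℤ) ∣ 3 ^ (e * d) - 1 := by
      rw [← k, Int.natCast_dvd_natCast]
      exact h3.trans (by simpa using Nat.pow_sub_one_dvd_pow_sub_one 3 ⟨d, rfl⟩)
    simp only [eval_mul, eval_sub, eval_pow, eval_X, eval_one] at h6
    rw [show e * (l * d) = e * d * l by ring, pow_mul _ (e * d), ← mul_geom_sum (3 ^ (e * d)),
      mul_dvd_mul_iff_left (by rw [← k]; have := Nat.one_lt_pow h5.ne' (by decide : 1 < 3); omega),
      show e * d * l = e * (l * d) by ring] at h6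
    have h8 := (dvd_geom_sum₂_iff_of_dvd_sub (n := l) h7).1 (by
      simpa using (Int.natCast_dvd.2 hd).trans h6)
    obtain rfl : s = l := (Nat.prime_dvd_prime_iff_eq hs hl).1 (by simpa [Int.natCast_dvd_natCast] using h8)
    refine ⟨⟨e * d, by ring⟩, fun h9 => ?_⟩
    obtain ⟨b, hb⟩ := h7
    have h10 := odd_sq_dvd_geom_sum₂_sub (R := ℤ) 1 b (hf.of_dvd_nat ⟨e * d, by ring⟩ : Odd s)
    simp only [one_pow, mul_one, ← hb, add_sub_cancel] at h10
    have h11 := dvd_sub ((Int.natCast_dvd.2 h9).trans h6) (by simpa [pow_two] using h10)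
    rw [sub_sub_cancel, Int.natCast_dvd_natCast] at h11
    exact absurd (Nat.le_of_dvd hs.pos h11) (by nlinarith [hs.two_le])
  have h3 : Squarefree N := Nat.squarefree_iff_prime_squarefree.2 fun s hs e =>
    (key s hs ((dvd_mul_right s s).trans e)).2 e
  have h4 : N ∣ f := by
    rw [← Nat.prod_primeFactors_of_squarefree h3]
    exact (Finset.prod_dvd_prod_of_subset _ _ _ fun s hs => Nat.mem_primeFactors.2
      ⟨Nat.prime_of_mem_primeFactors hs, (key s (Nat.prime_of_mem_primeFactors hs)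
        (Nat.dvd_of_mem_primeFactors hs)).1, by omega⟩).trans (Nat.prod_primeFactors_dvd f)
  exact absurd ((Nat.le_of_dvd (by omega) h4).trans (le_two_pow_totient hf)) h2.not_ge

theorem not_dvd_of_zsig {f s : ℕ} (hs : s.Prime) (h0 : 0 < f) (h1 : s ∣ 3 ^ f - 1)
    (h : ∀ e, e ∣ f → s ∣ 3 ^ e - 1 → e = f) : ¬ s ∣ f := fun e => by
  have h2 : Nat.Coprime 3 s := (((Nat.coprime_self_sub_right (Nat.one_le_pow f 3 (by decide))).2
    (Nat.coprime_one_right _)).coprime_dvd_left (dvd_pow_self 3 h0.ne')).coprime_dvd_right h1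
  have h3 := (Nat.modEq_iff_dvd' (Nat.one_le_pow _ 3 (by decide))).1 (Nat.ModEq.pow_totient h2).symm
  have h4 := h _ (Nat.gcd_dvd_left f _) (Nat.pow_sub_one_gcd_pow_sub_one 3 _ _ ▸ Nat.dvd_gcd h1 h3)
  have h5 := Nat.gcd_le_right f (Nat.totient_pos.2 hs.pos)
  have h6 := Nat.totient_lt s hs.one_lt
  have := Nat.le_of_dvd h0 e
  omega

variable {F : Type} [Field F] [Fintype F]

instance : Finite (F ≃+* F) := Finite.of_injective _ DFunLike.coe_injective

theorem gal_cyc (A : Subgroup (F ≃+* F)) : IsCyclic A :=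
  (FixedPoints.toAlgAutMulEquiv A F).isCyclic.2 inferInstance

theorem gal_card (A : Subgroup (F ≃+* F)) :
    Fintype.card F = Nat.card (FixedPoints.subfield A F) ^ Nat.card A := by
  have := Fintype.ofFinite A
  have := Fintype.ofFinite (FixedPoints.subfield A F)
  rw [Nat.card_eq_fintype_card, Nat.card_eq_fintype_card, ← FixedPoints.finrank_eq_card A F]
  exact Module.card_eq_pow_finrank

theorem gal_mem {A : Subgroup (F ≃+* F)} {σ : F ≃+* F}
    (h : ∀ x ∈ FixedPoints.subfield A F, σ x = x) : σ ∈ A := by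
  obtain ⟨a, ha⟩ := FixedPoints.toAlgAut_surjective A F (AlgEquiv.ofRingEquiv (f := σ) fun x => h x x.2)
  exact (RingEquiv.ext fun x => DFunLike.congr_fun ha x : a.1 = σ) ▸ a.2

theorem fix_of_sq {σ : F ≃+* F} (ho : Odd (orderOf σ)) {x : F} (h : σ (σ x) = x) : σ x = x :=
  (zpowers_le.2 (show σ ^ 2 ∈ MulAction.stabilizer _ x by rw [pow_two]; exact h)
    (mem_zpowers_pow_iff.2 (Nat.coprime_two_left.2 ho)) :)

/-- the Weyl element -/
def J (F : Type) [Field F] : SL(2, F) := mk2 0 1 (-1) 0 (by simp)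

/-- a diagonal matrix -/
def dg (c : Fˣ) : SL(2, F) := mk2 c 0 0 (c : F)⁻¹ (by simp)

omit [Fintype F] in
theorem dg_mul (a b : Fˣ) : dg (a * b) = dg a * dg b := Subtype.ext (by
  ext i j; fin_cases i <;> fin_cases j <;> simp [dg, mul_apply, Fin.sum_univ_two, mul_comm])

/-- the diagonal matrices -/
def Dg (F : Type) [Field F] : Subgroup SL(2, F) := (MonoidHom.mk' dg dg_mul).range

theorem mem_Dg {y : SL(2, F)} : y ∈ Dg F ↔ y.1 0 1 = 0 ∧ y.1 1 0 = 0 := by
  refine ⟨by rintro ⟨c, rfl⟩; simp [dg], fun h => ?_⟩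
  have hd := SL.det2 y
  rw [h.1, zero_mul, sub_zero] at hd
  refine ⟨Units.mk0 (y.1 0 0) (left_ne_zero_of_mul_eq_one hd), Subtype.ext ?_⟩
  ext i j
  fin_cases i <;> fin_cases j <;> simp [dg, h.1, h.2, eq_inv_of_mul_eq_one_right hd]

theorem card_Dg : ♯(Dg F) = Fintype.card F - 1 := by
  rw [← Nat.card_eq_fintype_card, ← Nat.card_units]
  exact (Nat.card_congr (MonoidHom.ofInjective fun a b e =>
    Units.ext (congrArg (fun z => z.1 0 0) e)).toEquiv).symm

theorem cent_dg {c : Fˣ} (h : c ^ 2 ≠ 1) : 𝐂[dg c] = Dg F := by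
  have h1 : (c : F) - (c : F)⁻¹ ≠ 0 := fun e => h (Units.ext (by
    rw [pow_two]; simpa using mul_eq_one_iff_eq_inv₀ c.ne_zero |>.2 (sub_eq_zero.1 e)))
  ext y
  rw [mem_cent1, mem_Dg]
  refine ⟨fun e => ?_, fun e => Subtype.ext ?_⟩
  · have h2 := congrArg (fun z => z.1 0 1) e
    have h3 := congrArg (fun z => z.1 1 0) e
    simp [dg, mul_apply, Fin.sum_univ_two] at h2 h3
    exact ⟨mul_left_cancel₀ h1 (by linear_combination -h2),
      mul_left_cancel₀ h1 (by linear_combination h3)⟩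
  · ext i j
    fin_cases i <;> fin_cases j <;> simp [dg, mul_apply, Fin.sum_univ_two, e.1, e.2, mul_comm]

theorem dg_um (c : Fˣ) (x : F) : dg c * um x * (dg c)⁻¹ = um (c ^ 2 * x) := Subtype.ext (by
  ext i j
  fin_cases i <;> fin_cases j <;> simp [dg, um, mul_apply, Fin.sum_univ_two, adjugate_fin_two]
  ring)

theorem um_add (x y : F) : um (x + y) = um x * um y := Subtype.ext (by
  ext i j
  fin_cases i <;> fin_cases j <;> simp [um, mul_apply, Fin.sum_univ_two, add_comm])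

theorem eq_top_of_um {C : Subgroup SL(2, F)} (h1 : ∀ x, um x ∈ C) (h2 : J F ∈ C) : C = ⊤ := by
  have k : ∀ y : SL(2, F), y.1 1 0 ≠ 0 → y ∈ C := fun y h0 => by
    have hd := SL.det2 y
    rw [show y = um ((y.1 0 0 - 1) / y.1 1 0) * (J F * um (-y.1 1 0) * (J F)⁻¹) *
      um ((y.1 1 1 - 1) / y.1 1 0) from Subtype.ext (by
        ext i j
        fin_cases i <;> fin_cases j <;>
          simp [J, um, mul_apply, Fin.sum_univ_two, adjugate_fin_two, h0] <;> field_simp
        all_goals first | ring1 | linear_combination -hd)]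
    exact mul_mem (mul_mem (h1 _) (mul_mem (mul_mem h2 (h1 _)) (inv_mem h2))) (h1 _)
  refine top_le_iff.1 fun y _ => by_contra fun e => e ((mul_mem_cancel_right h2).1 (k _ ?_))
  have hd := SL.det2 y
  rw [not_ne_iff.1 (mt (k y) e)] at hd
  simpa [J, mul_apply, Fin.sum_univ_two] using right_ne_zero_of_mul_eq_one (by simpa using hd)

variable {G : Type u} [Group G] [Finite G] {f : SL(2, F) →* G} (hk : f.ker = center SL(2, F))
  (h2 : (2 : F) ≠ 0) {g w : G}
include hk

theorem eq_iff {x y : SL(2, F)} : f x = f y ↔ x⁻¹ * y ∈ center SL(2, F) := by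
  rw [← hk, MonoidHom.mem_ker, map_mul, map_inv, inv_mul_eq_one]

theorem um_inj {x y : F} (h : f (um x) = f (um y)) : x = y := by
  have := (mem_center.1 ((eq_iff hk).1 h)).1
  simp [um, mul_apply, Fin.sum_univ_two, adjugate_fin_two] at this
  linear_combination -this

theorem exists_um (hg : g ∈ (Un F).map f) : ∃ x, f (um x) = g := by
  obtain ⟨y, hy, rfl⟩ := hg
  have hd := SL.det2 y
  rw [hy.1, hy.2] at hd
  refine ⟨y.1 1 1 * y.1 0 1, (eq_iff hk).2 (mem_center.2 ?_)⟩
  simp [mul_apply, Fin.sum_univ_two, adjugate_fin_two, um, hy.1, hy.2]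
  linear_combination -y.1 0 1 * hd

theorem J_sq : f (J F) * f (J F) = 1 := by
  rw [← map_mul, ← MonoidHom.mem_ker, hk, mem_center]
  simp [J, mul_apply, Fin.sum_univ_two]

theorem J_not_mem : f (J F) ∉ (Bo F).map f := by
  rw [mem_map_iff f hk (center_le_Un.trans Un_le_Bo), mem_Bo]
  simp [J]

omit hk in
theorem J_norm : f (J F) ∈ 𝐍((Dg F).map f) :=
  map_norm_le f _ (mem_map_of_mem f (mem_norm_of_conj_mem fun y hy => by
    rw [mem_Dg] at hy ⊢
    simp [J, mul_apply, Fin.sum_univ_two, adjugate_fin_two, vecMul, dotProduct, hy.1, hy.2]))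

omit hk in
theorem Dg_le : Dg F ≤ Bo F := fun _ h => (mem_Dg.1 h).2

theorem fix_J {c : Fˣ} (h1 : g * f (um 1) * g⁻¹ = f (um 1))
    (h : g * f (J F) * g⁻¹ * f (J F) = f (dg c)) : g * f (J F) * g⁻¹ = f (J F) := by
  have h3 : (f (um 1) * f (J F)) ^ 3 = 1 := by
    rw [← map_mul, ← map_pow, ← MonoidHom.mem_ker, hk, mem_center]
    simp [J, um, pow_succ, mul_apply, Fin.sum_univ_two]
  have h4 := eq_mul_inv_of_mul_eq h
  have h5 : (um 1 * (dg c * (J F)⁻¹)) ^ 3 ∈ center _ := by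
    rw [← hk, MonoidHom.mem_ker, map_pow, map_mul, map_mul, map_inv, ← h4, ← h1, cj_mul, conj_pow, h3,
      mul_one, mul_inv_cancel]
  have h6 := (mem_center.1 h5).1
  simp [J, um, dg, pow_succ, mul_apply, Fin.sum_univ_two, adjugate_fin_two] at h6
  rw [h4, show f (dg c) = 1 from hk.ge (mem_center.2 (by
    simpa [dg] using eq_inv_of_mul_eq_one_right (by field_simp at h6; linear_combination -h6))),
    one_mul, inv_eq (J_sq hk)]

include h2 in
/-- the normalizer of the Borel subgroup and of the torus acts semilinearly -/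
theorem semi (h1 : g ∈ 𝐍((Un F).map f)) (h3 : g ∈ 𝐍((Dg F).map f)) :
    ∃ (u : Fˣ) (σ : F ≃+* F), ∀ x, g * f (um x) * g⁻¹ = f (um (u * σ x)) := by
  choose φ hφ using fun x => exists_um hk (conj_mem_of_norm h1 (mem_map_of_mem f (um_mem x)))
  have pa : ∀ c d, φ (c + d) = φ c + φ d := fun c d =>
    um_inj hk (by rw [um_add, map_mul, hφ, hφ, hφ, um_add, map_mul, cj_mul])
  let ψ := AddMonoidHom.mk' φ pa
  have p0 : φ 0 = 0 := ψ.map_zero
  have p1 : φ 1 ≠ 0 := fun e => one_ne_zero (um_inj hk (cj_inj.1 (by rw [← hφ, ← hφ, e, p0])))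
  have ps : ∀ c d, φ (c ^ 2 * d) * φ 1 = φ (c ^ 2) * φ d := fun c d => by
    by_cases c0 : c = 0
    · simp [c0, p0]
    obtain ⟨_, ⟨c', rfl⟩, e⟩ := conj_mem_of_norm h3 (mem_map_of_mem f
      (show dg (Units.mk0 c c0) ∈ Dg F from ⟨_, rfl⟩))
    have : ∀ d, φ (c ^ 2 * d) = c' ^ 2 * φ d := fun d => um_inj hk (by
      rw [hφ, ← dg_um, map_mul, map_mul, map_inv, hφ, show f (dg c') = _ from e, cj_cj, ← map_inv,
        ← map_mul, ← map_mul, dg_um]; rfl)
    rw [this, ← mul_one (c ^ 2), this]; ring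
  have pm : ∀ c d, φ (c * d) * φ 1 = φ c * φ d := fun c d => by
    have e : c = ((c + 1) / 2) ^ 2 - ((c - 1) / 2) ^ 2 := by field_simp; ring
    have pb : ∀ c d, φ (c - d) = φ c - φ d := ψ.map_sub
    rw [e, sub_mul, pb, pb, sub_mul, sub_mul, ps, ps]
  let σ : F →+* F :=
    { toFun := fun x => φ x / φ 1
      map_one' := div_self p1
      map_mul' := fun c d => by field_simp; exact pm c d
      map_zero' := by rw [p0, zero_div]
      map_add' := fun c d => by rw [← add_div, pa] }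
  exact ⟨Units.mk0 _ p1, RingEquiv.ofBijective σ (Finite.injective_iff_bijective.1 σ.injective),
    fun x => by rw [← hφ]; congr 2; exact (mul_div_cancel₀ _ p1).symm⟩

omit hk in
theorem act {σ : F ≃+* F} (h1 : ∀ x, g * f (um x) * g⁻¹ = f (um (σ x)))
    (h3 : g * f (J F) * g⁻¹ = f (J F)) (y : SL(2, F)) :
    g * f y * g⁻¹ = f (SpecialLinearGroup.map (σ : F →+* F) y) :=
  (eq_top_of_um (C := ((MulAut.conj g).toMonoidHom.comp f).eqLocus
    (f.comp (SpecialLinearGroup.map (σ : F →+* F)))) (fun x => (h1 x).trans (congrArg f (Subtype.ext (by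
      ext i j; fin_cases i <;> fin_cases j <;> simp [um])))) (h3.trans (congrArg f (Subtype.ext (by
        ext i j; fin_cases i <;> fin_cases j <;> simp [J]))))).ge (mem_top y)

/-- the fixed points of a field automorphism of odd order -/
theorem fix {σ : F ≃+* F} (ho : Odd (orderOf σ))
    (h : ∀ y, w * f y * w⁻¹ = f (SpecialLinearGroup.map (σ : F →+* F) y)) :
    Nonempty ((f.range ⊓ 𝐂[w] : Subgroup G) ≃* PSL(2, FixedPoints.subfield (zpowers σ) F)) := by
  let K := FixedPoints.subfield (zpowers σ) F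
  let f₀ := f.comp (SpecialLinearGroup.map (n := Fin 2) K.subtype)
  have h1 : f₀.ker = center _ := by
    ext y
    rw [MonoidHom.mem_ker, MonoidHom.comp_apply, ← MonoidHom.mem_ker, hk]
    have := Fintype.ofFinite K
    rw [L2.mem_center, L2.mem_center, Subtype.ext_iff, Subtype.ext_iff, Subtype.ext_iff]
    rfl
  have h3 : f₀.range = f.range ⊓ 𝐂[w] := by
    refine le_antisymm ?_ ?_
    · rintro _ ⟨y, rfl⟩
      refine ⟨⟨_, rfl⟩, mem_cent1_comm.1 (mem_cent1_iff_conj.2 ((h _).trans (congrArg f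
        (Subtype.ext ?_))))⟩
      ext i j
      exact (y.1 i j).2 ⟨σ, mem_zpowers σ⟩
    · rintro _ ⟨⟨y, rfl⟩, hy⟩
      have h4 := (eq_iff hk).1 ((mem_cent1_iff_conj.1 (mem_cent1_comm.1 hy)).symm.trans (h y))
      obtain ⟨c, c2, e⟩ := Matrix.SpecialLinearGroup.mem_center_iff.1 h4
      rw [Fintype.card_fin] at c2
      have h7 : ∀ i j, σ (y.1 i j) = y.1 i j * c := fun i j => by
        have := congrArg (fun z => (y.1 * z) i j) e
        simp only [← Matrix.SpecialLinearGroup.coe_mul, mul_inv_cancel_left] at this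
        simpa using this.symm
      have h5 : ∀ i j, σ (y.1 i j) = y.1 i j := fun i j => fix_of_sq ho (by
        rw [h7, map_mul, h7]
        rcases sq_eq_one_iff.1 c2 with rfl | rfl <;> simp)
      have h6 : ∀ i j, y.1 i j ∈ K := fun i j a =>
        (zpowers_le.2 (show σ ∈ MulAction.stabilizer _ _ from h5 i j) a.2 :)
      refine ⟨mk2 ⟨_, h6 0 0⟩ ⟨_, h6 0 1⟩ ⟨_, h6 1 0⟩ ⟨_, h6 1 1⟩ (Subtype.ext (SL.det2 y)),
        congrArg f (Subtype.ext ?_)⟩
      ext i j; fin_cases i <;> fin_cases j <;> rfl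
  exact ⟨((MulEquiv.subgroupCongr h3).symm.trans (QuotientGroup.quotientKerEquivRange f₀).symm).trans
    (QuotientGroup.quotientMulEquivOfEq h1)⟩

end Cfsg.Agent.JR.FRa
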