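import Cfsg.Agent.Lib.JR.Hyp

/-!
# The abelian subgroup `K = ⟨t⟩ × T` of order `4 k`
-/

set_option autoImplicit false
set_option linter.unusedSectionVars false

namespace Cfsg.Agent.JR.C2

open Subgroup Cfsg.Agent.OO Cfsg.Agent.Coprime
open scoped Pointwise

universe u

variable {G : Type u} [Group G] [Finite G] {a b g s t u v x y : G} {A B H K L P S T T' : Subgroup G}
  {k p q r : ℕ}

theorem card_two (ha : a ∉ A) (h1 : A ≤ B) (h2 : a ∈ B) (h : ∀ y ∈ B, y ∈ A ∨ y * a ∈ A) :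
    ♯B = 2 * ♯A := by
  rw [← card_mul_relIndex h1, relIndex_eq_two_iff_exists_notMem_and.2
    ⟨a, h2, ha, fun y hy => (h y hy).symm⟩, mul_comm]

theorem orderOf_two (a1 : a ≠ 1) (a2 : a * a = 1) : orderOf a = 2 :=
  orderOf_eq_prime (by rwa [pow_two]) a1

theorem eq_of_cyc (h : IsCyclic T) (ha : a ∈ T) (hb : b ∈ T) (a1 : a ≠ 1) (a2 : a * a = 1)
    (b1 : b ≠ 1) (b2 : b * b = 1) : a = b := by
  have e := eq_of_isCyclic_of_card_eq h (zpowers_le.2 ha) (zpowers_le.2 hb) (by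
    rw [Nat.card_zpowers, Nat.card_zpowers, orderOf_two a1 a2, orderOf_two b1 b2])
  obtain ⟨i, rfl⟩ := mem_zpowers_iff.1 (e ▸ mem_zpowers a)
  have : ∀ j : ℤ, b ^ (2 * j) = 1 := fun j => by rw [zpow_mul, zpow_two, b2, one_zpow]
  obtain ⟨j, rfl | rfl⟩ := Int.even_or_odd' i
  · exact (a1 (this j)).elim
  · rw [zpow_add, this, one_mul, zpow_one]

/-- the local structure -/
structure Loc (t v s : G) (K T : Subgroup G) (k : ℕ) : Prop where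
  ab : Ab K
  odd : Odd k
  card : ♯K = 4 * k
  tK : t ∈ K
  vK : v ∈ K
  t1 : t ≠ 1
  t2 : t * t = 1
  v1 : v ≠ 1
  v2 : v * v = 1
  vt : v ≠ t
  inv : ∀ y ∈ K, y * y = 1 → y = 1 ∨ y = t ∨ y = v ∨ y = v * t
  two : ∀ u ∈ K, ∀ j, u ^ 2 ^ j = 1 → u * u = 1
  cent : ∀ y ∈ K, y * y ≠ 1 → 𝐂[y] = K
  sK : s ∉ K
  s2 : s * s = 1
  sinv : ∀ y ∈ K, s * y * s⁻¹ = y⁻¹
  card_NC : ♯(𝐍(K) ⊓ 𝐂[t] : Subgroup G) = 2 * ♯K
  conj : ∀ u ∈ K, u ≠ 1 → u * u = 1 → ∃ g ∈ 𝐍(K), g * t * g⁻¹ = u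
  mem : ∀ x ∈ K, Odd (orderOf x) → x ∈ T

theorem exists_loc (F : Fr t H L ⊥ S P T p q r k) (h5 : 5 < q) (h0 : K0 t L k) :
    ♯𝐂[t] = 2 * ♯L ∧ ∃ v s K T', Tor L T' (2 * k) ∧ Loc t v s K T' k := by
  obtain rfl : L = H := by rw [← F.sup, sup_bot_eq]
  have hL : L ≤ 𝐂[t] := fun g hg => (F.cent g).2 (.inl hg)
  have tt := mem_cent1_self t
  have sq : ∀ y ∈ 𝐂[t], y * t * (y * t) = y * y := fun y hy => by
    rw [mul_assoc, ← mul_assoc t, ← mem_cent1.1 hy, mul_assoc y t, F.t2, mul_one]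
  refine ⟨card_two F.tH hL tt fun y hy => (F.cent y).1 hy, ?_⟩
  obtain ⟨hr, hk, hq⟩ := F.par
  obtain ⟨v, ⟨hv, hvL⟩, -, hv'⟩ := F.exj
  have v1 : v ≠ 1 := fun e => hv' (e ▸ one_mem _)
  have v2 := F.sq v hv
  obtain ⟨T', hvT, hT⟩ := F.part v hvL v1
  have hd : 2 ∣ ♯T' := orderOf_two v1 v2 ▸ orderOf_dvd_card hvT
  obtain hT : Tor L T' (2 * k) := by
    rcases hT with hT | hT | hT
    · rw [hT.card] at hd; omega
    · rw [hT.card] at hd; obtain ⟨j, rfl⟩ := hr; omega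
    · exact hT
  have ab := ab_of_isCyclic hT.cyc
  have pw : ∀ x ∈ T', ∀ j, x ^ 2 ^ j = 1 → x * x = 1 := fun x hx j e => by
    rw [← pow_two, ← orderOf_dvd_iff_pow_eq_one]
    exact (Nat.Coprime.coprime_dvd_left (orderOf_dvd_of_pow_eq_one e)
      ((Nat.coprime_two_left.2 hk).pow_left j)).dvd_of_dvd_mul_right (hT.card ▸ orderOf_dvd_card hx)
  obtain ⟨s, hs, hsT⟩ : ∃ s ∈ L ⊓ 𝐍(T'), s ∉ T' := by
    by_contra! h
    have := card_le (show L ⊓ 𝐍(T') ≤ T' from h)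
    rw [hT.card, hT.card_norm] at this
    omega
  have A : ∀ x ∈ T', x ≠ 1 → ∀ g ∈ 𝐂[t], g ∈ 𝐂[x] → x * x ≠ 1 ∨ g * g ≠ 1 → g ∈ T' ∨ g * t ∈ T' := by
    have : ∀ x ∈ T', x ≠ 1 → ∀ g ∈ L, g ∈ 𝐂[x] → x * x ≠ 1 ∨ g * g ≠ 1 → g ∈ T' :=
      fun x hx x1 g hg h1 h2 => by
        by_contra h3
        obtain ⟨h4, h5⟩ := hT.inv g (hT.norm x hx x1 ▸ ⟨hg, cent_le_norm _ (by rwa [cent_zpowers])⟩) h3
        exact h2.elim (fun h => h (eq_inv_iff_mul_eq_one.1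
          ((mem_cent1_iff_conj.1 h1).symm.trans (h5 x hx)))) fun h => h h4
    exact fun x hx x1 g hg h1 h2 => ((F.cent g).1 hg).imp (fun h => this x hx x1 g h h1 h2) fun h =>
      this x hx x1 _ h (mul_mem h1 (mem_cent1_comm.1 (hL (hT.le hx)))) (by rwa [sq g hg])
  obtain ⟨x, hx, x2⟩ : ∃ x ∈ T', x * x ≠ 1 := by
    obtain ⟨l, hl, hlk⟩ := Nat.exists_prime_and_dvd (show k ≠ 1 by omega)
    obtain ⟨x, hx, e⟩ := cauchy hl (hT.card ▸ hlk.mul_left 2 : l ∣ ♯T')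
    refine ⟨x, hx, fun e' => ?_⟩
    have := (Nat.prime_dvd_prime_iff_eq hl Nat.prime_two).1
      (e ▸ orderOf_dvd_of_pow_eq_one (by rwa [pow_two]))
    obtain ⟨j, hj⟩ := hk
    rw [this] at hlk
    omega
  have x1 : x ≠ 1 := fun e => x2 (by simp [e])
  have TK : T' ≤ 𝐂[t] ⊓ 𝐂(T') := le_inf (hT.le.trans hL) ab.le_cent
  have tK : t ∈ 𝐂[t] ⊓ 𝐂(T') := ⟨tt, le_cent1_iff.1 (hT.le.trans hL)⟩
  have of : ∀ g, g ∈ T' ∨ g * t ∈ T' → g ∈ 𝐂[t] ⊓ 𝐂(T') := fun g h =>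
    h.elim (fun h => TK h) fun h => (mul_mem_cancel_right tK).1 (TK h)
  have fo : ∀ g ∈ 𝐂[t] ⊓ 𝐂(T'), g ∈ T' ∨ g * t ∈ T' := fun g h =>
    A x hx x1 g h.1 (cent_le_cent1 hx h.2) (.inl x2)
  have tT : t ∉ T' := fun h => F.tH (hT.le h)
  have abK : Ab (𝐂[t] ⊓ 𝐂(T') : Subgroup G) := ab_iff_le_cent.2 fun g hg =>
    (fo g hg).elim (fun h => le_cent_symm inf_le_right h) fun h =>
      (mul_mem_cancel_right (le_cent1_iff.1 inf_le_left)).1 (le_cent_symm inf_le_right h)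
  have two : ∀ u ∈ 𝐂[t] ⊓ 𝐂(T'), ∀ j, u ^ 2 ^ j = 1 → u * u = 1 := fun u hu j e =>
    (fo u hu).elim (fun h => pw u h j e) fun h => sq u hu.1 ▸ pw _ h (j + 1) (by
      rw [pow_succ', pow_mul, pow_two, sq u hu.1, ← pow_two, ← pow_mul, mul_comm, pow_mul, e, one_pow])
  have cent : ∀ y ∈ 𝐂[t] ⊓ 𝐂(T'), y * y ≠ 1 → 𝐂[y] = 𝐂[t] ⊓ 𝐂(T') := fun y hy y2 => by
    refine le_antisymm (fun g hg => ?_) (le_cent1_iff.2 (abK.le_cent hy))
    have h1 : y * y ∈ T' := (fo y hy).elim (fun h => mul_mem h h) fun h => sq y hy.1 ▸ mul_mem h h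
    have h2 : y * y * (y * y) ≠ 1 := fun e => y2 (two y hy 2 (by rw [← e, show 2 ^ 2 = 2 + 2 by rfl, pow_add, pow_two]))
    have h3 : g ∈ 𝐂[y * y] := mem_cent1_comm.1 (mul_mem (mem_cent1_comm.1 hg) (mem_cent1_comm.1 hg))
    exact of g (A _ h1 y2 g (h0 T' hT _ h1 h2 h3) h3 (.inl h2))
  have hKc := card_two tT TK tK fo
  have inv : ∀ y ∈ 𝐂[t] ⊓ 𝐂(T'), y * y = 1 → y = 1 ∨ y = t ∨ y = v ∨ y = v * t := fun y hy y2 => by
    rcases fo y hy with h | h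
    · by_cases y1 : y = 1
      · exact .inl y1
      · exact .inr (.inr (.inl (eq_of_cyc hT.cyc h hvT y1 y2 v1 v2)))
    · by_cases y1 : y * t = 1
      · exact .inr (.inl (mul_right_cancel (y1.trans F.t2.symm)))
      · exact .inr (.inr (.inr (by
          rw [← eq_of_cyc hT.cyc h hvT y1 (by rwa [sq y hy.1]) v1 v2, mul_assoc, F.t2, mul_one])))
  have nK : ∀ g ∈ L, g ∈ 𝐍((𝐂[t] ⊓ 𝐂(T') : Subgroup G)) ↔ g ∈ 𝐍(T') := fun g hg => by
    refine ⟨fun h => mem_norm_of_conj_mem fun y hy => (fo _ (conj_mem_of_norm h (TK hy))).resolve_right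
      fun h' => F.tH ((mul_mem_cancel_left (conj_mem_of_norm (le_norm_self _ hg) (hT.le hy))).1
        (hT.le h')), fun h => mem_norm_inf (le_norm_self _ (hL hg)) (norm_le_norm_cent _ h)⟩
  refine ⟨v, s, _, T', hT, abK, hk, by rw [hKc, hT.card]; ring, tK, TK hvT, F.t1, F.t2, v1, v2,
    fun e => tT (e ▸ hvT), inv, two, cent, fun h => (fo s h).elim hsT fun h' =>
      F.tH ((L.mul_mem_cancel_left hs.1).1 (hT.le h')), (hT.inv s hs hsT).1, fun y hy => ?_, ?_,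
    fun u hu u1 u2 => ?_, fun y hy ho => (fo y hy).resolve_right fun h => ?_⟩
  · refine (fo y hy).elim ((hT.inv s hs hsT).2 y) fun h => mul_right_cancel (b := t) ?_
    have e := (hT.inv s hs hsT).2 _ h
    rw [mul_inv_rev, inv_eq_of_mul_eq_one_right F.t2, ← mem_cent1.1 (inv_mem hy.1)] at e
    rw [← e, mul_assoc, mem_cent1.1 (inv_mem (hL hs.1))]; group
  · rw [hKc, hT.card, ← hT.card_norm]
    refine card_two (a := t) (fun h => F.tH h.1) (fun g hg => ⟨(nK g hg.1).2 hg.2, hL hg.1⟩)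
      ⟨le_norm_self _ tK, tt⟩ fun g hg => ((F.cent g).1 hg.2).imp (fun h => ⟨h, (nK g h).1 hg.1⟩)
        fun h => ⟨h, (nK _ h).1 (mul_mem hg.1 (le_norm_self _ tK))⟩
  · by_cases ut : u = t
    · exact ⟨1, one_mem _, by simp [ut]⟩
    obtain ⟨h, rfl⟩ := F.conj u u1 u2
    have hw : h⁻¹ * t * h ∈ 𝐂[t] := by
      rw [← mem_conj, ← cent1_conj, mem_cent1_comm]
      exact hu.1
    have w2 : h⁻¹ * t * h * (h⁻¹ * t * h) = 1 := by
      rw [show h⁻¹ * t * h * (h⁻¹ * t * h) = h⁻¹ * (t * t) * h by group, F.t2]; group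
    obtain ⟨w, h1, w1, w2, h2⟩ : ∃ w ∈ L, w ≠ 1 ∧ w * w = 1 ∧
        (h * w * h⁻¹ = t ∨ h * w * h⁻¹ = t * (h * t * h⁻¹)) := by
      rcases (F.cent _).1 hw with h1 | h1
      · exact ⟨_, h1, fun e => F.t1 (by
          rw [show t = h * (h⁻¹ * t * h) * h⁻¹ by group, e]; group), w2,
          .inl (by group)⟩
      · refine ⟨_, h1, fun e => ut ?_, by rwa [sq _ hw], .inr (by group)⟩
        rw [← mul_right_cancel (e.trans F.t2.symm), mul_right_cancel (e.trans F.t2.symm)]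
        nth_rw 1 [← mul_right_cancel (e.trans F.t2.symm)]; group
    obtain ⟨l, hl, rfl⟩ := F.inv v hvL v1 v2 w h1 w1 w2
    have e1 : h * l * t * (h * l)⁻¹ = h * t * h⁻¹ := by
      nth_rw 2 [← mem_cent1_iff_conj.1 (hL hl)]; group
    refine ⟨h * l, ?_, e1⟩
    have c : ∀ z ∈ 𝐂[t] ⊓ 𝐂(T'), h * l * z * (h * l)⁻¹ ∈ 𝐂[h * l * x * (h * l)⁻¹] := fun z hz => by
      rw [cent1_conj]; exact conj_mem_conj (cent_le_cent1 hx hz.2)
    have c1 := c t tK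
    have c2 := c v (TK hvT)
    rw [e1] at c1
    rw [show h * l * v * (h * l)⁻¹ = h * (l * v * l⁻¹) * h⁻¹ by group] at c2
    have c3 : t ∈ 𝐂[h * l * x * (h * l)⁻¹] :=
      h2.elim (fun e => e ▸ c2) fun e => (mul_mem_cancel_right c1).1 (e ▸ c2)
    have c4 : v ∈ 𝐂[h * l * x * (h * l)⁻¹] := by
      rcases inv _ hu u2 with e | e | e | e
      · exact (u1 e).elim
      · exact (ut e).elim
      · exact e ▸ c1
      · exact (mul_mem_cancel_right c3).1 (e ▸ c1)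
    have y2 : h * l * x * (h * l)⁻¹ * (h * l * x * (h * l)⁻¹) ≠ 1 := by
      rwa [conj_mul, Ne, conj_eq_one_iff]
    rw [← conj_eq_self_iff, ← cent x (TK hx) x2, ← cent1_conj, cent x (TK hx) x2]
    exact cent _ (of _ (A v hvT v1 _ (mem_cent1_comm.1 c3) (mem_cent1_comm.1 c4) (.inr y2))) y2
  · have := pow_mem h (orderOf y)
    rw [(show Commute y t from mem_cent1.1 hy.1).mul_pow, pow_orderOf_eq_one, one_mul] at this
    obtain ⟨j, hj⟩ := ho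
    rw [hj, pow_succ, pow_mul, pow_two, F.t2, one_pow, one_mul] at this
    exact tT this

end Cfsg.Agent.JR.C2
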