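import Cfsg.Agent.Lib.JR.CH1a

/-!
# Groups of Janko-Ree type: the columns of the principal 2-block for the section of an involution
-/

set_option autoImplicit false

namespace Cfsg.Agent.JR

open Subgroup Cfsg.Agent.OO Cfsg.Agent.Coprime Cfsg.Agent.R1 Cfsg.Agent.Blk Cfsg.Agent.GW
open scoped ComplexConjugate Pointwise

universe u

namespace C1

variable {G : Type u} [Group G] [Finite G] {L X : Subgroup G} {r k : ℕ} {Q : ℤ}
  {φ ψ χ ξ w : G → ℂ} {u : Fin 3 → G → ℂ} {a b g t v x y : G}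

open Classical in
/-- summation over a conjugacy class -/
theorem sum_conj (x : G) (F : G → ℂ) {A : Set G} (hA : ∀ a, a ∈ A ↔ ∃ g ∈ X, g * x * g⁻¹ = a) :
    ∑ g ∈ elts (X : Set G), F (g * x * g⁻¹) = ♯(X ⊓ 𝐂[x] : Subgroup G) * ∑ a ∈ elts A, F a := by
  rw [← Finset.sum_fiberwise_of_maps_to (t := elts A) (g := fun g => g * x * g⁻¹)
    fun g hg => mem_elts.2 ((hA _).2 ⟨g, mem_elts.1 hg, rfl⟩), Finset.mul_sum]
  refine Finset.sum_congr rfl fun a ha => ?_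
  obtain ⟨g, hg, rfl⟩ := (hA a).1 (mem_elts.1 ha)
  rw [Finset.sum_congr rfl fun c hc => by rw [(Finset.mem_filter.1 hc).2], Finset.sum_const,
    card_filter_conj_eq, if_pos ⟨g, hg, rfl⟩, cent1_conj, ← card_conj g (X ⊓ 𝐂[x]), conj_inf,
    conj_eq_of_mem hg, nsmul_eq_mul]

open Classical in
/-- the value at the product of two elements of `A` -/
noncomputable def pr (A : Set G) (w : G → ℂ) (a b : G) : ℂ := if a ∈ A ∧ b ∈ A then w (a * b) else 0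

theorem sum_pr [Fintype G] (A : Set G) (w : G → ℂ) :
    ∑ a ∈ elts A, ∑ b ∈ elts A, w (a * b) = ∑ a, ∑ b, pr A w a b := by
  classical
  have : elts A = Finset.univ.filter (· ∈ A) := by ext; simp
  simp only [this, pr, Finset.sum_filter, ite_and, Finset.sum_ite_irrel, Finset.sum_const_zero]

namespace Ub

variable (h : Ub L r k Q u)
include h

theorem cfdot_ev (i : Fin 3) : ⟪u i, ev L⟫[L] = 1 := by
  rw [h.sum, cfdotDr, cfdotDr, cfdotDr, h.one, h.dot, h.dot, h.dot]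
  fin_cases i <;> simp

theorem on (i : Fin 3) : cf1 L - u i ∈ CFon L (Reg 2 L) :=
  mem_CFon_of (sub_mem (cf1_mem_CF L) (h.dirr i).mem_CF) fun y hy e => by
    rw [Pi.sub_apply, cf1E hy, h.even i y hy (by_contra fun e' => e ⟨hy, e'⟩), sub_self]

theorem ortho (hχ : IsIrr L χ) (h1 : χ ∉ B0 2 L) (i : Fin 3) : ⟪cf1 L - u i, χ⟫[L] = 0 := by
  have h2 : χ ≠ cf1 L := fun e => h1 (e ▸ cf1_mem_B0)
  rw [cfdotBl, cfdot_symm0 (hχ.cfdot_cf1 h2), zero_sub, neg_eq_zero]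
  by_contra h3
  refine h1 ((mem_B0_iff hχ h2).2 fun e => ?_)
  have := h.cfdot_ev i
  rcases (h.dirr i).eq_or_eq_neg hχ.isDirr h3 with e' | e' <;> simp [e', e, cfdotNl] at this

theorem expand (hχ : χ ∈ B0 2 L) (hy : y ∈ Reg 2 L) :
    χ y = -∑ j, ⟪χ, cf1 L - u j⟫[L] * u j y := by
  have h1 := congrFun h.sum y
  rw [ev_odd hy.2, Pi.add_apply, Pi.add_apply, Pi.add_apply, cf1E hy.1] at h1
  by_cases e : χ = cf1 L
  · simp only [e, cfdotBr, cfdot_cf1, cfdot_symm0 (h.one _), Fin.sum_univ_three, cf1E hy.1]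
    linear_combination -h1
  have h2 := isIrr_of_mem_B0 hχ
  have h3 := (mem_B0_iff h2 e).1 hχ
  obtain ⟨i, hi⟩ : ∃ i, ⟪χ, u i⟫[L] ≠ 0 := by
    by_contra! h4
    exact h3 (by rw [h.sum, cfdotDr, cfdotDr, cfdotDr, h2.cfdot_cf1 e, h4, h4, h4]; simp)
  rcases h2.isDirr.eq_or_eq_neg (h.dirr i) hi with e' | e' <;>
    simp [e', cfdotBr, cfdotNl, h.one, h.dot]

end Ub

/-- `C(t) = ⟨t⟩ × L` -/
structure Ct (t : G) (L : Subgroup G) : Prop where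
  t1 : t ≠ 1
  t2 : t * t = 1
  cent : ∀ g : G, g ∈ 𝐂[t] ↔ g ∈ L ∨ g * t ∈ L
  tL : t ∉ L

/-- the class function `(1 - sgn) w` on `C(t)` -/
noncomputable def al (t : G) (w : G → ℂ) : G → ℂ := (2 : ℂ) • tr t w

namespace Ct

variable (h : Ct t L)
include h

omit [Finite G] in
theorem le : L ≤ 𝐂[t] := fun g hg => (h.cent g).2 (Or.inl hg)

omit [Finite G] in
theorem cinv : CInv t 𝐂[t] := ⟨mem_cent1_self t, le_rfl, h.t2⟩

omit [Finite G] in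
theorem mem_or (hg : g ∈ 𝐂[t]) : g ∈ L ∨ t * g ∈ L := mem_cent1.1 hg ▸ (h.cent g).1 hg

omit [Finite G] in
theorem relIndex : L.relIndex 𝐂[t] = 2 :=
  index_eq_two_iff.2 ⟨⟨t, mem_cent1_self t⟩, fun g => by
    by_cases e : (g : G) ∈ L
    · exact Or.inr ⟨e, fun e' => h.tL ((mul_mem_cancel_left e).1 e')⟩
    · exact Or.inl ⟨((h.cent g).1 g.2).resolve_left e, e⟩⟩

omit [Finite G] in
theorem pow_eq (ha : a ∈ 𝐂[t]) (ho : ¬ 2 ∣ orderOf (t * a)) : a ^ orderOf (t * a) = t := by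
  obtain ⟨m, hm⟩ := Nat.odd_iff.2 (Nat.two_dvd_ne_zero.1 ho)
  have h1 : Commute t (t * a) := (Commute.refl t).mul_right (mem_cent1.1 ha).symm
  nth_rewrite 1 [← h.cinv.zzg a]
  rw [h1.mul_pow, pow_orderOf_eq_one, hm, pow_succ, pow_mul, pow_two, h.t2, one_pow, one_mul, mul_one]

omit [Finite G] in
theorem reg : Reg 2 𝐂[t] = Reg 2 L := Set.ext fun g => ⟨fun e => ⟨(h.mem_or e.1).resolve_right
  fun e' => h.tL (by
    have := h.pow_eq (h.le e') (by rw [h.cinv.zzg]; exact e.2)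
    exact this ▸ pow_mem e' _), e.2⟩, fun e => ⟨h.le e.1, e.2⟩⟩

theorem mem_CF (hw : w ∈ CF L) : w ∈ CF 𝐂[t] :=
  mem_CF_of (fun x hx => cfun0 hw fun e => hx (h.le e)) fun g hg x hx => by
    rcases (h.cent g).1 hg with e | e
    · exact cfunJ hw e x
    · rw [← cfunJ hw e x, mul_assoc g t, ← mem_cent1.1 hx]
      congr 1; group

theorem cfdot_al (hw : w ∈ suppOn (L : Set G)) (φ : G → ℂ) :
    ⟪al t w, φ⟫[𝐂[t]] = ⟪w, tr t φ⟫[L] := by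
  rw [al, cfdotZl, h.cinv.cfdot_tr, ← cfdot_of_suppOn h.le hw, h.relIndex]; rfl

theorem al_vchar (hw : w ∈ ZIrr L) : al t w ∈ ZIrr 𝐂[t] :=
  vchar_of_cfdot (Submodule.smul_mem _ _ (h.cinv.tr_mem (h.mem_CF (vchar_mem_CF hw)))) fun ξ hξ => by
    rw [h.cfdot_al (vchar_mem_CF hw).1, ← cfdot_cfRes_right]
    exact Cint_cfdot_vchar hw (cfRes_vchar h.le (h.cinv.tr_vchar (irr_vchar hξ)))

theorem al_on (hw : w ∈ CFon L (Reg 2 L)) : al t w ∈ CFon 𝐂[t] {a | t * a ∈ Reg 2 L} :=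
  Submodule.smul_mem _ _ ⟨h.cinv.tr_mem (h.mem_CF hw.1), fun _ ha => hw.2 _ ha⟩

omit [Finite G] in
theorem mem_of (ha : t * a ∈ L) : a ∈ 𝐂[t] := (mul_mem_cancel_left (mem_cent1_self t)).1 (h.le ha)

omit [Finite G] in
theorem ti : NormedTI {a | t * a ∈ Reg 2 L} ⊤ 𝐂[t] :=
  ⟨⟨t, by simp [h.t2, one_mem_Reg]⟩, le_top, fun g hg a ha => by
    have h1 : t * (g * a * g⁻¹) = g * (t * a) * g⁻¹ := by rw [← mul_assoc g, mem_cent1.1 hg]; group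
    rw [Set.mem_ofPred, h1, ← h.reg]
    exact ⟨conj_mem_of_mem hg (h.le ha.1), by rw [orderOf_conj]; exact ha.2⟩,
  fun g _ a ha ha' => mem_cent1_iff_conj.2 (by
    have h1 := h.pow_eq (h.mem_of ha.1) ha.2
    have h2 := h.pow_eq (h.mem_of ha'.1) ha'.2
    obtain ⟨m, hm⟩ := Nat.odd_iff.2 (Nat.two_dvd_ne_zero.1 ha.2)
    obtain ⟨n, hn⟩ := Nat.odd_iff.2 (Nat.two_dvd_ne_zero.1 ha'.2)
    have h3 : ∀ n, t ^ (2 * n + 1) = t := fun n => by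
      rw [pow_succ, pow_mul, pow_two, h.t2, one_pow, one_mul]
    rw [← h3 n, ← hn]
    nth_rewrite 1 [← h1]
    rw [← pow_mul, mul_comm (orderOf _), ← conj_pow, pow_mul, h2, hm, h3, hn, h3])⟩

theorem isIrr_res (hξ : IsIrr 𝐂[t] ξ) : IsIrr L (cfRes L ξ) := by
  refine (vchar_norm1P (cfRes_vchar h.le (irr_vchar hξ)) (cfnorm_eq_one_iff.2 ?_)).isIrr
    (by obtain ⟨n, -, e⟩ := hξ.exists_one; simp [cfRes1, e])
  have h1 := cfdot_irr_self hξ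
  rw [cfdot_congr (φ' := cfRes L ξ + (2⁻¹ : ℂ) • al t (cfRes L (tr t ξ))) (fun x hx => ?_)
    fun _ _ => rfl, cfdotDl, cfdotZl, h.cfdot_al (cfRes_mem_suppOn _), cfdot_cfRes_left] at h1
  · have h2 := cfdot_of_suppOn h.le (cfRes_mem_suppOn ξ) ξ
    rw [h.relIndex, cfdot_cfRes_left] at h2
    rw [cfdot_cfRes_left, cfdot_cfRes_right]
    rcases h.cinv.sign hξ with e | e <;> simp only [e, cfdotNl, cfdotNr, neg_neg] at h1 <;>
      push_cast at h2 <;> linear_combination h1 - 2⁻¹ * h2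
  · by_cases e : x ∈ L
    · simp [al, cfResE _ e, cfRes_of_not_mem _ fun e' => h.tL ((mul_mem_cancel_right e).1 e')]
    · simp [al, cfRes_of_not_mem _ e, cfResE _ ((h.mem_or hx).resolve_left e), h.cinv.zzg]

theorem res_mem_B0 (hξ : IsIrr 𝐂[t] ξ) : cfRes L ξ ∈ B0 2 L ↔ ξ ∈ B0 2 𝐂[t] := by
  rw [mem_B0, mem_B0, h.reg, Finset.sum_congr rfl fun x hx => cfResE ξ (mem_elts.1 hx).1]
  simp [hξ, h.isIrr_res hξ]

theorem prB_eq (hχ : χ ∈ CF ⊤) (hy : y ∈ Reg 2 L) : prB 2 𝐂[t] χ (t * y) = prB 2 ⊤ χ (t * y) := by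
  have := prB_cent (p := 2) (k := 1) (s := y) (mem_top t) (by rw [pow_one, pow_two, h.t2])
    (by rwa [top_inf_eq, h.reg]) hχ
  rwa [top_inf_eq] at this

theorem cfdot_ind (hw : w ∈ CFon L (Reg 2 L)) (hχ : χ ∈ CF ⊤) :
    ⟪χ, cfInd ⊤ 𝐂[t] (al t w)⟫[⊤] = ⟪tr t χ, w⟫[L] := by
  rw [cfdot_cfInd_right le_top hχ (h.al_on hw).1.1, cfdotC, h.cfdot_al hw.1.1, conj_cfdot]

omit h in
theorem cfdot_on (hw : w ∈ CFon L (Reg 2 L)) (e : ∀ y ∈ Reg 2 L, φ y = ψ y) :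
    ⟪φ, w⟫[L] = ⟪ψ, w⟫[L] := by
  rw [cfdotEr (fun _ e => e.1) _ hw.2, cfdotEr (fun _ e => e.1) _ hw.2,
    Finset.sum_congr rfl fun y hy => by rw [e y (mem_elts.1 hy)]]

theorem blk (hu : Ub L r k Q u) (j : Fin 3) (hχ : IsIrr ⊤ χ) (h1 : χ ∉ B0 2 ⊤) :
    ⟪tr t χ, cf1 L - u j⟫[L] = 0 := by
  have h2 : prB 2 𝐂[t] (al t (cf1 L - u j)) = al t (cf1 L - u j) :=
    prB_eq_self (h.al_on (hu.on j)).1 fun ξ hξ e => by
      have := hu.ortho (h.isIrr_res hξ) (mt (h.res_mem_B0 hξ).1 e) j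
      rw [cfdot_cfRes_right] at this
      rw [h.cfdot_al (hu.on j).1.1]
      rcases h.cinv.sign hξ with e | e <;> simp [e, cfdotNr, this]
  rw [cfdotC, ← h.cfdot_al (hu.on j).1.1, ← h2, cfdot_prB, h.cfdot_al (hu.on j).1.1, conj_cfdot,
    cfdot_on (ψ := 0) (hu.on j) fun y hy => by
      rw [tr_apply, h.prB_eq hχ.mem_CF hy, prB_of_not_mem hχ h1]; rfl]
  simp

theorem expand (hu : Ub L r k Q u) (hχ : χ ∈ B0 2 ⊤) (hy : y ∈ Reg 2 L) :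
    χ (t * y) = -∑ j, ⟪tr t χ, cf1 L - u j⟫[L] * u j y := by
  have h1 : ∀ y ∈ Reg 2 L, tr t χ y = (∑ ξ ∈ B0 2 𝐂[t], ⟪χ, ξ⟫[𝐂[t]] • tr t ξ) y := fun y hy => by
    rw [tr_apply, ← prB_of_mem hχ, ← h.prB_eq (isIrr_of_mem_B0 hχ).mem_CF hy, prB_of_mem hχ, prB_apply]
    simp
  simp only [cfdot_on (hu.on _) h1, cfdot_suml, cfdotZl, Finset.sum_mul]
  rw [show χ (t * y) = _ from h1 y hy, Finset.sum_comm, Finset.sum_apply, ← Finset.sum_neg_distrib]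
  refine Finset.sum_congr rfl fun ξ hξ => ?_
  have h2 := isIrr_of_mem_B0 hξ
  have h3 := hu.expand ((h.res_mem_B0 h2).2 hξ) hy
  simp only [cfResE _ hy.1, cfdot_cfRes_left] at h3
  simp only [mul_assoc, ← Finset.mul_sum, ← mul_neg]
  rcases h.cinv.sign h2 with e | e <;> simp [e, h3, cfdotNl]

omit [Finite G] in
/-- pairs of involutions whose product lies in the section of `t` -/
theorem pair_eq (hw : w ∈ suppOn (Reg 2 L)) (a b : G) :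
    pr {a | a ≠ 1 ∧ a * a = 1} (tr t w) a b = pr {a | a ∈ L ∧ a ≠ 1 ∧ a * a = 1} w a (t * b) +
      pr {a | a ∈ L ∧ a ≠ 1 ∧ a * a = 1} w (t * a) b := by
  simp only [pr, tr_apply]
  have k1 : ∀ c ∈ L, t * c ∉ L := fun c hc e => h.tL ((mul_mem_cancel_right hc).1 e)
  have k2 : ∀ c ∈ 𝐂[t], t * c * (t * c) = c * c := fun c hc => by
    rw [mul_assoc, ← mul_assoc c, mem_cent1.1 hc, mul_assoc, h.cinv.zzg]
  have k3 : ∀ c, t * c ∈ L → c ≠ 1 := fun c hc e => h.tL (by simpa [e] using hc)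
  by_cases p : (a ∈ L ∧ a ≠ 1 ∧ a * a = 1) ∧ t * b ∈ L ∧ t * b ≠ 1 ∧ t * b * (t * b) = 1
  · rw [if_pos ⟨p.1.2, k3 b p.2.1, k2 b (h.mem_of p.2.1) ▸ p.2.2.2⟩, if_pos (by exact p),
      if_neg fun e => k1 a p.1.1 e.1.1, add_zero, ← mul_assoc a, mem_cent1.1 (h.le p.1.1), mul_assoc]
  by_cases q : (t * a ∈ L ∧ t * a ≠ 1 ∧ t * a * (t * a) = 1) ∧ b ∈ L ∧ b ≠ 1 ∧ b * b = 1
  · rw [if_pos ⟨⟨k3 a q.1.1, k2 a (h.mem_of q.1.1) ▸ q.1.2.2⟩, q.2.2⟩, if_neg (by exact p),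
      if_pos (by exact q), zero_add, mul_assoc]
  rw [if_neg (c := a ∈ _ ∧ t * b ∈ _) (by exact p), if_neg (c := t * a ∈ _ ∧ _) (by exact q), add_zero]
  refine (@ite_eq_right_iff _ _ (_) _ _).2 ?_
  rintro ⟨⟨a1, a2⟩, b1, b2⟩
  refine hw _ fun hU => ?_
  have h1 := h.mem_of hU.1
  have h2 : a ∈ 𝐂[t] := h.ti.mem_of_conj a (mem_top a) _ hU (by
    have e : t * (a * (a * b) * a⁻¹) = (t * (a * b))⁻¹ := by
      rw [mul_inv_rev, mul_inv_rev, inv_eq a2, inv_eq b2, inv_eq h.t2, ← mul_assoc a, a2, one_mul]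
      simpa [inv_eq a2, inv_eq b2] using (mem_cent1.1 (inv_mem h1)).symm
    rw [Set.mem_ofPred, e]
    exact ⟨inv_mem hU.1, by rw [orderOf_inv]; exact hU.2⟩)
  have h3 : b ∈ 𝐂[t] := (mul_mem_cancel_left h2).1 h1
  have k4 : ∀ c, c ≠ 1 → c * c = 1 → t * (a * b) ≠ c := fun c c1 c2 e =>
    hU.2 (by rw [e, orderOf_eq_two c2 c1])
  rcases h.mem_or h2 with e | e
  · refine p ⟨⟨e, a1, a2⟩, (mul_mem_cancel_left e).1 ?_, fun e' => k4 a a1 a2 ?_, k2 b h3 ▸ b2⟩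
    · rw [← mul_assoc, mem_cent1.1 h2, mul_assoc]; exact hU.1
    · rw [← mul_assoc, ← mem_cent1.1 h2, mul_assoc, e', mul_one]
  · exact q ⟨⟨e, fun e' => k4 b b1 b2 (by rw [← mul_assoc, e', one_mul]), k2 a h2 ▸ a2⟩,
      (mul_mem_cancel_left e).1 (mul_assoc t a b ▸ hU.1), b1, b2⟩

theorem pair (hw : w ∈ CFon L (Reg 2 L)) (hc : ∀ a : G, a ≠ 1 → a * a = 1 → ∃ g, g * t * g⁻¹ = a)
    (hv : v ∈ L) (v1 : v ≠ 1) (v2 : v * v = 1)
    (hL : ∀ a ∈ L, a ≠ 1 → a * a = 1 → ∃ g ∈ L, g * v * g⁻¹ = a) :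
    𝐂[t].index * ∑ χ ∈ Irr ⊤, ⟪cfInd ⊤ 𝐂[t] (al t w), χ⟫[⊤] * (χ t * χ t / χ 1) =
      4 * nI L v ^ 2 * ∑ χ ∈ Irr L, ⟪w, χ⟫[L] * (χ v * χ v / χ 1) := by
  classical
  have := Fintype.ofFinite G
  have h1 := sum_prod_conj le_top (h.al_on hw).1.1 (mem_top t) (mem_top t)
  have h2 := sum_prod_conj le_rfl hw.1.1 hv hv
  have k1 : ∀ a, a ∈ {a : G | a ≠ 1 ∧ a * a = 1} ↔ ∃ g ∈ (⊤ : Subgroup G), g * t * g⁻¹ = a := fun a =>
    ⟨fun e => (hc a e.1 e.2).imp fun g e => ⟨mem_top g, e⟩, by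
      rintro ⟨g, -, rfl⟩; exact ⟨conj_ne_one.2 h.t1, conj_sq h.t2 g⟩⟩
  have k2 : ∀ a, a ∈ {a : G | a ∈ L ∧ a ≠ 1 ∧ a * a = 1} ↔ ∃ g ∈ L, g * v * g⁻¹ = a := fun a =>
    ⟨fun e => hL a e.1 e.2.1 e.2.2, by
      rintro ⟨g, hg, rfl⟩; exact ⟨conj_mem_of_mem hg hv, conj_ne_one.2 v1, conj_sq v2 g⟩⟩
  simp only [fun a => sum_conj t (fun b => al t w (a * b)) k1, ← Finset.mul_sum] at h1
  simp only [fun a => sum_conj v (fun b => w (a * b)) k2, ← Finset.mul_sum] at h2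
  rw [sum_conj t (fun a => ∑ b ∈ elts _, al t w (a * b)) k1, top_inf_eq] at h1
  rw [sum_conj v (fun a => ∑ b ∈ elts _, w (a * b)) k2, sum_pr, ← card_mul_relIndexC
    (inf_le_left : L ⊓ 𝐂[v] ≤ L), inf_relIndex_left] at h2
  simp only [al, Pi.smul_apply, smul_eq_mul, ← Finset.mul_sum] at h1
  have k4 := fun a => Equiv.sum_comp (Equiv.mulLeft t) (pr {a | a ∈ L ∧ a ≠ 1 ∧ a * a = 1} w a)
  have k5 := Equiv.sum_comp (Equiv.mulLeft t) fun a =>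
    ∑ b, pr {a | a ∈ L ∧ a ≠ 1 ∧ a * a = 1} w a b
  simp only [Equiv.coe_mulLeft] at k4 k5
  simp only [sum_pr, h.pair_eq hw.2, Finset.sum_add_distrib, k4, k5] at h1
  rw [← card_mul_relIndexC (le_top : 𝐂[t] ≤ ⊤), relIndex_top_right] at h1
  rw [Finset.sum_congr rfl fun χ hχ => by
    rw [cfdot_cfInd_left le_top (h.al_on hw).1.1 (mem_Irr.1 hχ).mem_CF]]
  refine mul_left_cancel₀ (mul_ne_zero (pow_ne_zero 2 (cardC_ne_zero 𝐂[t]))
    (pow_ne_zero 2 (cardC_ne_zero (L ⊓ 𝐂[v])))) ?_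
  simp only [al]
  linear_combination -(♯(L ⊓ 𝐂[v] : Subgroup G) : ℂ) ^ 2 * h1 + 4 * (♯𝐂[t] : ℂ) ^ 2 * h2

theorem ind_apply (hw : w ∈ CFon L (Reg 2 L)) (hy : y ∈ Reg 2 L) :
    cfInd ⊤ 𝐂[t] (al t w) (t * y) = 2 * w y := by
  rw [normedTI_Ind_id h.ti (h.al_on hw) (by rwa [Set.mem_ofPred, h.cinv.zzg]) (mem_top _)]
  simp [al, h.cinv.zzg]

end Ct

end C1

open C1 in
theorem ch1 : CH1.{u} := by
  intro G _ _ t H L S P T p q r k h
  obtain rfl : L = H := by simpa using h.sup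
  obtain ⟨j, hj, j1, j2⟩ := h.exj
  obtain ⟨u, hu⟩ := Bl.exists_ub ⟨h.toLF, h.uni, h.tor, h.TP, hj.2, j1, j2⟩
  obtain ⟨K, v, s, ρ, hK⟩ := exists_kt h.toLF
  have hV := hK.v4
  have c : Ct t L := ⟨h.t1, h.t2, h.cent, h.tH⟩
  obtain ⟨hr, hk, -⟩ := h.par
  obtain ⟨q1, -, q3⟩ := par_Q h.par rfl
  set Q : ℤ := if q % 4 = 1 then (q : ℤ) else -q
  have hZ : ∀ j, cf1 L - u j ∈ ZIrr L := fun j => sub_mem (cf1_vchar L) (hu.dirr j).vchar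
  have h1 : (1 : G) ∈ Reg 2 L := one_mem_Reg
  have h2 : ∀ {X : Subgroup G} {n x}, Tor L X n → x ∈ X → Odd (orderOf x) → x ∈ Reg 2 L :=
    fun hX hx ho => ⟨hX.le hx, ho.not_two_dvd_nat⟩
  have h7 := card_mul_relIndex (inf_le_left : L ⊓ 𝐂[v] ≤ L)
  rw [inf_relIndex_left, hK.card, h.card, show 4 * q * r * k = 4 * k * (q * r) by ring] at h7
  replace h7 := Nat.eq_of_mul_eq_mul_left (by have := hk.pos; omega) h7
  have h3 : ∀ j, 𝐂[t].index * ∑ χ ∈ Irr ⊤, ⟪cfInd ⊤ 𝐂[t] (al t (cf1 L - u j)), χ⟫[⊤] *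
      (χ t * χ t / χ 1) = (Q * (Q + 1)) ^ 2 * (1 - 1 / u j 1) := fun j => by
    rw [c.pair (hu.on j) h.conj hV.t_mem hV.t_ne hV.t_sq (h.inv v hV.t_mem hV.t_ne hV.t_sq), nI, h7, q1]
    simp only [cfdotBl, sub_mul, Finset.sum_sub_distrib, sum_dirr (hu.dirr j),
      sum_dirr (isIrr_cf1 L).isDirr, cf1E hV.t_mem, cf1E L.one_mem,
      hu.even j v hV.t_mem (orderOf_eq_two hV.t_sq hV.t_ne).symm.dvd]
    push_cast; ring
  have n0 : (Q : ℂ) ≠ 0 := hu.deg.1 ▸ (hu.dirr 0).one_ne_zero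
  have n1 : (Q : ℂ) + 1 ≠ 0 := fun e => (hu.dirr 1).one_ne_zero (by rw [hu.deg.2.1, e]; simp)
  refine ⟨fun j => cfInd ⊤ 𝐂[t] (al t (cf1 L - u j)), fun j => cfInd_vchar le_top (c.al_vchar (hZ j)),
    fun i j => ?_, fun j => ?_, fun j g hg => ?_, fun j χ hχ e => ?_, fun R hR x hx x1 => ?_,
    fun X hX x hx x1 x2 => ?_, ?_, fun χ hχ => ?_, fun χ hχ X hX x hx x1 x2 => ?_, ?_, fun j j0 => ?_⟩
  · rw [normedTI_isometry c.ti (c.al_on (hu.on i)) (c.al_on (hu.on j)), c.cfdot_al (hu.on i).1.1,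
      show tr t (al t (cf1 L - u j)) = (2 : ℂ) • (cf1 L - u j) by ext; simp [al, c.cinv.zzg], cfdotZr]
    simp only [cfdotBl, cfdotBr, cfdot_cf1, hu.one, cfdot_symm0 (hu.one j), hu.dot, Complex.conj_ofNat]
    split_ifs <;> norm_num
  · rw [cfdotC, c.cfdot_ind (hu.on j) (cf1_mem_CF ⊤), cfdot_congr (φ' := cf1 L)
      (fun y hy => by rw [tr_apply, cf1E (mem_top _), cf1E hy]) fun _ _ => rfl, cfdotBr, cfdot_cf1,
      cfdot_symm0 (hu.one j)]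
    simp
  · refine cfInd_eq_zero _ fun a _ => cfun_on0 (c.al_on (hu.on j)) fun e => hg.not_two_dvd_nat ?_
    rw [← orderOf_conj' a, ← orderOf_eq_two h.t2 h.t1, ← c.pow_eq (c.mem_of e.1) e.2]
    exact orderOf_pow_dvd _
  · exact by_contra fun e' => e ((c.cfdot_ind (hu.on j) hχ.mem_CF).trans (c.blk hu j hχ e'))
  · have h4 := h2 hR hx (odd_of_mem (hR.card ▸ hr) hx)
    rw [c.ind_apply (hu.on 0) h4, Pi.sub_apply, cf1E h4.1, hu.valR R hR x hx x1]; norm_num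
  · have h4 := h2 hX hx x2
    obtain ⟨e0, e1, e2⟩ := hu.valK X hX x hx x1 x2
    simp only [c.ind_apply (hu.on _) h4, Pi.sub_apply, cf1E h4.1, e0, e1, e2]; norm_num
  · have h4 := fun j => c.ind_apply (hu.on j) h1
    simp only [mul_one] at h4
    simp only [h4, Pi.sub_apply, cf1E L.one_mem, hu.deg.1, hu.deg.2.1, hu.deg.2.2]
    refine ⟨trivial, by ring, by ring⟩
  · have h4 := c.expand hu hχ h1
    simp only [c.cfdot_ind (hu.on _) (isIrr_of_mem_B0 hχ).mem_CF]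
    rw [mul_one, Fin.sum_univ_three, hu.deg.1, hu.deg.2.1, hu.deg.2.2] at h4
    rw [h4]; ring
  · have h4 := c.expand hu hχ (h2 hX hx x2)
    obtain ⟨e0, e1, e2⟩ := hu.valK X hX x hx x1 x2
    simp only [c.cfdot_ind (hu.on _) (isIrr_of_mem_B0 hχ).mem_CF]
    rw [Fin.sum_univ_three, e0, e1, e2] at h4
    rw [h4]; ring
  · rw [h3, hu.deg.1]; field_simp
  · rw [h3, show u j 1 = -((Q + 1) / 2) by
      fin_cases j; exacts [absurd rfl j0, hu.deg.2.1, hu.deg.2.2]]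
    field_simp; ring

end Cfsg.Agent.JR
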