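import Cfsg.Agent.Lib.JR.Num

/-!
# The lattice part of the order formula for a group of Ree type
-/

set_option autoImplicit false

namespace Cfsg.Agent.JR.C2

variable {Λ : Type*} [AddCommGroup Λ] {B : Λ →+ Λ →+ ℤ} {d : Λ →+ ℤ} {e f : Λ →+ ℂ}
  {Q n N M m l ν : ℤ} {o θ₀ θ₁ θ₂ v V x y z h p q r w : Λ}

/-- the lattice of virtual characters: inner product, degree, value at `t`, pair sum -/
structure Lat (B : Λ →+ Λ →+ ℤ) (d : Λ →+ ℤ) (e f : Λ →+ ℂ) : Prop where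
  symm : ∀ x y, B x y = B y x
  pos : ∀ x, x ≠ 0 → 0 < B x x
  split : ∀ x, 0 < B x x → B x x < 4 → ∃ y, B y y = 1 ∧ B x y = 1
  d_ne : ∀ x, B x x = 1 → d x ≠ 0
  df : ∀ x, B x x = 1 → f x = e x ^ 2 / d x

theorem sq_le {a : ℤ} (h : a ^ 2 ≤ 3) : -1 ≤ a ∧ a ≤ 1 := by constructor <;> nlinarith

namespace Lat

variable (L : Lat B d e f)
include L

theorem nonneg (x : Λ) : 0 ≤ B x x := by
  by_cases h : x = 0
  · simp [h]
  · exact (L.pos x h).le

theorem eq_zero (h : B x x ≤ 0) : x = 0 := by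
  by_contra h'
  exact (L.pos x h').not_ge h

theorem cases (hx : B x x = 1) (hy : B y y = 1) : B x y = 0 ∨ x = y ∨ x = -y := by
  have := L.symm x y
  rcases lt_trichotomy (B x y) 0 with h | h | h
  · exact .inr (.inr (eq_neg_of_add_eq_zero_left (L.eq_zero (by
      simp only [map_add, AddMonoidHom.add_apply]; omega))))
  · exact .inl h
  · exact .inr (.inl (sub_eq_zero.1 (L.eq_zero (by simp only [map_sub, AddMonoidHom.sub_apply]; omega))))

theorem orth (hx : B x x = 1) (hy : B y y = 1) (h : B w x = 0) (h' : B w y ≠ 0) : B x y = 0 := by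
  rcases L.cases hx hy with h1 | rfl | rfl
  · exact h1
  · exact (h' h).elim
  · exact (h' (by simpa using h)).elim

theorem split2 (h : B w w = 2) : ∃ p q, B p p = 1 ∧ B q q = 1 ∧ B p q = 0 ∧ w = p + q := by
  obtain ⟨p, hp, h1⟩ := L.split w (by omega) (by omega)
  have := L.symm w p
  exact ⟨p, w - p, hp, by simp only [map_sub, AddMonoidHom.sub_apply]; omega,
    by simp only [map_sub]; omega, by abel⟩

theorem bessel (hp : B p p = 1) (hq : B q q = 1) (hr : B r r = 1) (h1 : B p q = 0) (h2 : B p r = 0)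
    (h3 : B q r = 0) (z : Λ) : B z p ^ 2 + B z q ^ 2 + B z r ^ 2 ≤ B z z := by
  have := L.nonneg (z - B z p • p - B z q • q - B z r • r)
  simp only [map_sub, AddMonoidHom.sub_apply, map_zsmul, AddMonoidHom.smul_apply, smul_eq_mul, hp,
    hq, hr, h1, h2, h3, L.symm p z, L.symm q z, L.symm r z, L.symm q p, L.symm r p,
    L.symm r q] at this
  linarith

theorem bessel2 (hp : B p p = 1) (hq : B q q = 1) (h1 : B p q = 0) (z : Λ) :
    B z p ^ 2 + B z q ^ 2 ≤ B z z := by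
  have := L.nonneg (z - B z p • p - B z q • q)
  simp only [map_sub, AddMonoidHom.sub_apply, map_zsmul, AddMonoidHom.smul_apply, smul_eq_mul, hp,
    hq, h1, L.symm p z, L.symm q z, L.symm q p] at this
  linarith

/-- a unit vector orthogonal to `p + q` -/
theorem orth2 (hp : B p p = 1) (hq : B q q = 1) (h1 : B p q = 0) (hz : B z z = 1)
    (h : B z p + B z q = 0) : B z p = 0 := by
  have := L.bessel2 hp hq h1 z
  rw [show B z q = -B z p by omega] at this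
  nlinarith [sq_nonneg (2 * B z p - 1), sq_nonneg (2 * B z p + 1),
    Int.lt_or_eq_of_le (sq_nonneg (B z p)), pow_eq_zero_iff (a := B z p) two_ne_zero]

theorem orth2' (hp : B p p = 1) (hq : B q q = 1) (h1 : B p q = 0) (hz : B z z = 2)
    (h : B z p + B z q = 0) (hd : d z = d p + d q) : B z p = 0 := by
  by_contra h0
  have h2 : 0 < B z p ^ 2 := by positivity
  have h3 := L.eq_zero (x := z - B z p • p + B z p • q) (by
    simp only [map_sub, map_add, AddMonoidHom.sub_apply, AddMonoidHom.add_apply, map_zsmul,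
      AddMonoidHom.smul_apply, smul_eq_mul, hp, hq, h1, L.symm p z, L.symm q z, L.symm q p,
      show B z q = -B z p by omega]
    linarith)
  have h4 := congrArg d h3
  have h5 := L.bessel2 hp hq h1 z
  rw [show B z q = -B z p by omega] at h5
  have := L.d_ne p hp
  have := L.d_ne q hq
  simp only [map_sub, map_add, map_zsmul, map_zero, smul_eq_mul] at h4
  have := sq_le (a := B z p) (by linarith)
  rcases (show B z p = 1 ∨ B z p = -1 by omega) with h6 | h6 <;> rw [h6] at h4 <;> omega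

end Lat

/-- the virtual characters `1, Θ₀, Θ₁, Θ₂, v, V` -/
structure Cfg (B : Λ →+ Λ →+ ℤ) (d : Λ →+ ℤ) (e f : Λ →+ ℂ) (Q n N m : ℤ) (o θ₀ θ₁ θ₂ v V : Λ) :
    Prop extends Lat B d e f where
  hQ : Q + 1 = 2 * n
  h11 : 11 ≤ |Q|
  oo : B o o = 1
  d_o : d o = 1
  e_o : e o = 1
  nn : B θ₀ θ₀ = 4 ∧ B θ₁ θ₁ = 4 ∧ B θ₂ θ₂ = 4 ∧ B θ₀ θ₁ = 2 ∧ B θ₀ θ₂ = 2 ∧ B θ₁ θ₂ = 2
  on : B o θ₀ = 1 ∧ B o θ₁ = 1 ∧ B o θ₂ = 1
  dn : d θ₀ = 0 ∧ d θ₁ = 0 ∧ d θ₂ = 0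
  en : e θ₀ = 2 * (1 - Q) ∧ e θ₁ = Q + 3 ∧ e θ₂ = Q + 3
  fn : N * f θ₀ = Q * (Q + 1) ^ 2 * (Q - 1) ∧ N * f θ₁ = Q ^ 2 * (Q + 1) * (Q + 3) ∧
    N * f θ₂ = Q ^ 2 * (Q + 1) * (Q + 3)
  at_t : ∀ x, B x x = 1 → B x θ₀ ≠ 0 ∨ B x θ₁ ≠ 0 ∨ B x θ₂ ≠ 0 →
    e x = -Q * B x θ₀ + n * (B x θ₁ + B x θ₂)
  dv : d v = 0 ∧ d V = 0
  ev : e v = 0 ∧ e V = 0
  fv : f v = 0 ∧ N * f V = Q * (Q + 1) * (Q - 1) ^ 2
  vv : B v v = 3 ∧ B V V = 7 ∧ B v V = 0 ∧ B o v = 0
  vn : B v θ₀ = 0 ∧ B v θ₁ = -1 ∧ B v θ₂ = -1 ∧ B V θ₁ + B V θ₂ - B V θ₀ = 6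
  dis : ∀ x, B x x = 1 → B x v = 0 ∨ B x V = 0
  sub : ∀ x, B x x = 1 → B x θ₀ ≠ 0 ∨ B x θ₁ ≠ 0 ∨ B x θ₂ ≠ 0 →
    B x V - B x v = B x θ₁ + B x θ₂ - B x θ₀
  cong : ∀ x, B x x = 1 → B x θ₁ ≠ 0 → B x V ≠ 0 → m ∣ d x - (B x θ₁ + B x θ₂ - B x θ₀)

/-- the constituents of `v` -/
structure Tri (B : Λ →+ Λ →+ ℤ) (θ₀ θ₁ θ₂ v x y h : Λ) : Prop where
  un : B x x = 1 ∧ B y y = 1 ∧ B h h = 1 ∧ B x y = 0 ∧ B x h = 0 ∧ B y h = 0
  eq : v = x + y + h
  hn : B h θ₀ = 0 ∧ B h θ₁ = 0 ∧ B h θ₂ = 0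
  xn : B x θ₁ + B x θ₂ - B x θ₀ = -1
  yn : B y θ₁ + B y θ₂ - B y θ₀ = -1

theorem Tri.swap (L : Lat B d e f) (T : Tri B θ₀ θ₁ θ₂ v x y h) : Tri B θ₀ θ₁ θ₂ v y x h :=
  ⟨by have := T.un; have := L.symm x y; omega, by rw [T.eq, add_comm x], T.hn, T.yn, T.xn⟩

namespace Cfg

variable (C : Cfg B d e f Q n N m o θ₀ θ₁ θ₂ v V)
include C

theorem exists_tri : ∃ x y h, Tri B θ₀ θ₁ θ₂ v x y h := by
  obtain ⟨x, hx, h1⟩ := C.split v (by rw [C.vv.1]; omega) (by rw [C.vv.1]; omega)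
  have := C.symm v x
  have := C.vv
  obtain ⟨y, z, hy, hz, h2, h3⟩ := C.split2 (w := v - x) (by
    simp only [map_sub, AddMonoidHom.sub_apply]; omega)
  obtain rfl : v = x + y + z := by rw [add_assoc, ← h3]; abel
  have := C.symm y z
  have h4 : B x y + B x z = 0 := by simp only [map_add] at *; omega
  have h5 := C.orth2 hy hz h2 hx h4
  have h6 : B x z = 0 := by omega
  have := C.symm x y
  have := C.symm x z
  have key : ∀ u, B u u = 1 → B u (x + y + z) = 1 → B u θ₁ + B u θ₂ - B u θ₀ = -1 ∨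
      B u θ₀ = 0 ∧ B u θ₁ = 0 ∧ B u θ₂ = 0 := fun u hu h => by
    have := C.dis u hu
    have := C.sub u hu
    omega
  have h7 := C.vn
  simp only [map_add, AddMonoidHom.add_apply] at h7 key
  have := key x hx (by omega)
  have := key y hy (by omega)
  have := key z hz (by omega)
  by_cases h8 : B z θ₁ + B z θ₂ - B z θ₀ = -1
  · by_cases h9 : B y θ₁ + B y θ₂ - B y θ₀ = -1
    · exact ⟨y, z, x, by omega, by abel, by omega, h9, h8⟩
    · exact ⟨x, z, y, by omega, by abel, by omega, by omega, h8⟩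
  · exact ⟨x, y, z, by omega, rfl, by omega, by omega, by omega⟩

theorem o_tri (T : Tri B θ₀ θ₁ θ₂ v x y h) : B o x = 0 := by
  have := T.un
  refine C.orth C.oo this.1 (w := v) (C.symm o v ▸ C.vv.2.2.2) ?_
  have := C.symm x y
  have := C.symm x h
  simp only [T.eq, map_add, AddMonoidHom.add_apply]
  omega

theorem ratio (T : Tri B θ₀ θ₁ θ₂ v x y h) :
    ∃ M, N = Q ^ 2 * M ∧ M ≠ 0 ∧ d x = -M * e x ∧ d y = -M * e y := by
  obtain ⟨hx, hy, hh, xy, xh, yh⟩ := T.un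
  have := T.hn
  have := T.xn
  have := T.yn
  have := C.h11
  have hn := C.vn
  have h1 := C.at_t x hx (by omega)
  have h2 := C.at_t y hy (by omega)
  have hQ : (Q : ℂ) + 1 = 2 * n := by exact_mod_cast C.hQ
  have hv : B h v = 1 := by rw [T.eq, map_add, map_add, C.symm h x, C.symm h y]; omega
  have hg : B (V - v + h - θ₁ - θ₂ + θ₀) (V - v + h - θ₁ - θ₂ + θ₀) = 1 := by
    have := C.dis h hh
    have := C.vv
    have := C.nn
    simp only [map_add, map_sub, AddMonoidHom.add_apply, AddMonoidHom.sub_apply, C.symm V v,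
      C.symm V h, C.symm v h, C.symm θ₀ V, C.symm θ₁ V, C.symm θ₂ V, C.symm θ₀ v, C.symm θ₁ v,
      C.symm θ₂ v, C.symm θ₀ h, C.symm θ₁ h, C.symm θ₂ h, C.symm θ₁ θ₀, C.symm θ₂ θ₀, C.symm θ₂ θ₁]
    omega
  obtain ⟨d1, d2⟩ := C.dv
  obtain ⟨e1, e2⟩ := C.ev
  obtain ⟨f1, f2⟩ := C.fv
  have h3 := C.df _ hg
  simp only [map_add, map_sub, d1, d2, e1, e2, f1, C.dn, C.en, C.df h hh, sub_zero, zero_add,
    add_zero] at h3
  rw [T.eq, map_add, map_add] at d1 e1 f1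
  simp only [T.eq, map_add, AddMonoidHom.add_apply] at hn
  have h4 : e h = Q + 1 := by
    have a0 : ((B x θ₀ + B y θ₀ : ℤ) : ℂ) = 0 := by norm_cast; omega
    have a1 : ((B x θ₁ + B x θ₂ + (B y θ₁ + B y θ₂) : ℤ) : ℂ) = -2 := by norm_cast; omega
    push_cast at a0 a1
    linear_combination e1 - h1 - h2 + Q * a0 - n * a1 - hQ
  have x0 : (d x : ℂ) ≠ 0 := Int.cast_ne_zero.2 (C.d_ne x hx)
  have y0 : (d y : ℂ) ≠ 0 := Int.cast_ne_zero.2 (C.d_ne y hy)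
  have h0 : (d h : ℂ) ≠ 0 := Int.cast_ne_zero.2 (C.d_ne h hh)
  have Q1 : (Q : ℂ) + 1 ≠ 0 := by norm_cast; rcases abs_choice Q with e | e <;> omega
  have h5 : N * (Q + 1) = Q ^ 2 * -d h := by
    obtain ⟨f3, f4, f5⟩ := C.fn
    have : (N : ℂ) * ((Q + 1) ^ 2 / d h) = -Q ^ 2 * (Q + 1) := by
      rw [h4] at h3
      linear_combination (1 / 8) * (f2 - f4 - f5 + f3 - N * h3)
    apply Int.cast_injective (α := ℂ)
    push_cast
    field_simp at this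
    linear_combination this
  obtain ⟨M, rfl⟩ : Q ^ 2 ∣ N := IsCoprime.dvd_of_dvd_mul_right
    (IsCoprime.pow_left ⟨-1, 1, by ring⟩) ⟨_, h5⟩
  have h6 : d h = -M * (Q + 1) := mul_left_cancel₀ (pow_ne_zero 2 (show Q ≠ 0 by rintro rfl; simp at this))
    (by linear_combination h5)
  have d1' : (d x : ℂ) + d y + d h = 0 := by exact_mod_cast d1
  have h6' : (d h : ℂ) = -M * (Q + 1) := by exact_mod_cast h6
  rw [C.df x hx, C.df y hy, C.df h hh] at f1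
  have h7 : e x * d y - e y * d x = 0 := by
    field_simp at f1
    refine pow_eq_zero_iff two_ne_zero |>.1 ?_
    rw [show e h = -e x - e y by linear_combination e1, show (d h : ℂ) = -d x - d y by
      linear_combination d1'] at f1
    linear_combination -f1
  refine ⟨M, rfl, fun e => C.d_ne h hh (by simp [h6, e]), mul_left_cancel₀ Q1 ?_,
    mul_left_cancel₀ Q1 ?_⟩
  · linear_combination -d x * h4 + e x * h6' + d x * e1 - e x * d1' + h7
  · linear_combination -d y * h4 + e y * h6' + d y * e1 - e y * d1' - h7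

theorem caseA (T : Tri B θ₀ θ₁ θ₂ v x y h) (x1 : B x θ₁ = 0) (x2 : B x θ₂ = 0) :
    N = Q ^ 2 * (Q ^ 2 + Q + 1) ∧ ∃ X, 3 * X ^ 2 = -Q * (Q ^ 2 - 1) ^ 2 := by
  obtain ⟨M, rfl, M0, dx, dy⟩ := C.ratio T
  obtain ⟨hx, hy, -, xy, -⟩ := T.un
  obtain ⟨x0, y0, y1, y2⟩ : B x θ₀ = 1 ∧ B y θ₀ = -1 ∧ B y θ₁ = -1 ∧ B y θ₂ = -1 := by
    have := T.hn
    have := T.xn
    have hn := C.vn
    simp only [T.eq, map_add, AddMonoidHom.add_apply] at hn
    omega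
  have hQ : (Q : ℂ) + 1 = 2 * n := by exact_mod_cast C.hQ
  have ex : e x = -Q := by rw [C.at_t x hx (by omega), x1, x2, x0]; simp
  have ey : e y = -1 := by
    rw [C.at_t y hy (by omega), y0, y1, y2]; push_cast; linear_combination hQ
  replace dx : d x = Q * M := Int.cast_injective (α := ℂ) (by rw [dx, ex]; push_cast; ring)
  replace dy : d y = M := Int.cast_injective (α := ℂ) (by rw [dy, ey]; ring)
  have ox := C.o_tri T
  have oy := C.o_tri (T.swap C.toLat)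
  obtain ⟨z, hθ⟩ : ∃ z, z = θ₀ - o + y - x := ⟨_, rfl⟩
  obtain ⟨hz, h1, h2, h3, h4, h5, h6, h7, h8, h9, h10⟩ : B z z = 1 ∧ B (θ₁ - o + y) (θ₁ - o + y) = 2 ∧
      B (θ₂ - o + y) (θ₂ - o + y) = 2 ∧ B o (θ₁ - o + y) = 0 ∧ B x (θ₁ - o + y) = 0 ∧
      B y (θ₁ - o + y) = 0 ∧ B z (θ₁ - o + y) = 0 ∧ B (θ₂ - o + y) (θ₁ - o + y) = 0 ∧
      d (θ₂ - o + y) = d (θ₁ - o + y) ∧ 1 - M + Q * M + d z = 0 ∧ 1 - M + d (θ₁ - o + y) = 0 := by
    simp [hθ, C.symm θ₀ o, C.symm θ₁ o, C.symm θ₂ o, C.symm θ₀ x, C.symm θ₀ y, C.symm θ₁ y,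
      C.symm θ₂ y, C.symm x o, C.symm y o, C.symm y x, C.symm θ₂ θ₁, C.nn, C.on, C.oo, C.dn, C.d_o,
      hx, hy, xy, ox, oy, x0, x1, y0, y1, y2, dx, dy]
  obtain ⟨p, q, hp, hq, pq, h⟩ := C.split2 h1
  have key : ∀ p q, B p p = 1 → B q q = 1 → B p q = 0 → θ₁ - o + y = p + q → e p = n :=
    fun p q hp hq pq h => by
      rw [h, map_add] at h3 h4 h5 h6 h7
      rw [h, map_add d p] at h8
      have a1 := C.orth2 hp hq pq C.oo h3
      have a2 := C.orth2 hp hq pq hx h4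
      have a3 := C.orth2 hp hq pq hy h5
      have a4 := C.orth2 hp hq pq hz h6
      have a5 := C.orth2' hp hq pq h2 h7 h8
      have a6 := congrArg (B p) h
      have a7 := congrArg (B p) hθ
      rw [C.symm] at a1 a2 a3 a4 a5
      simp only [map_add, map_sub] at a5 a6 a7
      rw [C.at_t p hp (by omega), show B p θ₀ = 0 by omega, show B p θ₁ = 1 by omega,
        show B p θ₂ = 0 by omega]
      simp
  have ez : e z = -Q := by simp only [hθ, map_add, map_sub, C.en, C.e_o, ex, ey]; ring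
  obtain ⟨f0, f1, -⟩ := C.fn
  rw [show θ₀ = o - y + x + z by rw [hθ]; abel] at f0
  rw [show θ₁ = o - y + p + q by rw [add_assoc, ← h]; abel] at f1
  simp only [map_add, map_sub, C.df o C.oo, C.df y hy, C.df x hx, C.df z hz, C.df p hp, C.df q hq,
    C.e_o, C.d_o, ex, ey, ez, dx, dy, key p q hp hq pq h,
    key q p hq hp (C.symm p q ▸ pq) (by rw [h, add_comm])] at f0 f1
  rw [h, map_add, ← add_assoc] at h10
  obtain ⟨h1, h2⟩ := numIa C.hQ C.h11 (C.d_ne p hp) (C.d_ne q hq) (C.d_ne z hz) M0 h9 h10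
    (by simpa using f0) (by simpa using f1)
  exact ⟨by rw [h1], _, h2⟩

theorem caseB {g : Λ} (T : Tri B θ₀ θ₁ θ₂ v x y g) (x1 : B x θ₁ = 0) (x2 : B x θ₂ = -1)
    (hm : n - 1 = m * ν) (hl : Prime l) (l2 : ¬ l ∣ 2) (lm : l ∣ m) (lν : ¬ l ∣ ν) (m0 : m ≠ 0) :
    False := by
  obtain ⟨M, rfl, M0, dx, dy⟩ := C.ratio T
  obtain ⟨hx, hy, hh, xy, -⟩ := T.un
  obtain ⟨x0, y0, y1, y2⟩ : B x θ₀ = 0 ∧ B y θ₀ = 0 ∧ B y θ₁ = -1 ∧ B y θ₂ = 0 := by
    have := T.hn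
    have := T.xn
    have hn := C.vn
    simp only [T.eq, map_add, AddMonoidHom.add_apply] at hn
    omega
  have hQ' : (Q : ℂ) = 2 * n - 1 := by exact_mod_cast eq_sub_of_add_eq C.hQ
  have ex : e x = -n := by rw [C.at_t x hx (by omega), x1, x2, x0]; simp
  have ey : e y = -n := by rw [C.at_t y hy (by omega), y0, y1, y2]; simp
  replace dx : d x = n * M := Int.cast_injective (α := ℂ) (by rw [dx, ex]; push_cast; ring)
  replace dy : d y = n * M := Int.cast_injective (α := ℂ) (by rw [dy, ey]; push_cast; ring)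
  have ox := C.o_tri T
  have oy := C.o_tri (T.swap C.toLat)
  obtain ⟨h1, h2, h3, h4, h5, h6, h7, h8, h9, h10, h11, h12, h13, h14, h15, h16⟩ :
      B (θ₁ - o + y) (θ₁ - o + y) = 2 ∧
      B (θ₂ - o + x) (θ₂ - o + x) = 2 ∧ B (θ₂ - o + x) (θ₁ - o + y) = 1 ∧ B o (θ₁ - o + y) = 0 ∧
      B x (θ₁ - o + y) = 0 ∧ B y (θ₁ - o + y) = 0 ∧ B o (θ₂ - o + x) = 0 ∧ B x (θ₂ - o + x) = 0 ∧
      B y (θ₂ - o + x) = 0 ∧ B (θ₀ - o) (θ₀ - o) = 3 ∧ B (θ₀ - o) (θ₁ - o + y) = 1 ∧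
      B (θ₀ - o) (θ₂ - o + x) = 1 ∧ 1 + d (θ₁ - o + y) = n * M ∧ 1 + d (θ₂ - o + x) = n * M ∧
      1 + d (θ₀ - o) = 0 ∧ e (θ₀ - o) = 1 - 2 * Q := by
    simp [C.symm θ₀ o, C.symm θ₁ o, C.symm θ₂ o, C.symm θ₀ x, C.symm θ₀ y, C.symm θ₁ y,
      C.symm θ₂ y, C.symm θ₂ x, C.symm x o, C.symm y o, C.symm y x, C.symm θ₂ θ₁, C.nn, C.on, C.oo,
      C.dn, C.d_o, C.en, C.e_o, hx, hy, xy, ox, oy, x0, x1, x2, y0, y1, y2, dx, dy]
    ring
  obtain ⟨z, p, hz, hp, zp, h, a1, a2⟩ : ∃ z p, B z z = 1 ∧ B p p = 1 ∧ B z p = 0 ∧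
      θ₁ - o + y = z + p ∧ B (θ₂ - o + x) z = 1 ∧ B (θ₂ - o + x) p = 0 := by
    obtain ⟨z, p, hz, hp, zp, h⟩ := C.split2 h1
    have a := C.bessel2 hz hp zp (θ₂ - o + x)
    rw [h, map_add] at h3
    have := sq_le (a := B (θ₂ - o + x) z) (by linarith [sq_nonneg (B (θ₂ - o + x) p)])
    have := sq_le (a := B (θ₂ - o + x) p) (by linarith [sq_nonneg (B (θ₂ - o + x) z)])
    by_cases h6 : B (θ₂ - o + x) z = 1
    · exact ⟨z, p, hz, hp, zp, h, h6, by omega⟩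
    · exact ⟨p, z, hp, hz, C.symm p z ▸ zp, by rw [h, add_comm], by omega, by omega⟩
  obtain ⟨q, h'⟩ : ∃ q, θ₂ - o + x = z + q := ⟨θ₂ - o + x - z, by abel⟩
  obtain ⟨w, hw⟩ : ∃ w, θ₀ - o = w := ⟨_, rfl⟩
  rw [h, map_add] at h4 h5 h6 h11 h13
  rw [h'] at h2 a1 a2
  rw [h', map_add] at h7 h8 h9 h12 h14
  rw [hw] at h10 h11 h12 h15 h16
  obtain ⟨hq, zq, pq⟩ : B q q = 1 ∧ B z q = 0 ∧ B p q = 0 := by
    simp only [map_add, AddMonoidHom.add_apply, C.symm q z, C.symm q p] at h2 a1 a2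
    omega
  have oz := C.orth2 hz hp zp C.oo h4
  have xz := C.orth2 hz hp zp hx h5
  have yz := C.orth2 hz hp zp hy h6
  have a3 := C.bessel hz hp hq zp zq pq w
  rw [show B w p = 1 - B w z by omega, show B w q = 1 - B w z by omega, h10] at a3
  have a4 := sq_le (a := B w z) (by linarith [sq_nonneg (1 - B w z)])
  have a5 := sq_le (a := 1 - B w z) (by linarith [sq_nonneg (1 - B w z), sq_nonneg (B w z)])
  have key : ∀ u, B o u = 0 → B x u = 0 → B y u = 0 →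
      B u θ₀ = B w u ∧ B u θ₁ = B z u + B p u ∧ B u θ₂ = B z u + B q u := fun u b1 b2 b3 => by
    simp only [C.symm u, ← hw, ← AddMonoidHom.add_apply, ← map_add, ← h, ← h']
    simp [b1, b2, b3]
  obtain ⟨z0, z1, z2⟩ := key z oz xz yz
  obtain ⟨p0, p1, p2⟩ := key p (by omega) (by omega) (by omega)
  obtain ⟨q0, q1, q2⟩ := key q (by omega) (by omega) (by omega)
  rw [C.symm p z] at z1
  rw [C.symm q z] at z2
  rw [C.symm q p] at p2
  have ez := C.at_t z hz (by omega)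
  have ep := C.at_t p hp (by omega)
  have eq := C.at_t q hq (by omega)
  simp only [z0, z1, z2, p0, p1, p2, q0, q1, q2, hz, hp, hq, zp, zq, pq] at ez ep eq
  obtain ⟨f0, f1, -⟩ := C.fn
  rw [show θ₁ = o + z + p - y by rw [add_assoc, ← h]; abel] at f1
  simp only [map_add, map_sub, C.df o C.oo, C.df y hy, C.df z hz, C.df p hp, C.e_o, C.d_o, ey, ez, ep,
    dy] at f1
  rcases (show B w z = 1 ∨ B w z = 0 by omega) with a6 | a6
  · have key2 : ∀ u, B u u = 1 → B x u = 0 → B y u = 0 → B u θ₁ = 1 → B u θ₂ = B u θ₀ → m ∣ d u - 1 :=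
      fun u hu b1 b2 b3 b4 => by
        have b5 := C.orth hh hu (w := θ₁) (C.symm g _ ▸ T.hn.2.1) (by rw [C.symm, b3]; omega)
        have b6 := C.sub u hu (by omega)
        rw [T.eq, map_add, map_add, C.symm u x, C.symm u y, C.symm u g] at b6
        simpa [b3, b4] using C.cong u hu (by omega) (by omega)
    refine numIb C.hQ C.h11 (C.d_ne z hz) (C.d_ne p hp) M0 (by omega) hm hl l2 lm lν m0
      (key2 z hz xz yz (by omega) (by omega))
      (key2 p hp (by omega) (by omega) (by omega) (by omega)) ?_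
    rw [← f1, a6, show B w p = 0 by omega]
    push_cast; rw [hQ']; ring
  · have wp : B w p = 1 := by omega
    have wq : B w q = 1 := by omega
    obtain ⟨r, rfl⟩ : ∃ r, w = p + q + r := ⟨w - (p + q), by abel⟩
    have hr : B r r = 1 := by
      simp only [map_add, AddMonoidHom.add_apply, C.symm q p, C.symm r p, C.symm r q] at h10 wp wq
      omega
    rw [wp] at ep f1
    rw [wq] at eq
    simp only [map_add] at h15 h16
    have er : e r = -Q := by rw [ep, eq] at h16; push_cast at h16; linear_combination h16 + hQ'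
    rw [show θ₀ = o + p + q + r by rw [add_assoc, add_assoc, ← add_assoc p, ← hw]; abel] at f0
    simp only [map_add, C.df o C.oo, C.df p hp, C.df q hq, C.df r hr, C.e_o, C.d_o, ep, eq, er,
      show d q = d p by omega] at f0
    refine numII C.hQ C.h11 (C.d_ne p hp) M0 (by omega) (C.d_ne z hz) (b := d r) (by omega) ?_ ?_
    · rw [← f0]; push_cast; rw [hQ']; ring
    · rw [← f1, a6]; push_cast; rw [hQ']; ring

theorem main (hm : n - 1 = m * ν) (hl : Prime l) (l2 : ¬ l ∣ 2) (lm : l ∣ m) (lν : ¬ l ∣ ν)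
    (m0 : m ≠ 0) : N = Q ^ 2 * (Q ^ 2 + Q + 1) ∧ ∃ X, 3 * X ^ 2 = -Q * (Q ^ 2 - 1) ^ 2 := by
  obtain ⟨x, y, h, T⟩ := C.exists_tri
  have T' := T.swap C.toLat
  have key : ∀ θ x, B θ θ = 4 → B o θ = 1 → B x x = 1 → B o x = 0 → -1 ≤ B x θ ∧ B x θ ≤ 1 :=
    fun θ x h1 h2 h3 h4 => sq_le (by
      have := C.bessel2 C.oo h3 h4 θ
      rw [C.symm θ, C.symm θ, h1, h2] at this; linarith)
  have := key _ _ C.nn.2.1 C.on.2.1 T.un.1 (C.o_tri T)
  have := key _ _ C.nn.2.2.1 C.on.2.2 T.un.1 (C.o_tri T)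
  have := key _ _ C.nn.2.1 C.on.2.1 T'.un.1 (C.o_tri T')
  have := key _ _ C.nn.2.2.1 C.on.2.2 T'.un.1 (C.o_tri T')
  have := key _ _ C.nn.1 C.on.1 T.un.1 (C.o_tri T)
  have := key _ _ C.nn.1 C.on.1 T'.un.1 (C.o_tri T')
  have := T.hn
  have := T.xn
  have := T.yn
  have hn := C.vn
  simp only [T.eq, map_add, AddMonoidHom.add_apply] at hn
  by_cases h1 : B x θ₁ = 0 <;> by_cases h2 : B x θ₂ = 0
  · exact C.caseA T h1 h2
  · exact (C.caseB T h1 (by omega) hm hl l2 lm lν m0).elim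
  · exact (C.caseB T' (by omega) (by omega) hm hl l2 lm lν m0).elim
  · exact C.caseA T' (by omega) (by omega)

end Cfg

end Cfsg.Agent.JR.C2
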