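import Cfsg.Agent.Lib.JR.CH2Chr
import Cfsg.Agent.Lib.JR.CH2Lat

/-!
# Package CH2: the order of a group of Ree type
-/

set_option autoImplicit false
set_option linter.unusedSectionVars false

namespace Cfsg.Agent.JR

open Subgroup Cfsg.Agent.OO Cfsg.Agent.Coprime Cfsg.Agent.Blk Cfsg.Agent.ODD
open scoped Pointwise ComplexConjugate

universe u

namespace C2

variable {G : Type u} [Group G] [Finite G] {s t v : G} {K L T : Subgroup G} {k r : ℕ} {Q n : ℤ}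
  {φ χ : G → ℂ} {Θ : Fin 3 → G → ℂ}

theorem sum_invs (t1 : t ≠ 1) (t2 : t * t = 1) (h : ∀ a : G, a ≠ 1 → a * a = 1 → ∃ g, g * t * g⁻¹ = a)
    (hφ : φ ∈ CF ⊤) : ∑ x ∈ elts (Invs G), φ x = 𝐂[t].index * φ t := by
  have := SEA.sum_conj (X := Invs G) (L := ⊤) (s := t) (fun y => ⟨fun hy => by
    simpa using h y hy.1 hy.2, fun ⟨g, _, e⟩ => e ▸ conj_mem_invs.2 ⟨t1, t2⟩⟩) φ
  rw [Finset.sum_congr rfl fun g _ => cfunJ hφ (mem_top g) t, sum_elts_const, top_inf_eq, card_top,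
    ← 𝐂[t].card_mul_index, nsmul_eq_mul, Nat.cast_mul, mul_assoc] at this
  exact (mul_left_cancel₀ (cardC_ne_zero _) this).symm

theorem exists_lat {N : ℂ} (hN : N ≠ 0) (h : ∀ φ ∈ CF ⊤, ∑ x ∈ elts (Invs G), φ x = N * φ t) :
    ∃ (B : ZIrr (⊤ : Subgroup G) →+ ZIrr (⊤ : Subgroup G) →+ ℤ) (d : ZIrr (⊤ : Subgroup G) →+ ℤ)
      (e f : ZIrr (⊤ : Subgroup G) →+ ℂ), Lat B d e f ∧ (∀ x y, (B x y : ℂ) = ⟪x.1, y.1⟫[⊤]) ∧
      (∀ x, (d x : ℂ) = x.1 1) ∧ (∀ x, e x = x.1 t) ∧ ∀ x, f x = invSum x.1 / N ^ 2 := by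
  choose b hb using fun x y : ZIrr (⊤ : Subgroup G) => Cint_cfdot_vchar x.2 y.2
  choose d hd using fun x : ZIrr (⊤ : Subgroup G) => Cint_vchar1 x.2
  have inj := Int.cast_injective (α := ℂ)
  have h1 : ∀ x, b x x = 1 → IsDirr ⊤ x.1 := fun x e =>
    vchar_norm1P x.2 (cfnorm_eq_one_iff.2 (by rw [hb, e, Int.cast_one]))
  have h2 : ∀ x, cfnorm ⊤ x.1 = b x x := fun x => cfnorm_eq_of_cfdot (by rw [hb]; simp)
  refine ⟨.mk' (fun x => .mk' (b x) fun y z => inj (by simp [← hb, cfdotDr])) fun x y =>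
    AddMonoidHom.ext fun z => inj (by simp [← hb, cfdotDl]), .mk' d fun x y => inj (by simp [← hd]),
    .mk' (fun x => x.1 t) fun x y => rfl, .mk' (fun x => invSum x.1 / N ^ 2) fun x y => by
      simp [invSum_add, add_div], ⟨fun x y => inj ?_, fun x hx => ?_, fun x h3 h4 => ?_,
      fun x hx e => ?_, fun x hx => ?_⟩, fun x y => (hb x y).symm, fun x => (hd x).symm,
      fun x => rfl, fun x => rfl⟩ <;> simp only [AddMonoidHom.mk'_apply] at *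
  · rw [← hb, ← hb, cfdot_vchar_comm x.2 y.2]
  · exact_mod_cast h2 x ▸ cfnorm_gt0 (vchar_mem_CF x.2) fun e => hx (Subtype.ext e)
  · obtain ⟨S, h5, h6, h7, h8⟩ := vchar_small_norm x.2 (by rw [h2]; exact_mod_cast h4)
    obtain ⟨y, hy⟩ : S.Nonempty := Finset.card_pos.1 (by
      rw [← Nat.cast_pos (α := ℝ), h7, h2]; exact_mod_cast h3)
    exact ⟨⟨y, (h6 y hy).vchar⟩, inj (by rw [← hb, (h6 y hy).cfdot_self, Int.cast_one]), inj (by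
      rw [← hb, h8, h5.cfdot_sum_subset subset_rfl hy, if_pos hy, Int.cast_one])⟩
  · exact (h1 x hx).one_ne_zero (by rw [hd, e, Int.cast_zero])
  · have := invSum_dirr (h1 x hx)
    have h3 := (h1 x hx).one_ne_zero
    rw [h _ (vchar_mem_CF x.2)] at this
    rw [← hd]; field_simp; linear_combination this

theorem invSum_eq {N : ℂ} (h : ∀ φ ∈ CF ⊤, ∑ x ∈ elts (Invs G), φ x = N * φ t) (hφ : φ ∈ CF ⊤) :
    invSum φ = N ^ 2 * ∑ χ ∈ Irr ⊤, ⟪φ, χ⟫[⊤] * (χ t * χ t / χ 1) := by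
  conv_lhs => rw [cfun_sum_cfdot hφ]
  rw [SEA.invSum_sum, Finset.mul_sum]
  refine Finset.sum_congr rfl fun χ hχ => ?_
  have h1 := invSum_dirr (mem_Irr.1 hχ).isDirr
  have h2 := irr1_neq0 (mem_Irr.1 hχ)
  rw [h _ (mem_Irr.1 hχ).mem_CF] at h1
  rw [SEA.invSum_smul]; field_simp; linear_combination ⟪φ, χ⟫[⊤] * h1

theorem main (h : Loc t v s K T k) (hT : Tor L T (2 * k)) (hΘ : Th t L r k Q Θ)
    (hc : ∀ a : G, a ≠ 1 → a * a = 1 → ∃ g, g * t * g⁻¹ = a) (hQ : Q + 1 = 2 * n) (h11 : 11 ≤ |Q|)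
    (hn : n - 1 = 2 * k ∨ n - 1 = -(2 * k)) (hC : (♯𝐂[t] : ℤ) = 4 * k * Q * (Q + 1)) :
    𝐂[t].index = Q ^ 2 * (Q ^ 2 + Q + 1) ∧ ∃ X, 3 * X ^ 2 = -Q * (Q ^ 2 - 1) ^ 2 := by
  obtain ⟨l, hl, hk⟩ := Nat.exists_prime_and_dvd (show k ≠ 1 by
    rcases abs_choice Q with e | e <;> omega)
  haveI := Fact.mk hl
  obtain ⟨θ, hθ, hθ1, hθ2⟩ := h.exists_theta hk
  obtain ⟨ν, hν, hν1, hν2, hν3⟩ := h.exists_nu
  have hN : (𝐂[t].index : ℂ) ≠ 0 := Nat.cast_ne_zero.2 index_ne_zero_of_finite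
  have hI := fun φ => sum_invs (φ := φ) h.t1 h.t2 hc
  obtain ⟨B, d, e, f, hL, hB, hd, he, hf⟩ := exists_lat hN hI
  have inj := Int.cast_injective (α := ℂ)
  have h1 := isLinChar_cf1 K
  have h2 : Op' 2 K ≤ cfker K (cf1 K) := by rw [cfker_cf1]; exact Opi_le _ _
  have h3 : ⟪ν, cf1 K⟫[K] = 0 := hν.isIrr.cfdot_cf1 fun e => by
    rw [e, cf1E h.vK] at hν3; norm_num at hν3
  have hW : ∀ μ, IsLinChar K μ → W K θ μ ∈ ZIrr ⊤ := fun μ hμ =>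
    cfInd_vchar le_top (sub_mem (char_vchar hμ.isChar) (char_vchar (hμ.mul hθ).isChar))
  have hO : ∀ x ∈ Op' 2 K, x ∈ T ∧ Odd (orderOf x) := fun x hx =>
    have := Nat.not_even_iff_odd.1 fun e => (mem_Op' h.ab 2 (Opi_le _ _ hx)).1 hx e.two_dvd
    ⟨h.mem x (Opi_le _ _ hx) this, this⟩
  have hD : ∀ x, B x x = 1 → IsIrr ⊤ x.1 ∨ IsIrr ⊤ (-x).1 := fun x e =>
    vchar_norm1P x.2 (cfnorm_eq_one_iff.2 (by rw [← hB, e, Int.cast_one]))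
  let ϑ : Fin 3 → ZIrr (⊤ : Subgroup G) := fun j => ⟨Θ j, hΘ.vchar j⟩
  have hD' : ∀ x, B x x = 1 → B x (ϑ 0) ≠ 0 ∨ B x (ϑ 1) ≠ 0 ∨ B x (ϑ 2) ≠ 0 →
      x.1 ∈ B0 2 ⊤ ∨ (-x).1 ∈ B0 2 ⊤ := fun x e e' => by
    obtain ⟨j, hj⟩ : ∃ j, B x (ϑ j) ≠ 0 := by rcases e' with e' | e' | e' <;> exact ⟨_, e'⟩
    exact (hD x e).imp (fun h => hΘ.blk j _ h (by rw [← hB x (ϑ j)]; exact_mod_cast hj)) fun h =>
      hΘ.blk j _ h (by rw [← hB (-x) (ϑ j)]; simpa using hj)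
  have hdis : ∀ χ, IsIrr ⊤ χ → ⟪W K θ ν, χ⟫[⊤] = 0 ∨ ⟪W K θ (cf1 K), χ⟫[⊤] = 0 := fun χ hχ =>
    (em _).imp (h.v_dot hk hθ hθ1 hν hν3) (h.V_dot hk hθ hθ1 h1 hχ)
  have hn' : ((Q : ℂ) + 1) / 2 = n := by
    rw [div_eq_iff two_ne_zero, mul_comm]; exact_mod_cast hQ
  have hv := fun j c hc => h.W_dot' hk hθ hθ1 hν hθ2 hν1 (c := c) (vchar_mem_CF (hΘ.vchar j)) hc
    (hΘ.odd j)
  have hV := fun j c hc => h.W_dot' hk hθ hθ1 h1 hθ2 h2 (c := c) (vchar_mem_CF (hΘ.vchar j)) hc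
    (hΘ.odd j)
  have hK := fun x hx x1 => hΘ.valK T hT x (hO x hx).1 x1 (hO x hx).2
  have hS := syl_Op_of_nil l (nil_of_ab h.ab)
  have hm := card_mul_relIndex (Op_le_Op' (p := 2) (h.l2 hk) K)
  have C : Cfg B d e f Q n 𝐂[t].index ♯(Op l K) ⟨_, cf1_vchar ⊤⟩ (ϑ 0) (ϑ 1) (ϑ 2) ⟨_, hW ν hν⟩
      ⟨_, hW _ h1⟩ := by
    refine ⟨hL, hQ, h11, inj ?_, inj ?_, ?_, ⟨inj ?_, inj ?_, inj ?_, inj ?_, inj ?_, inj ?_⟩,
      ⟨inj ?_, inj ?_, inj ?_⟩, ⟨inj ?_, inj ?_, inj ?_⟩, by simpa only [he] using hΘ.val, ?_,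
      fun x hx e => ?_, ⟨inj ?_, inj ?_⟩, ⟨?_, ?_⟩, ⟨?_, ?_⟩, ⟨inj ?_, inj ?_, inj ?_, inj ?_⟩,
      ⟨inj ?_, inj ?_, inj ?_, inj ?_⟩, fun x hx => ?_, fun x hx e => ?_, fun x hx e e' => ?_⟩
    · simp [hB, cfdot_cf1]
    · simp [hd]
    · exact (he _).trans (cf1E (mem_top t))
    iterate 6 simp [hB, ϑ, hΘ.dot]
    iterate 3 simp [hB, ϑ, cfdot_vchar_comm (cf1_vchar ⊤) (hΘ.vchar _), hΘ.one]
    iterate 3 simp [hd, ϑ, hΘ.odd]
    · simp only [hf, ϑ, invSum_eq hI (vchar_mem_CF (hΘ.vchar _)), mul_div_cancel_left₀ _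
        (pow_ne_zero 2 hN), Int.cast_natCast]
      exact ⟨hΘ.pair0, hΘ.pair 1 (by decide), hΘ.pair 2 (by decide)⟩
    · rcases hD' x hx e with h4 | h4 <;> have := hΘ.at_t _ h4
      · rwa [he, hB, hB, hB, ← hn']
      · rw [← he, ← hB _ (ϑ 0), ← hB _ (ϑ 1), ← hB _ (ϑ 2), hn'] at this
        simp only [map_neg, AddMonoidHom.neg_apply, Int.cast_neg] at this
        linear_combination -this
    · simpa [hd] using h.W_apply hk hθ hθ1 hν (mul_one 1)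
    · simpa [hd] using h.W_apply hk hθ hθ1 h1 (mul_one 1)
    · exact (he _).trans (h.W_apply hk hθ hθ1 hν h.t2)
    · exact (he _).trans (h.W_apply hk hθ hθ1 h1 h.t2)
    · simp [hf, h.W_invSum hk hθ hθ1 hν hθ2 hν1, h3]
    · have h4 : (♯𝐂[t] : ℂ) = 4 * k * Q * (Q + 1) := by exact_mod_cast hC
      have h5 : ((Q : ℂ) - 1) ^ 2 = 16 * k ^ 2 := by
        norm_cast; rw [show Q - 1 = 2 * (n - 1) by omega]; rcases hn with e | e <;> rw [e] <;> push_cast <;> ring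
      rw [hf, h.W_invSum hk hθ hθ1 h1 hθ2 h2, cfdot_cf1, ← 𝐂[t].card_mul_index, h.card, h5]
      push_cast
      rw [h4]; field_simp; ring
    · rw [hB, h.W_norm hk hθ hθ1 hν hθ2 hν1, h.inertia_nu hν hν1 hν2 hν3, h.relIndex_NC]; norm_num
    · rw [hB, h.W_norm hk hθ hθ1 h1 hθ2 h2, inertia_cf1 le_rfl, h.relIndex_N]; norm_num
    · rw [hB, Int.cast_zero]
      by_contra e
      obtain ⟨χ, hχ, h4, h5⟩ := exists_common_constt (vchar_mem_CF (hW ν hν)) e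
      exact (hdis χ hχ).elim h4 h5
    · simpa [hB] using cfdot_symm0 (h.v_dot hk hθ hθ1 hν hν3 cf1_mem_B0)
    · simpa [hB, h3] using hv 0 0 fun x hx x1 => (hK x hx x1).1
    · rw [hB, hv 1 4 fun x hx x1 => (hK x hx x1).2.1, h3, map_ofNat]; norm_num
    · rw [hB, hv 2 4 fun x hx x1 => (hK x hx x1).2.2, h3, map_ofNat]; norm_num
    · push_cast
      rw [hB, hB, hB, hV 0 0 fun x hx x1 => (hK x hx x1).1, hV 1 4 fun x hx x1 => (hK x hx x1).2.1,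
        hV 2 4 fun x hx x1 => (hK x hx x1).2.2, cfdot_cf1, map_ofNat]; norm_num
    · rw [hL.symm x, hL.symm x, ← Int.cast_eq_zero (α := ℂ), ← Int.cast_eq_zero (α := ℂ), hB, hB]
      exact (hD x hx).elim (hdis _) fun h4 => by simpa [cfdotNr] using hdis _ h4
    · have key : ∀ x, x.1 ∈ B0 2 ⊤ → B x ⟨_, hW _ h1⟩ - B x ⟨_, hW ν hν⟩ =
          B x (ϑ 1) + B x (ϑ 2) - B x (ϑ 0) := fun x h4 => inj (by
        have h5 := fun y hy y1 => hΘ.atK _ h4 T hT y (hO y hy).1 y1 (hO y hy).2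
        rw [← hB _ (ϑ 0), ← hB _ (ϑ 1), ← hB _ (ϑ 2)] at h5
        rw [Int.cast_sub, hL.symm x, hL.symm x, hB, hB, h.W_dot hk hθ hθ1 h1 hθ2 h2 (vchar_mem_CF x.2) h5,
          h.W_dot hk hθ hθ1 hν hθ2 hν1 (vchar_mem_CF x.2) h5, cfdot_cf1, h3]
        simp)
      refine (hD' x hx e).elim (key x) fun h4 => ?_
      have := key _ h4
      simp only [map_neg, AddMonoidHom.neg_apply] at this
      omega
    · have key : ∀ x, x.1 ∈ B0 2 ⊤ → B x ⟨_, hW _ h1⟩ ≠ 0 → (♯(Op l K) : ℤ) ∣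
          d x - (B x (ϑ 1) + B x (ϑ 2) - B x (ϑ 0)) := fun x h4 h5 => by
        obtain ⟨z, hz⟩ := h.cong hk (χ := x.1) (by
          by_contra h6
          exact h5 (inj (by simpa [hL.symm x, hB] using h.V_dot hk hθ hθ1 h1 (isIrr_of_mem_B0 h4) h6)))
          fun y hy y1 => hΘ.atK _ h4 T hT y (hO y hy).1 y1 (hO y hy).2
        rw [← hB _ (ϑ 0), ← hB _ (ϑ 1), ← hB _ (ϑ 2), ← hd] at hz
        exact ⟨z - (B x (ϑ 1) + B x (ϑ 2) - B x (ϑ 0)), by exact_mod_cast hz⟩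
      refine (hD' x hx (.inr (.inl e))).elim (key x · e') fun h4 => ?_
      have := key _ h4 (by simpa using e')
      simp only [map_neg, AddMonoidHom.neg_apply] at this
      exact (dvd_neg.2 this).trans (dvd_of_eq (by ring))
  have h4 : ¬ (l : ℤ) ∣ 2 := fun e => h.l2 hk ((Nat.prime_dvd_prime_iff_eq hl Nat.prime_two).1
    (by exact_mod_cast e))
  have h5 : ¬ (l : ℤ) ∣ 2 * ((Op l K).relIndex (Op' 2 K) : ℤ) := fun e =>
    ((Nat.prime_iff_prime_int.1 hl).dvd_or_dvd e).elim h4 fun e => hS.not_dvd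
      ((Int.natCast_dvd_natCast.1 e).trans ⟨_, (relIndex_mul_relIndex _ _ _
        (Op_le_Op' (p := 2) (h.l2 hk) K) (Opi_le _ _)).symm⟩)
  have h6 : (l : ℤ) ∣ ♯(Op l K) := Int.natCast_dvd_natCast.2 (hS.dvd_card_iff.2 (h.card ▸ hk.mul_left 4))
  rw [h.card_O] at hm
  have h7 : (♯(Op l K) : ℤ) ≠ 0 := Nat.cast_ne_zero.2 (card_pos' _).ne'
  rcases hn with e | e
  · exact C.main (by rw [e, ← hm]; push_cast; ring) (Nat.prime_iff_prime_int.1 hl) h4 h6 h5 h7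
  · exact C.main (by rw [e, ← hm]; push_cast; ring) (Nat.prime_iff_prime_int.1 hl) h4 h6
      (fun e => h5 (dvd_neg.1 e)) h7

end C2

theorem ch2 : CH2.{u} := by
  intro G _ _ t H L S P T p q r k Θ F h5 h0 hΘ
  obtain ⟨h1, v, s, K, T', hT, h⟩ := C2.exists_loc F h5 h0
  obtain ⟨hr, ⟨j, hk⟩, hq⟩ := F.par
  rw [F.card] at h1
  rcases hq with ⟨h2, h3⟩ | ⟨h2, h3⟩
  · rw [if_pos (by omega)] at hΘ
    obtain ⟨-, X, e⟩ := C2.main (n := r) h hT hΘ F.conj (by omega) (by rw [Nat.abs_cast]; omega)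
      (by omega) (by rw [h1, show (q : ℤ) + 1 = 2 * r by omega]; push_cast; ring)
    have : (0 : ℤ) < q * (q ^ 2 - 1) ^ 2 := mul_pos (by omega) (pow_pos (by nlinarith) 2)
    nlinarith [sq_nonneg X]
  · rw [if_neg (by omega)] at hΘ
    obtain ⟨e', X, e⟩ := C2.main (n := -r) h hT hΘ F.conj (by omega)
      (by rw [abs_neg, Nat.abs_cast]; omega) (by omega)
      (by rw [h1, show -(q : ℤ) + 1 = -(2 * r) by omega]; push_cast; ring)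
    obtain ⟨f, hf, h4⟩ := F.pow
    refine ⟨C2.eq_three F.prime hf (Y := (-q) ^ 2 - 1) (by nlinarith) (by
      rw [e, neg_neg, ← Nat.cast_pow, ← h4]), Nat.cast_injective (R := ℤ) ?_⟩
    rw [← 𝐂[t].card_mul_index, h1]
    push_cast [show 1 ≤ q by omega]
    rw [e', show (q : ℤ) - 1 = 2 * r by omega]
    have : (q : ℤ) + 1 = 4 * k := by omega
    linear_combination -(2 * r * q ^ 3 * (q ^ 2 - q + 1)) * this

end Cfsg.Agent.JR
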