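import Cfsg.Agent.Lib.JR.CH2Loc
import Cfsg.Agent.Lib.ZG.SDChar
import Cfsg.Agent.Lib.SEA.Four

/-!
# The virtual characters `(μ (1 - θ))^G`
-/

set_option autoImplicit false
set_option linter.unusedSectionVars false

namespace Cfsg.Agent.JR.C2

open Subgroup Cfsg.Agent.OO Cfsg.Agent.Coprime Cfsg.Agent.Blk Cfsg.Agent.ODD
open scoped Pointwise ComplexConjugate

universe u

variable {G : Type u} [Group G] [Finite G] {g s t u v x y : G} {K T : Subgroup G} {k l : ℕ}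
  {θ μ ν φ χ : G → ℂ} {c : ℂ}

theorem mem_Op' (h : Ab K) (p : ℕ) [hp : Fact p.Prime] (hy : y ∈ K) :
    y ∈ Op' p K ↔ ¬ p ∣ orderOf y :=
  ((hall_Opi_of_nil _ (nil_of_ab h)).mem_iff_of_normal (Opi_normal _ _).norm hy).trans
    (isPiNum_compl_singleton hp.1)

/-- the induced virtual character -/
noncomputable def W (K : Subgroup G) (θ μ : G → ℂ) : G → ℂ := cfInd ⊤ K (μ - μ * θ)

namespace Loc

variable (h : Loc t v s K T k)
include h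

theorem card_O : ♯(Op' 2 K) = k := by
  have := h.odd.pos
  rw [(hall_Opi_of_nil _ (nil_of_ab h.ab)).card_eq_partn, h.card]
  exact partn_eq_of_mul ((isPiNum_compl_singleton Nat.prime_two).2 h.odd.not_two_dvd_nat)
    (isPiNum_singleton_pow Nat.prime_two 2).compl_compl (by omega) (by ring)

theorem sq_ne (x1 : x ≠ 1) (hx : ¬ 2 ∣ orderOf x) : x * x ≠ 1 := fun e =>
  hx (by rw [orderOf_two x1 e])

theorem ti (hx : x ∈ K) (x2 : x * x ≠ 1) : NormedTI {y | y ∈ K ∧ y * y ≠ 1} ⊤ 𝐍(K) :=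
  ⟨⟨x, hx, x2⟩, le_top, fun g hg a ha => ⟨conj_mem_of_norm hg ha.1, by
    rw [conj_mul, Ne, conj_eq_one_iff]; exact ha.2⟩, fun g _ a ha h' => by
    rw [← conj_eq_self_iff]
    nth_rw 1 [← h.cent a ha.1 ha.2]
    rw [← cent1_conj, h.cent _ h'.1 h'.2]⟩

theorem le_NC : K ≤ 𝐍(K) ⊓ 𝐂[t] := le_inf (le_norm_self K) (le_cent1_iff.2 (h.ab.le_cent h.tK))

theorem relIndex_NC : K.relIndex (𝐍(K) ⊓ 𝐂[t]) = 2 :=
  Nat.eq_of_mul_eq_mul_left (card_pos' K) (by rw [card_mul_relIndex h.le_NC, h.card_NC, mul_comm])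

theorem vt1 : v * t ≠ 1 := fun e => h.vt (mul_right_cancel (e.trans h.t2.symm))

theorem vt2 : v * t * (v * t) = 1 := by
  rw [mul_assoc, ← mul_assoc t, ab_iff.1 h.ab t h.tK v h.vK, mul_assoc, h.t2, mul_one, h.v2]

theorem relIndex_N : K.relIndex 𝐍(K) = 6 := by
  classical
  have := SEA.sum_conj (X := ({t, v, v * t} : Finset G)) (L := 𝐍(K)) (s := t) (fun y => ⟨fun hy => by
    simp only [Finset.coe_insert, Finset.coe_singleton, Set.mem_insert_iff, Set.mem_singleton_iff] at hy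
    rcases hy with rfl | rfl | rfl
    · exact ⟨1, one_mem _, by simp⟩
    · exact h.conj _ h.vK h.v1 h.v2
    · exact h.conj _ (mul_mem h.vK h.tK) h.vt1 h.vt2, fun ⟨g, hg, e⟩ => by
      simpa [← e, h.t1] using h.inv _ (conj_mem_of_norm hg h.tK) (by rw [conj_mul, h.t2]; simp)⟩)
    fun _ => 1
  rw [Finset.sum_const, Finset.sum_const, card_elts, card_elts_set, Set.ncard_coe_finset,
    Finset.card_eq_three.2 ⟨_, _, _, h.vt.symm, by simpa using h.v1, by simpa using h.t1, rfl⟩,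
    h.card_NC, ← card_mul_relIndex (le_norm_self K)] at this
  refine Nat.eq_of_mul_eq_mul_left (card_pos' K) (Nat.cast_injective (R := ℂ) ?_)
  simp only [nsmul_eq_mul] at this
  push_cast at this ⊢
  linear_combination this

theorem mem_NC (hg : g ∈ 𝐍(K) ⊓ 𝐂[t]) : g ∈ K ∨ s * g ∈ K := by
  have hs : s ∈ 𝐍(K) ⊓ 𝐂[t] := ⟨mem_norm_of_conj_mem fun y hy => h.sinv y hy ▸ inv_mem hy,
    mem_cent1_iff_conj.2 ((h.sinv t h.tK).trans (inv_eq_of_mul_eq_one_right h.t2))⟩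
  have := (mul_mem_iff_of_index_two (H := K.subgroupOf (𝐍(K) ⊓ 𝐂[t])) h.relIndex_NC
    (a := ⟨s, hs⟩) (b := ⟨g, hg⟩)).2
  simp only [mem_subgroupOf, coe_mul, h.sK, false_iff] at this
  exact (em _).imp_right this

theorem exists_nu : ∃ ν, IsLinChar K ν ∧ Op' 2 K ≤ cfker K ν ∧ ν t = 1 ∧ ν v = -1 := by
  have h1 : zpowers t ⊔ Op' 2 K ≤ K := sup_le (zpowers_le.2 h.tK) (Opi_le _ _)
  obtain ⟨ν, hν, h2, h3⟩ := exists_lin_char_cfker (normalIn_of_ab h.ab h1)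
    (ab_iff_der.1 h.ab ▸ bot_le) (x := v) fun e => by
      obtain ⟨a, ha, b, hb, e⟩ := (mem_sup_norm_right (le_norm_of_ab h.ab (Opi_le _ _) |>.trans'
        (zpowers_le.2 h.tK))).1 e
      have hb' := (mem_Op' h.ab 2 (Opi_le _ _ hb)).1 hb
      obtain ⟨i, rfl⟩ := mem_zpowers_iff.1 ha
      have : ∀ j : ℤ, t ^ (2 * j) = 1 := fun j => by rw [zpow_mul, zpow_two, h.t2, one_zpow]
      obtain ⟨j, rfl | rfl⟩ := Int.even_or_odd' i
      · rw [this, one_mul] at e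
        exact h.sq_ne (e ▸ h.v1) hb' (e ▸ h.v2)
      · rw [zpow_add, this, one_mul, zpow_one] at e
        have e' : b = v * t := by
          rw [← e, ab_iff.1 h.ab t h.tK b (Opi_le _ _ hb), mul_assoc, h.t2, mul_one]
        exact h.sq_ne (e' ▸ h.vt1) hb' (e' ▸ h.vt2)
  exact ⟨ν, hν, le_sup_right.trans h2, (mem_cfker_lin hν).1 (h2 (mem_sup_left (mem_zpowers t))),
    (mul_self_eq_one_iff.1 (by rw [← lin_charM hν h.vK h.vK, h.v2, hν.one])).resolve_left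
      (mt (mem_cfker_lin hν).2 h3)⟩

theorem inertia_nu (hν : IsLinChar K ν) (h1 : Op' 2 K ≤ cfker K ν) (h2 : ν t = 1) (h3 : ν v = -1) :
    inertia 𝐍(K) ν = 𝐍(K) ⊓ 𝐂[t] := by
  refine le_antisymm (fun g hg => ?_) fun g hg => ?_
  · refine ⟨inertia_le _ _ hg, mem_cent1_iff_conj.2 ?_⟩
    have e := (inertia_valJ hg t).trans h2
    rcases h.inv _ (conj_mem_of_norm (inertia_le _ _ hg) h.tK) (by rw [conj_mul, h.t2]; simp)
      with e' | e' | e' | e'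
    · exact (h.t1 (conj_eq_one_iff.1 e')).elim
    · exact e'
    · rw [e', h3] at e; norm_num at e
    · rw [e', lin_charM hν h.vK h.tK, h3, h2] at e; norm_num at e
  · have hs : s ∈ inertia 𝐍(K) ν := by
      have hs : s ∈ 𝐍(K) := mem_norm_of_conj_mem fun y hy => h.sinv y hy ▸ inv_mem hy
      refine (mem_inertia_lin hν hs hs).2 fun y hy => h1 ?_
      rw [h.sinv y hy, ← mul_inv_rev, inv_mem_iff, mem_Op' h.ab 2 (mul_mem hy hy)]
      obtain ⟨a, b, ⟨j, ha⟩, hb, hc, h4, -, rfl⟩ := R1.exists_decomp Nat.prime_two y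
      rw [← pow_two, hc.mul_pow, pow_two a, h.two a (zpowers_le.2 hy h4) j ha, one_mul]
      exact fun e => hb (e.trans (orderOf_pow_dvd 2))
    have hK := sub_inertia (le_norm_self K) hν.mem_CF
    exact (h.mem_NC hg).elim (fun e => hK e) fun e => (mul_mem_cancel_left hs).1 (hK e)

/-- elements of even order which are not involutions -/
theorem apply_even (hφ : φ ∈ CF ⊤) (hc : ∀ x ∈ Op' 2 K, x ≠ 1 → φ (t * x) = c) (hy : y ∈ K)
    (y2 : y * y ≠ 1) (h1 : y ∉ Op' 2 K) : φ y = c := by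
  obtain ⟨a, b, ⟨j, ha⟩, hb, -, h4, h5, rfl⟩ := R1.exists_decomp Nat.prime_two y
  have hb' := (mem_Op' h.ab 2 (zpowers_le.2 hy h5)).2 hb
  have a2 := h.two a (zpowers_le.2 hy h4) j ha
  obtain ⟨g, hg, rfl⟩ := h.conj a (zpowers_le.2 hy h4) (fun e => h1 (by rwa [e, one_mul])) a2
  rw [← hc _ (conj_mem_of_norm' (norm_le_norm_Opi _ _ hg) hb') fun e => y2 (by
    rw [show b = g * (g⁻¹ * b * g) * g⁻¹ by group, e]; simpa using a2), ← cfunJ hφ (mem_top g) (t * _)]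
  congr 1; group

theorem sum_pair {f : G → ℂ} (hf : f ∈ CFon K {y | y ∈ K ∧ y * y ≠ 1}) :
    ∑ u ∈ elts (Invs G), ∑ w ∈ elts (Invs G), f (u * w) = ♯K * ∑ y ∈ elts (K : Set G), f y := by
  classical
  have e1 : ∀ u ∈ elts (Invs G), ∑ w ∈ elts (Invs G), f (u * w) =
      ∑ y ∈ elts (K : Set G), (Invs G).indicator (1 : G → ℂ) (u * y) * f y := fun u hu => by
    rw [← sum_indicator_invs, ← sum_elts_mul_left (mem_top u), sum_elts_subset (A := (K : Set G))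
      (B := ((⊤ : Subgroup G) : Set G)) (fun x _ => mem_top x) fun x _ hx => by
        rw [cfun0 hf.1 hx, mul_zero]]
    exact Finset.sum_congr rfl fun y _ => by rw [← mul_assoc, (mem_elts.1 hu).2, one_mul]
  rw [Finset.sum_congr rfl e1, Finset.sum_comm, Finset.mul_sum]
  refine Finset.sum_congr rfl fun y hy => ?_
  by_cases y2 : y * y = 1
  · simp [cfun_on0 hf fun e => e.2 y2]
  have hy := mem_elts.1 hy
  have k1 : ∀ u ∈ K, s * u ∈ Invs G := fun u hu => ⟨fun e => h.sK ((mul_mem_cancel_right hu).1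
    (e ▸ one_mem K)), by
      rw [show s * u * (s * u) = s * u * s⁻¹ * (s * s) * u by group, h.sinv u hu, h.s2]; group⟩
  rw [← Finset.sum_mul, ← sum_indicator_invs, ← sum_elts_mul_left (mem_top s), ← sum_elts_subset
    (A := (K : Set G)) (fun x _ => mem_top x) fun u _ hu => ?_, Finset.sum_congr rfl
      (g := fun _ => 1) fun u hu => ?_, sum_elts_const, nsmul_eq_mul, mul_one]
  · rw [Set.indicator_of_mem (k1 u (mem_elts.1 hu)), mul_assoc s,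
      Set.indicator_of_mem (k1 _ (mul_mem (mem_elts.1 hu) hy))]; simp
  · by_contra e
    obtain ⟨e1, e2⟩ := mul_ne_zero_iff.1 e
    have e3 := (Set.mem_of_indicator_ne_zero e1).2
    have e4 := (Set.mem_of_indicator_ne_zero e2).2
    refine hu (h.cent y hy y2 ▸ mem_cent1_iff_conj.2 ?_)
    have e5 : s * u * y * (s * u)⁻¹ = s * y * s⁻¹ := by
      rw [inv_eq_of_mul_eq_one_right e3, h.sinv y hy, eq_inv_iff_mul_eq_one, mul_assoc, e4]
    rw [show u * y * u⁻¹ = s⁻¹ * (s * u * y * (s * u)⁻¹) * s by group, e5]; group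

variable [hl : Fact l.Prime] (hk : l ∣ k)
include hk

theorem l2 : l ≠ 2 := fun e => h.odd.not_two_dvd_nat (e ▸ hk)

theorem sq_ne' (hy : l ∣ orderOf y) : y * y ≠ 1 := fun e => h.l2 hk
  ((Nat.prime_dvd_prime_iff_eq hl.1 Nat.prime_two).1
    (hy.trans (orderOf_dvd_of_pow_eq_one (by rwa [pow_two]))))

theorem exists_theta : ∃ θ, IsLinChar K θ ∧ Op' l K ≤ cfker K θ ∧ ¬ Op' 2 K ≤ cfker K θ := by
  obtain ⟨x, hx, e⟩ := cauchy hl.1 (h.card_O ▸ hk : l ∣ ♯(Op' 2 K))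
  obtain ⟨θ, h1, h2, h3⟩ := exists_lin_char_cfker (Opi_normal ({l} : Set ℕ)ᶜ K)
    (ab_iff_der.1 h.ab ▸ bot_le) (x := x) fun e' => (mem_Op' h.ab l (Opi_le _ _ hx)).1 e' e.symm.dvd
  exact ⟨θ, h1, h2, fun e => h3 (e hx)⟩

theorem prB_eq (hφ : φ ∈ CF ⊤) (hy : y ∈ K) (h1 : l ∣ orderOf y) : prB l K φ y = prB l ⊤ φ y := by
  obtain ⟨a, b, ⟨j, ha⟩, hb, hc, h4, -, rfl⟩ := R1.exists_decomp hl.1 y
  refine prB_of_cent_le le_top (zpowers_le.2 hy h4) ha (inf_le_right.trans (h.cent a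
    (zpowers_le.2 hy h4) (h.sq_ne' hk ?_)).le) ⟨⟨mem_top b, mem_cent1.2 hc.symm⟩, hb⟩ hφ
  obtain ⟨_ | i, -, e⟩ := (Nat.dvd_prime_pow hl.1).1 (orderOf_dvd_of_pow_eq_one ha)
  · rw [pow_zero, orderOf_eq_one_iff] at e
    exact (hb (by simpa [e] using h1)).elim
  · exact e ▸ dvd_pow_self l i.succ_ne_zero

/-- degrees modulo the `l`-part of `k` -/
theorem cong (hχ : χ ∈ B0 l ⊤) (hc : ∀ x ∈ Op' 2 K, x ≠ 1 → χ (t * x) = c) :
    ∃ d : ℤ, χ 1 - c = ♯(Op l K) * (d - c) := by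
  have h1 := isIrr_of_mem_B0 hχ
  obtain ⟨d, hd⟩ := Cint_cfdot_vchar (cfRes_vchar (le_top (a := Op l K)) (irr_vchar h1)) (cf1_vchar _)
  refine ⟨d, ?_⟩
  have h2 := SEA.sum_sharp (Op l K) fun y => χ y - c
  rw [Finset.sum_eq_zero fun y hy => ?_, Finset.sum_sub_distrib, sum_elts_const] at h2
  · rw [← hd, cfdot_cfRes_left, cfdot_cf1r, mul_sub, mul_inv_cancel_left₀ (cardC_ne_zero _)]
    rw [nsmul_eq_mul] at h2
    linear_combination h2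
  obtain ⟨hy, y1⟩ := mem_sharp.1 (mem_elts.1 hy)
  have h3 := Op_le_Op' (p := 2) (h.l2 hk) K hy
  have h4 := Opi_le _ _ h3
  have h5 := h.cent y h4 (h.sq_ne y1 ((mem_Op' h.ab 2 h4).1 h3))
  obtain ⟨j, hj⟩ := Op_isPGroup l K ⟨y, hy⟩
  rw [← hc y h3 y1, ← ab_iff.1 h.ab y h4 t h.tK, apply_mul_eq_of_mem_B0 hχ (mem_top y) (k := j)
    (by simpa using congrArg Subtype.val hj) (N := Op' l K) (by rw [top_inf_eq, h5]; exact Opi_normal _ _)
    (not_dvd_Op' K) ((mem_Op' h.ab l h.tK).2 fun e => h.sq_ne' hk e h.t2), sub_self]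

variable (hθ : IsLinChar K θ) (hθ1 : Op' l K ≤ cfker K θ) (hμ : IsLinChar K μ)
include hθ hθ1 hμ

theorem on_reg (hy : ¬ l ∣ orderOf y) : (μ - μ * θ) y = 0 := by
  by_cases e : y ∈ K
  · rw [Pi.sub_apply, Pi.mul_apply, (mem_cfker_lin hθ).1 (hθ1 ((mem_Op' h.ab l e).2 hy)), mul_one,
      sub_self]
  · exact cfun0 (sub_mem hμ.mem_CF (hμ.mul hθ).mem_CF) e

theorem mem_on : μ - μ * θ ∈ CFon K {y | y ∈ K ∧ y * y ≠ 1} :=
  mem_CFon_of (sub_mem hμ.mem_CF (hμ.mul hθ).mem_CF) fun y hy h' =>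
    h.on_reg hk hθ hθ1 hμ fun e => h' ⟨hy, h.sq_ne' hk e⟩

theorem W_apply (hy : y * y = 1) : W K θ μ y = 0 := cfInd_eq_zero _ fun g _ =>
  h.on_reg hk hθ hθ1 hμ fun e => h.sq_ne' hk (orderOf_conj' g y ▸ e) hy

theorem W_prB (hφ : φ ∈ CF ⊤) : ⟪W K θ μ, prB l ⊤ φ⟫[⊤] = ⟪prB l K (μ - μ * θ), φ⟫[K] := by
  rw [W, cfdot_cfInd_left le_top (h.mem_on hk hθ hθ1 hμ).1.1 (prB_mem_CF φ), cfdot_prB, cfdotE, cfdotE]
  refine congrArg _ (Finset.sum_congr rfl fun y hy => ?_)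
  by_cases e : l ∣ orderOf y
  · rw [h.prB_eq hk hφ (mem_elts.1 hy) e]
  · rw [h.on_reg hk hθ hθ1 hμ e, zero_mul, zero_mul]

theorem V_dot (hχ : IsIrr ⊤ χ) (h1 : χ ∉ B0 l ⊤) : ⟪W K θ (cf1 K), χ⟫[⊤] = 0 := by
  have := h.W_prB hk hθ hθ1 (isLinChar_cf1 K) hχ.mem_CF
  rw [prB_of_not_mem hχ h1, cfdot0r, cf1_mul hθ.mem_CF, map_sub, prB_of_mem cf1_mem_B0,
    prB_of_mem (mem_B0.2 ⟨hθ.isIrr, ?_⟩)] at this
  · rw [W, cfdot_cfInd_left le_top (h.mem_on hk hθ hθ1 (isLinChar_cf1 K)).1.1 hχ.mem_CF,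
      cf1_mul hθ.mem_CF, this]
  · rw [Finset.sum_congr rfl (g := cf1 K) fun y hy => by
      rw [(mem_cfker_lin hθ).1 (hθ1 ((mem_Op' h.ab l (mem_elts.1 hy).1).2 (mem_elts.1 hy).2)),
        cf1E (mem_elts.1 hy).1]]
    exact (mem_B0.1 cf1_mem_B0).2

theorem v_dot (h1 : μ v = -1) (hχ : χ ∈ B0 l ⊤) : ⟪W K θ μ, χ⟫[⊤] = 0 := by
  have hv := (mem_Op' h.ab l h.vK).2 fun e => h.sq_ne' hk e h.v2
  have key : ∀ μ, IsLinChar K μ → μ v = -1 → prB l K μ = 0 := fun μ hμ e =>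
    prB_of_not_mem hμ.isIrr fun e' => by
      rw [(mem_cfker_lin hμ).1 (le_cfker_of_mem_B0 e' (Opi_normal _ _) (not_dvd_Op' K) hv)] at e
      norm_num at e
  rw [← prB_of_mem hχ, h.W_prB hk hθ hθ1 hμ (isIrr_of_mem_B0 hχ).mem_CF, map_sub, key μ hμ h1,
    key _ (hμ.mul hθ) (by rw [Pi.mul_apply, h1, (mem_cfker_lin hθ).1 (hθ1 hv), mul_one]), sub_zero,
    cfdot0l]

variable (hθ2 : ¬ Op' 2 K ≤ cfker K θ) (hμ1 : Op' 2 K ≤ cfker K μ)
include hθ2 hμ1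

theorem not_le : ¬ Op' 2 K ≤ cfker K (μ * θ) := fun e => hθ2 fun y hy => (mem_cfker_lin hθ).2 (by
  simpa [(mem_cfker_lin hμ).1 (hμ1 hy)] using (mem_cfker_lin (hμ.mul hθ)).1 (e hy))

theorem dot_one : ⟪μ - μ * θ, cf1 K⟫[K] = ⟪μ, cf1 K⟫[K] := by
  rw [cfdotBl, (hμ.mul hθ).isIrr.cfdot_cf1 fun e => h.not_le hk hθ hθ1 hμ hθ2 hμ1 (by
    rw [e, cfker_cf1]; exact Opi_le _ _), sub_zero]

theorem W_norm : ⟪W K θ μ, W K θ μ⟫[⊤] = K.relIndex (inertia 𝐍(K) μ) + 1 := by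
  have h1 := h.not_le hk hθ hθ1 hμ hθ2 hμ1
  have h2 := hμ.mul hθ
  have hN := normalIn_norm K
  have hO : 𝐍(K) ≤ 𝐍(Op' 2 K) := norm_le_norm_Opi _ _
  obtain ⟨x, hx, x1⟩ := exists_mem_ne_one (H := Op' 2 K) fun e => h1 (e ▸ bot_le)
  have hT := h.ti (Opi_le _ _ hx) (h.sq_ne x1 ((mem_Op' h.ab 2 (Opi_le _ _ hx)).1 hx))
  have h3 := cfInd_on_of_conj (φ := μ - μ * θ) K hT.conj_mem (h.mem_on hk hθ hθ1 hμ).2
  have h4 : inertia 𝐍(K) (μ * θ) = K := by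
    refine le_antisymm ((inertia_le_inertia_cfRes hO _).trans (inertia_le_of_fpf hO (fun g _ hg => ?_)
      (h2.cfRes (Opi_le _ _)).isIrr fun e => h1 fun y hy => (mem_cfker_lin h2).2 ?_))
      (sub_inertia (le_norm_self K) h2.mem_CF)
    · by_contra e
      obtain ⟨y, hy, y1⟩ := exists_mem_ne_one e
      exact hg (h.cent y (Opi_le _ _ hy.1) (h.sq_ne y1 ((mem_Op' h.ab 2 (Opi_le _ _ hy.1)).1 hy.1)) ▸
        mem_cent1_comm.1 hy.2)
    · rw [← cfResE (μ * θ) hy, e, cf1E hy]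
  have h5 := not_cfclass_Ind_ortho hN hμ.isIrr h2.isIrr fun e =>
    h1 ((le_cfker_cfclass le_rfl hO e).2 hμ1)
  rw [W, ← cfIndInd' (le_norm_self K) le_top (h.mem_on hk hθ hθ1 hμ).1, normedTI_isometry hT h3 h3,
    map_sub, cfdotBl, cfdotBr, cfdotBr, h5, cfdot_symm0 h5, cfnorm_Ind_irr hN hμ.isIrr,
    cfnorm_Ind_irr hN h2.isIrr, h4, relIndex_self]
  simp

theorem W_invSum : invSum (W K θ μ) = Nat.card G * ♯K * ⟪μ, cf1 K⟫[K] := by
  have := ZG.invSum_ind (h.mem_on hk hθ hθ1 hμ).1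
  rw [h.sum_pair (h.mem_on hk hθ hθ1 hμ)] at this
  rw [← h.dot_one hk hθ hθ1 hμ hθ2 hμ1, cfdot_cf1r, mul_assoc, mul_inv_cancel_left₀ (cardC_ne_zero K)]
  exact mul_right_cancel₀ (cardC_ne_zero K) (this.trans (by ring))

theorem W_dot (hφ : φ ∈ CF ⊤) (hc : ∀ x ∈ Op' 2 K, x ≠ 1 → φ (t * x) = c) :
    ⟪W K θ μ, φ⟫[⊤] = conj c * ⟪μ, cf1 K⟫[K] +
      (♯K : ℂ)⁻¹ * ∑ y ∈ elts (Op' 2 K : Set G), (1 - θ y) * conj (φ y - c) := by
  have h1 := h.mem_on hk hθ hθ1 hμ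
  rw [W, cfdot_cfInd_left le_top h1.1.1 hφ, ← h.dot_one hk hθ hθ1 hμ hθ2 hμ1, ← cfdotZr,
    ← sub_eq_iff_eq_add', ← cfdotBr, cfdotE, ← sum_elts_subset (A := (Op' 2 K : Set G)) (Opi_le _ _)
      fun y hy h2 => ?_]
  · refine congrArg _ (Finset.sum_congr rfl fun y hy => ?_)
    have hy := mem_elts.1 hy
    simp [(mem_cfker_lin hμ).1 (hμ1 hy), cf1E (Opi_le _ _ hy)]
  · by_cases y2 : y * y = 1
    · rw [cfun_on0 h1 fun e => e.2 y2, zero_mul]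
    · simp [h.apply_even hφ hc hy y2 h2, cf1E hy]

theorem W_dot' (hφ : φ ∈ CF ⊤) (hc : ∀ x ∈ Op' 2 K, x ≠ 1 → φ (t * x) = c)
    (h0 : ∀ x, Odd (orderOf x) → φ x = 0) : ⟪W K θ μ, φ⟫[⊤] = conj c * (⟪μ, cf1 K⟫[K] - 1 / 4) := by
  have : (k : ℂ) ≠ 0 := Nat.cast_ne_zero.2 h.odd.pos.ne'
  rw [h.W_dot hk hθ hθ1 hμ hθ2 hμ1 hφ hc, Finset.sum_congr rfl (g := fun y => (1 - θ y) * -conj c)
    fun y hy => by
      rw [h0 y (Nat.not_even_iff_odd.1 fun e => (mem_Op' h.ab 2 (Opi_le _ _ (mem_elts.1 hy))).1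
        (mem_elts.1 hy) e.two_dvd), zero_sub, map_neg], ← Finset.sum_mul, Finset.sum_sub_distrib,
    hθ.isIrr.sum_eq_zero_of_not_cfker (Opi_normal _ _) hθ2, sum_elts_const, h.card_O, h.card]
  simp only [nsmul_eq_mul]
  push_cast
  field_simp
  ring

end Loc

end Cfsg.Agent.JR.C2
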