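import Cfsg.Agent.Lib.JR.Hyp
import Cfsg.Agent.Lib.GW.Bender

/-!
# `N(ZL(P))` controls strong fusion in groups with abelian Sylow 2-subgroups
-/

set_option autoImplicit false
set_option linter.unusedSectionVars false

namespace Cfsg.Agent.JR.Gz

open Subgroup Cfsg.Agent.Coprime Cfsg.Agent.OO Cfsg.Agent.ZL
open Cfsg.Agent.OO.Pf (quo_puig)
open scoped Pointwise commutatorElement

universe u

variable {G : Type u} [Group G] [Finite G] {A D H K M P Q R U V X Y : Subgroup G} {p : ℕ}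

/-- `N_H(U)` controls strong fusion in `P` -/
def Ctl (H P U : Subgroup G) : Prop :=
  ∀ (A : Subgroup G) (n : G), n ∈ H → A ≤ P → A ≤ n •ᶜ P → ∃ c ∈ H ⊓ 𝐂(A), c⁻¹ * n ∈ 𝐍(U)

theorem Ctl.trans (h : Ctl H P U) (h' : Ctl (H ⊓ 𝐍(U)) P V) : Ctl H P V := by
  intro A n hn h1 h2
  obtain ⟨c, hc, h3⟩ := h A n hn h1 h2
  obtain ⟨d, hd, h4⟩ := h' A (c⁻¹ * n) ⟨H.mul_mem (H.inv_mem hc.1) hn, h3⟩ h1 (by
    rw [← conj_conj, ← conj_le_iff_le_inv_conj, conj_eq_of_mem_cent hc.2]; exact h2)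
  exact ⟨c * d, ⟨mul_mem hc.1 hd.1.1, mul_mem hc.2 hd.2⟩, by convert h4 using 1; group⟩

theorem Ctl.prod [Fact p.Prime] (hK : Ctl K P V) (hM : Ctl M P V) (hP : Syl p P H) (h1 : P ≤ K)
    (h2 : P ≤ M) (h : IsProd K M H) : Ctl H P V := by
  intro A n hn a1 a2
  obtain ⟨c, hc, m, hm, rfl⟩ := h.mem_iff.1 hn
  have b1 : c⁻¹ •ᶜ A ≤ m •ᶜ P := by rwa [← conj_conj, le_conj_iff_inv_conj_le] at a2
  obtain ⟨d, hd, b2⟩ := (hP.mono (le_inf h1 h2) (inf_le_left.trans h.left_le)).exists_le_conj'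
    (le_inf (conj_le_of_mem (inv_mem hc) (a1.trans h1)) (b1.trans (conj_le_of_mem hm h2)))
    (isPGroup_conj.2 (hP.isPGroup.to_le a1))
  obtain ⟨x, hx, b3⟩ := hK A (c * d) (mul_mem hc hd.1) a1 (by
    rw [← conj_conj, le_conj_iff_inv_conj_le]; exact b2)
  obtain ⟨y, hy, b4⟩ := hM ((c * d)⁻¹ •ᶜ A) (d⁻¹ * m) (mul_mem (inv_mem hd.2) hm)
    (by rw [mul_inv_rev, ← conj_conj, ← le_conj_iff_inv_conj_le]; exact b2)
    (by rw [mul_inv_rev, ← conj_conj, ← conj_conj]; exact conj_mono _ b1)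
  refine ⟨c * d * y * (c * d)⁻¹ * x, ⟨mul_mem (mul_mem (mul_mem (h.left_le (mul_mem hc hd.1))
    (h.right_le hy.1)) (H.inv_mem (h.left_le (mul_mem hc hd.1)))) (h.left_le hx.1), mul_mem ?_ hx.2⟩,
    by convert mul_mem b3 b4 using 1; group⟩
  have := (mem_inf.1 hy).2
  rw [cent_conj, mem_conj] at this
  show _ ∈ 𝐂(A)
  simpa using this

/-- the case `H = O_{p'}(H) N_H(U)` -/
theorem ctl_of_fact [Fact p.Prime] (hR : Syl p R H) (hU : R ≤ 𝐍(U))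
    (hf : H ≤ Op' p H ⊔ H ⊓ 𝐍(U)) : Ctl H R U := by
  intro A n hn h1 h2
  have hO := Opi_normal ({p} : Set ℕ)ᶜ H
  set O := Op' p H
  set N := H ⊓ 𝐍(U)
  have hRN : R ≤ N := le_inf hR.le hU
  obtain ⟨o, h3, m, h4, rfl⟩ := (mem_sup_norm_left (inf_le_left.trans hO.norm)).1 (hf hn)
  have hAp := hR.isPGroup.to_le h1
  have hAO : A ≤ 𝐍(O) := h1.trans (hR.le.trans hO.norm)
  have hA1 : A ≤ 𝐍(O ⊓ N) := le_norm_inf hAO (le_norm_of_le (h1.trans hRN))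
  have h5 : o⁻¹ •ᶜ A ≤ N := by
    rw [← conj_conj, le_conj_iff_inv_conj_le] at h2
    exact h2.trans (conj_le_of_mem h4 hRN)
  have h6 : o⁻¹ •ᶜ A ≤ (O ⊓ N) ⊔ A := by
    rw [conj_le_iff]
    intro a ha
    rw [show o⁻¹ * a * o⁻¹⁻¹ = (o⁻¹ * a * o⁻¹⁻¹ * a⁻¹) * a by group]
    refine mul_mem_sup (mem_inf.2 ⟨?_, mul_mem (conj_le_iff.1 h5 a ha) (N.inv_mem (hRN (h1 ha)))⟩) ha
    rw [inv_inv, mul_assoc, mul_assoc, ← mul_assoc a]
    exact O.mul_mem (O.inv_mem h3) (conj_mem_of_norm (hAO ha) h3)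
  have hp' : PiGrp ({p} : Set ℕ)ᶜ (O ⊓ N) := (Op'_piGrp p H).inf_left _
  have hc := coprime_of_isPGroup hAp (Op'_piGrp p H)
  have h7 : Syl p A ((O ⊓ N) ⊔ A) := ((IsSdprod.of_coprime hA1
    (coprime_of_isPGroup hAp hp').symm).hall_right hp' (piGrp_singleton hAp)).syl
  obtain ⟨x, hx, h8⟩ := h7.exists_le_conj' h6 (isPGroup_conj.2 hAp)
  obtain ⟨y, hy, a, ha, rfl⟩ := (mem_sup_norm_left hA1).1 hx
  rw [← conj_conj, conj_eq_of_mem ha, le_conj_iff_inv_conj_le, conj_conj, ← mul_inv_rev] at h8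
  have h9 : o * y ∈ 𝐂(A) := le_cent_of_coprime (A := O ⊓ 𝐍(A)) inf_le_right
    (le_norm_inf hAO (le_norm_of_le (le_norm_self A))) (coprime_card_mono hc.symm inf_le_left le_rfl)
    (mem_inf.2 ⟨mul_mem h3 hy.1, inv_mem_iff.1 (mem_norm_of_conj_le h8)⟩)
  exact ⟨_, ⟨mul_mem (hO.le h3) hy.2.1, h9⟩, by
    convert mul_mem (Subgroup.inv_mem _ hy.2.2) h4.2 using 1; group⟩

theorem ab_quo_two (h2 : ∀ S ≤ H, IsPGroup 2 S → Ab S) (N : Subgroup G) :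
    ∀ S ≤ H ⁒ N, IsPGroup 2 S → Ab S := fun S hS hS2 => by
  obtain ⟨R, h3, -, h4, rfl⟩ := exists_isPGroup_quo_eq hS hS2
  exact ab_quo (h2 R h3 h4) N

/-- the constrained case -/
theorem ctl_con [Fact p.Prime] (hp2 : p ≠ 2) (h2 : ∀ S ≤ H, IsPGroup 2 S → Ab S) (hS : Syl p P H)
    (hc : P ⊓ 𝐂(Op p H) ≤ Op p H) : Ctl H P (Zc (puig P)) := by
  have hD := Opi_normal ({p} : Set ℕ)ᶜ H
  have hQ := Op_normal p H
  have hC := hQ.cent
  have hQp := Op_isPGroup p H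
  have hZ := hS.normal_inf hC
  have c1 : H ⊓ 𝐂(Op p H) ≤ Op' p H ⊔ Op p H := by
    have h1 : H ⊓ 𝐂(Op p H) ⊓ P ≤ Op p H := (le_inf inf_le_right (inf_le_left.trans inf_le_right)).trans hc
    rw [← (Burnside_normal_complement hZ (inf_le_left.trans (inf_le_right.trans (cent_anti h1)))).sup_eq]
    exact sup_le_sup (Opi_le_of_normal _ hC) h1
  have c2 : Core.IsCharIn p (H ⁒ Op' p H) := by
    refine ((inf_le_inf_left _ (cent_anti (quo_Op_le p H _))).trans ?_).trans (quo_Op_le p H _)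
    rw [← quo_inf_cent hD.le (hQ.le.trans hD.norm) (coprime_of_isPGroup hQp (Op'_piGrp p H)).symm
      (Or.inr (sol_of_nil (Op_nil p H))), ← quo_self_sup (hQ.le.trans hD.norm)]
    exact quo_mono _ c1
  have hSD := hS.le.trans hD.norm
  have hi : Op' p H ⊓ P = ⊥ := (Op'_piGrp p H).inf_eq_bot' hS.piGrp
  have hL := (puig_le P).trans hSD
  have h1 := GW.puig_normal hp2 (ab_quo_two h2 _) c2 (hS.quo hD.norm)
  have hi' : Op' p H ⊓ puig P = ⊥ := eq_bot_iff.2 ((inf_le_inf_left _ (puig_le P)).trans hi.le)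
  rw [← quo_puig hSD hi, Zc, ← quo_inf_cent_of_norm hL (le_norm_self _) (by simp [hi'])
    (Or.inl (by rw [hi']; exact sol_bot))] at h1
  have hZS := (Zc_le (puig P)).trans (puig_le P)
  have h3 : Zc (puig P) ⊔ Op' p H ⊴ H :=
    ⟨sup_le (hZS.trans hS.le) hD.le, le_norm_sup_of_quo hD.norm (hZS.trans hSD) h1.norm⟩
  have h4 : Syl p (Zc (puig P)) (Zc (puig P) ⊔ Op' p H) :=
    (((IsSdprod.of_sup (hZS.trans hSD) (eq_bot_iff.2 ((inf_le_inf_left _ hZS).trans hi.le))).hall_right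
      (Op'_piGrp p H) (hS.piGrp.of_le hZS)).syl).mono le_sup_left (sup_comm _ _).le
  refine ctl_of_fact hS ((le_norm_self P).trans (norm_le_norm_center_puig P)) ?_
  conv_lhs => rw [← (h4.frattini h3).sup_eq]
  exact sup_le (sup_le (le_sup_of_le_right (le_inf (hZS.trans hS.le) (le_norm_self _))) le_sup_left)
    le_sup_right

/-- the case `H = P C_H(Q)` -/
theorem ctl_quo [Fact p.Prime] (hS : Syl p P H) (hQ : Q ⊴ H) (hQP : Q ≤ P)
    (hO : Oup p H ≤ 𝐂(Q)) {W : Subgroup (Coset Q)} (hW : P ⁒ Q ≤ 𝐍(W))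
    (h : Ctl (H ⁒ Q) (P ⁒ Q) W) : Ctl H P (quoPre Q W) := by
  intro B n hn b1 b2
  obtain ⟨A, hA⟩ : ∃ A, A = B ⊔ Q := ⟨_, rfl⟩
  have hQA : Q ≤ A := hA ▸ le_sup_right
  have a1 : A ≤ P := hA ▸ sup_le b1 hQP
  have a2 : A ≤ n •ᶜ P := hA ▸ sup_le b2 ((hS.conj_of_mem hn).le_of_normal hQ (hS.isPGroup.to_le hQP))
  have hAQ : A ≤ 𝐍(Q) := a1.trans (hS.le.trans hQ.norm)
  have hAp := hS.isPGroup.to_le a1
  obtain ⟨X, hX⟩ : ∃ X, X = H ⊓ quoPre Q 𝐂(A ⁒ Q) := ⟨_, rfl⟩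
  have hXH : X ≤ H := hX ▸ inf_le_left
  have key : ∀ g ∈ H, A ≤ g •ᶜ P → ∃ x ∈ X, x⁻¹ * g ∈ 𝐍(quoPre Q W) := fun g hg hg' => by
    obtain ⟨c, hc, h1⟩ := h (A ⁒ Q) (coset Q g) (coset_mem_quo Q hg) (quo_mono Q a1)
      (by rw [← quo_conj (hQ.norm hg)]; exact quo_mono Q hg')
    obtain ⟨x, hx, rfl⟩ := (mem_quo_of_le hQ.norm).1 hc.1
    refine ⟨x, hX ▸ ⟨hx, mem_quoPre.2 ⟨hQ.norm hx, hc.2⟩⟩, ?_⟩
    have h2 := hQ.norm (mul_mem (inv_mem hx) hg)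
    refine ((quoPre_norm W).le (mem_quoPre.2 ⟨h2, ?_⟩)).2
    rwa [coset_mul (inv_mem (hQ.norm hx)) (hQ.norm hg), coset_inv]
  have hAX : A ≤ 𝐍(X) := hX ▸ le_norm_inf (le_norm_of_le (a1.trans hS.le))
    (le_norm_quoPre hAQ (le_norm_cent (le_norm_self _)))
  have hXA : ⁅A, X⁆ ≤ Q := by
    rw [commutator_comm, ← quo_le_cent_iff (hXH.trans hQ.norm) hAQ, quo_le_iff_le_quoPre (hXH.trans hQ.norm)]
    exact hX ▸ inf_le_right
  have hO' : Oup p X ≤ 𝐂(A) := Oup_le_iff.2 fun x hx hxo =>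
    stable_factor_cent (A := zpowers x) (zpowers_le.2 (hO (mem_Oup (hXH hx) hxo))) ⟨hQA, hAQ⟩
      ((commutator_mono le_rfl (zpowers_le.2 hx)).trans hXA)
      (coprime_card_of_isPGroup (by rwa [Nat.card_zpowers]) hAp).symm (mem_zpowers x)
  obtain ⟨R, hR, h1⟩ := exists_syl_ge (le_sup_right : A ≤ X ⊔ A) hAp
  obtain ⟨g, hg, h2⟩ := hS.exists_le_conj' (hR.le.trans (sup_le hXH (a1.trans hS.le))) hR.isPGroup
  obtain ⟨x, hx, h3⟩ := key g hg (h1.trans h2)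
  obtain ⟨y, hy, h4⟩ := key n hn a2
  have h5 := (hR.inf_normal (normalIn_sup_left hAX)).conj_of_mem (inv_mem hx)
  have h6 : x⁻¹ •ᶜ (R ⊓ X) ≤ 𝐍(quoPre Q W) := by
    refine (conj_mono _ (inf_le_left.trans h2)).trans ?_
    rw [conj_conj]
    exact conj_le_of_mem h3 (le_norm_quoPre (hS.le.trans hQ.norm) hW)
  obtain ⟨c, hc, r, hr, rfl⟩ := (Oup_isProd h5).mem_iff.1 hy
  exact ⟨c, ⟨hXH (Oup_le p X hc), cent_anti (hA ▸ le_sup_left) (hO' hc)⟩, by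
    convert mul_mem (h6 hr) h4 using 1; group⟩

theorem rel_of_le [Fact p.Prime] (hs : ∀ Y R : Subgroup G, IsPGroup p Y → Y ≠ ⊥ → Y ≤ H →
    Syl p R (H ⊓ 𝐍(Y)) → Ctl (H ⊓ 𝐍(Y)) R (Zc (puig R)))
    (hP : Syl p P H) : ∀ (k : ℕ) (A : Subgroup G), Nat.card G - ♯A = k → A ≠ ⊥ → ∀ g ∈ H, ∀ h ∈ H,
      A ≤ g •ᶜ P → A ≤ h •ᶜ P → Rel (H ⊓ 𝐍(Zc (puig P))) A g h := by
  intro k
  induction k using Nat.strong_induction_on with
  | _ k ih =>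
  intro A hk hA
  have hle : ∀ X : Subgroup G, ♯X ≤ Nat.card G := fun X => card_top (G := G) ▸ card_le le_top
  have ih' : ∀ X : Subgroup G, A < X → ∀ g ∈ H, ∀ h ∈ H, X ≤ g •ᶜ P → X ≤ h •ᶜ P →
      Rel (H ⊓ 𝐍(Zc (puig P))) X g h := fun X hX =>
    ih _ (by have := card_lt hX; have := hle X; omega) X rfl (ne_bot_of_gt hX)
  have hPg : ∀ g ∈ H, Syl p (g •ᶜ P) H := fun g hg => hP.conj_of_mem hg
  have key : ∀ (l : ℕ) (R : Subgroup G), Nat.card G - ♯R = l → A < R → ∀ Y : Subgroup G,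
      IsPGroup p Y → Y ≠ ⊥ → Y ≤ H → Syl p R (H ⊓ 𝐍(Y)) → ∀ g ∈ H, ∀ n : G, R ≤ g •ᶜ P →
      n ∈ H ⊓ 𝐍(Y) → A ≤ n •ᶜ R → Rel (H ⊓ 𝐍(Zc (puig P))) A g (n * g) := by
    intro l
    induction l using Nat.strong_induction_on with
    | _ l ihl =>
    intro R hl hAR Y hY hY0 hYH hR g hgH n hg hn h1
    obtain ⟨c, hc, hm⟩ := hs Y R hY hY0 hYH hR A n hn hAR.le h1
    have hmH : c⁻¹ * n ∈ H := H.mul_mem (H.inv_mem hc.1.1) hn.1
    rw [mem_inf] at hc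
    obtain ⟨m, rfl⟩ : ∃ m, n = c * m := ⟨c⁻¹ * n, by group⟩
    rw [inv_mul_cancel_left] at hm hmH
    have h2 : A ≤ m •ᶜ R := by
      rwa [← conj_conj, le_conj_iff_inv_conj_le, conj_eq_of_mem_cent (inv_mem hc.2)] at h1
    refine Rel.trans (h := m * g) ?_ ⟨c⁻¹, inv_mem hc.2, by group; exact one_mem _⟩
    rcases hg.eq_or_lt with e | e
    · refine ⟨1, one_mem _, mem_inf.2 ⟨mul_mem (mul_mem (inv_mem hgH) (one_mem _)) (mul_mem hmH hgH), ?_⟩⟩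
      rw [e, ZL_conj, norm_conj, mem_conj] at hm
      simpa [mul_assoc] using hm
    have h3 := lt_inf_norm_of_nil (hPg g hgH).nil e
    obtain ⟨R', hR', h4⟩ := exists_syl_ge (inf_le_inf (hPg g hgH).le (norm_le_norm_center_puig R))
      ((hPg g hgH).isPGroup.to_le inf_le_left : IsPGroup p (g •ᶜ P ⊓ 𝐍(R) : Subgroup G))
    obtain ⟨g', hg', h5⟩ := hP.exists_le_conj' (hR'.le.trans inf_le_left) hR'.isPGroup
    have h6 := h3.trans_le h4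
    obtain ⟨c1, h7, h8⟩ := ih' R hAR g hgH g' hg' hg (h6.le.trans h5)
    have h9 := ihl _ (by have := card_lt h6; have := hle R'; omega) R' rfl (hAR.trans h6) _
      (hR.isPGroup.to_le (ZL_le R))
      (fun e => ne_bot_of_gt hAR (trivg_center_Puig_pgroup hR.isPGroup e))
      ((ZL_le R).trans (hR.le.trans inf_le_left)) hR' g' hg' m h5 ⟨hmH, hm⟩
      (h2.trans (conj_mono m h6.le))
    refine (Rel.trans ⟨c1, cent_anti hAR.le h7, h8⟩ h9).trans (Rel.symm ⟨m * c1 * m⁻¹,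
      cent_anti h2 (by rw [cent_conj]; exact conj_mem_conj h7), ?_⟩)
    convert h8 using 1; group
  intro g hgH h hhH hg hh
  rcases hg.eq_or_lt with e | e
  · refine ⟨1, one_mem _, mem_inf.2 ⟨mul_mem (mul_mem (inv_mem hgH) (one_mem _)) hhH,
      norm_le_norm_center_puig P ?_⟩⟩
    have := (hPg g hgH).eq_of_le_syl (hPg h hhH) (e ▸ hh)
    rw [← conj_eq_self_iff, mul_one, ← conj_conj, ← this, conj_conj]; simp
  have e' : A < h •ᶜ P :=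
    lt_of_le_of_ne hh fun e' => e.ne ((e' ▸ hPg h hhH).eq_of_le_syl (hPg g hgH) hg)
  have h1 := lt_inf_norm_of_nil (hPg g hgH).nil e
  have h2 := lt_inf_norm_of_nil (hPg h hhH).nil e'
  obtain ⟨R, hR, h3⟩ := exists_syl_ge (inf_le_inf_right 𝐍(A) (hPg g hgH).le)
    ((hPg g hgH).isPGroup.to_le inf_le_left)
  obtain ⟨g1, hg1, h4⟩ := hP.exists_le_conj' (hR.le.trans inf_le_left) hR.isPGroup
  obtain ⟨n, hn, h5⟩ := hR.exists_le_conj' (inf_le_inf_right 𝐍(A) (hPg h hhH).le)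
    ((hPg h hhH).isPGroup.to_le inf_le_left)
  refine (((ih' _ h1 g hgH g1 hg1 inf_le_left (h3.trans h4)).mono h1.le).trans
    (key _ R rfl (h1.trans_le h3) A ((hPg g hgH).isPGroup.to_le hg) hA (hg.trans (hPg g hgH).le)
      hR g1 hg1 n h4 hn (h2.le.trans h5))).trans
    ((ih' _ h2 _ (mul_mem hn.1 hg1) h hhH (h5.trans ?_) inf_le_left).mono h2.le)
  rw [← conj_conj]; exact conj_mono n h4

theorem ctl [Fact p.Prime] (hp2 : p ≠ 2) (n : ℕ) : ∀ (G : Type u) [Group G] [Finite G]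
    (H P : Subgroup G), ♯H = n → (∀ S ≤ H, IsPGroup 2 S → Ab S) → Syl p P H →
    Ctl H P (Zc (puig P)) := by
  induction n using Nat.strong_induction_on with
  | _ n ih =>
  intro G _ _ H P hn h2 hP
  have ih1 : ∀ K R : Subgroup G, K < H → Syl p R K → Ctl K R (Zc (puig R)) := fun K R hK =>
    ih _ (hn ▸ card_lt hK) G K R rfl fun S hS => h2 S (hS.trans hK.le)
  have ih2 : ∀ Y R : Subgroup G, IsPGroup p Y → ¬ Y ≤ Op p H → Y ≤ H →
      Syl p R (H ⊓ 𝐍(Y)) → Ctl (H ⊓ 𝐍(Y)) R (Zc (puig R)) := fun Y R hY h0 hH =>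
    ih1 _ R (lt_of_le_of_ne inf_le_left fun e => h0 (le_Op ⟨hH, inf_eq_left.1 e⟩ hY))
  by_cases h0 : Op p H = ⊥
  · intro A g hg a1 a2
    by_cases hA : A = ⊥
    · exact ⟨g, ⟨hg, by simp [hA]⟩, by simp⟩
    obtain ⟨c, h3, h4⟩ := rel_of_le (fun Y R hY hY0 => ih2 Y R hY (by rwa [h0, le_bot_iff])) hP _ A
      rfl hA 1 (one_mem _) g hg (by simpa) a2
    rw [inv_one, one_mul, mem_inf] at h4
    exact ⟨c⁻¹, mem_inf.2 ⟨inv_mem ((mul_mem_cancel_right hg).1 h4.1), inv_mem h3⟩, by simpa using h4.2⟩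
  by_cases hc : P ⊓ 𝐂(Op p H) ≤ Op p H
  · exact ctl_con hp2 h2 hP hc
  have hQ := Op_normal p H
  have hQP := Op_le_syl hP
  have hC := hQ.cent
  by_cases hK : (H ⊓ 𝐂(Op p H)) ⊔ P = H
  · have hW : P ⁒ Op p H ≤ 𝐍(Zc (puig (P ⁒ Op p H))) :=
      (le_norm_self _).trans (norm_le_norm_center_puig _)
    have hU : quoPre (Op p H) (Zc (puig (P ⁒ Op p H))) ≤ P :=
      quoPre_le_of_le ⟨hQP, hP.le.trans hQ.norm⟩ (ZL_le _)
    refine (ctl_quo hP hQ hQP ((Oup_le_of_normal hC.norm ?_).trans inf_le_right) hW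
      (ih _ (hn ▸ card_quo_lt hQ.le h0) _ _ _ rfl (ab_quo_two h2 _) (hP.quo hQ.norm))).trans
      (ih2 _ P (hP.isPGroup.to_le hU) (fun e => hc (inf_le_left.trans ?_)) (hU.trans hP.le)
        (hP.mono (le_inf hP.le (le_norm_quoPre (hP.le.trans hQ.norm) hW)) inf_le_left))
    · rw [← isPGroup_quo_iff hC.norm]
      exact (isPGroup_quo hP.isPGroup _).to_le
        ((quo_mono _ hK.ge).trans (quo_self_sup (hP.le.trans hC.norm)).le)
    · rw [← quo_eq_bot_iff (hP.le.trans hQ.norm)]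
      exact trivg_center_Puig_pgroup (isPGroup_quo hP.isPGroup _)
        (quoPre_eq_iff.1 (le_antisymm e (le_quoPre _)))
  have hS := hP.normal_inf hC
  have h3 : P ≤ H ⊓ 𝐍(H ⊓ 𝐂(Op p H) ⊓ P) :=
    le_inf hP.le (le_norm_inf (hP.le.trans hC.norm) (le_norm_self P))
  refine Ctl.prod (ih1 _ P (lt_of_le_of_ne (sup_le inf_le_left hP.le) hK)
    (hP.mono le_sup_right (sup_le inf_le_left hP.le)))
    (ih2 _ P hS.isPGroup (fun e => hc ((le_inf (le_inf (inf_le_left.trans hP.le) inf_le_right)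
      inf_le_left).trans e)) (inf_le_right.trans hP.le) (hP.mono h3 inf_le_left)) hP le_sup_right h3
    (IsProd.of_forall (sup_le inf_le_left hP.le) inf_le_left fun x hx => ?_)
  obtain ⟨a, ha, b, hb, e⟩ := (hS.frattini hC).mem_iff.1 hx
  exact ⟨a, mem_sup_left ha, b, hb, e⟩

end Cfsg.Agent.JR.Gz

namespace Cfsg.Agent.JR

open Subgroup Cfsg.Agent.Coprime Cfsg.Agent.OO

theorem gzl : GZL := by
  intro G _ _ p P A g h2 hp hp2 hP hA hg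
  have := Fact.mk hp
  obtain ⟨c, h1, h3⟩ := Gz.ctl hp2 _ G ⊤ P rfl (fun S _ => h2 S) hP A g⁻¹ (mem_top _) hA
    (conj_le_iff_le_inv_conj.1 hg)
  refine ⟨_, inv_mem h3, fun a ha => ?_⟩
  nth_rw 1 [← mem_cent_iff_conj.1 h1.2 a ha]
  group

end Cfsg.Agent.JR
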