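import Cfsg.Agent.Lib.R1.Hyp3
import Cfsg.Agent.Lib.GW.Good
import Cfsg.Agent.Lib.ZL.Puig
import Cfsg.Agent.Lib.Blk.Main

/-!
# Interfaces for the theorem on groups of Janko-Ree type (plan JR)
-/

set_option autoImplicit false

namespace Cfsg.Agent.JR

open Subgroup Cfsg.Agent.OO Cfsg.Agent.Coprime Cfsg.Agent.R1 Cfsg.Agent.Blk
open scoped commutatorElement Pointwise

universe u

/-- `q = 4 k ± 1`, `2 r = q ± 1` -/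
def Par (q r k : ℕ) : Prop :=
  Odd r ∧ Odd k ∧ (q = 4 * k + 1 ∧ 2 * r = q + 1 ∨ q + 1 = 4 * k ∧ 2 * r + 1 = q)

section

variable {G : Type u} [Group G]

/-- a maximal torus of `L = L₂(q)`, of order `n`, with dihedral normalizer -/
structure Tor (L T : Subgroup G) (n : ℕ) : Prop where
  le : T ≤ L
  cyc : IsCyclic T
  card : ♯T = n
  card_norm : ♯(L ⊓ 𝐍(T) : Subgroup G) = 2 * n
  inv : ∀ g ∈ L ⊓ 𝐍(T), g ∉ T → g * g = 1 ∧ ∀ x ∈ T, g * x * g⁻¹ = x⁻¹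
  norm : ∀ y ∈ T, y ≠ 1 → L ⊓ 𝐍(zpowers y) = L ⊓ 𝐍(T)

/-- a Sylow `p`-subgroup of `L = L₂(q)` -/
structure Uni (L P : Subgroup G) (p q : ℕ) : Prop where
  le : P ≤ L
  elem : IsElementaryAbelian p P
  card : ♯P = q
  cent : ∀ y ∈ P, y ≠ 1 → L ⊓ 𝐂[y] = P
  ti : ∀ g ∈ L, ∀ y ∈ P, y ≠ 1 → g * y * g⁻¹ ∈ P → g ∈ 𝐍(P)
  card_norm : 2 * ♯(L ⊓ 𝐍(P) : Subgroup G) = q * (q - 1)
  max : ∀ B : Subgroup G, L ⊓ 𝐍(P) ≤ B → B ≤ L → B ≤ 𝐍(P) ∨ B = L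

/-- the subgroup structure of `L₂(q)`, `q ≡ ±3 (mod 8)`, `q ≥ 5` -/
structure LF (L : Subgroup G) (p q r k : ℕ) : Prop where
  prime : p.Prime
  pow : ∃ f, Odd f ∧ q = p ^ f
  five : 5 ≤ q
  par : Par q r k
  card : ♯L = 4 * q * r * k
  smp : GW.Smp L
  perfect : der L = L
  inv : ∀ a ∈ L, a ≠ 1 → a * a = 1 → ∀ b ∈ L, b ≠ 1 → b * b = 1 → ∃ g ∈ L, g * a * g⁻¹ = b
  part : ∀ y ∈ L, y ≠ 1 → ∃ T, y ∈ T ∧ (Uni L T p q ∨ Tor L T r ∨ Tor L T (2 * k))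
  conjR : ∀ T T', Tor L T r → Tor L T' r → ∃ g ∈ L, g •ᶜ T = T'
  conjK : ∀ T T', Tor L T (2 * k) → Tor L T' (2 * k) → ∃ g ∈ L, g •ᶜ T = T'

/-- a frame in a group of Janko-Ree type: `C(t) = ⟨t⟩ × H`, `H = L W` with `W` a group of field
automorphisms, `S` a Sylow 2-subgroup, `P T` a Borel subgroup of `L` -/
structure Fr (t : G) (H L W S P T : Subgroup G) (p q r k : ℕ) : Prop extends LF L p q r k where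
  simple : IsSimpleGroup G
  ab2 : Ab2 G
  t1 : t ≠ 1
  t2 : t * t = 1
  conj : ∀ a : G, a ≠ 1 → a * a = 1 → ∃ g, g * t * g⁻¹ = a
  cent : ∀ g : G, g ∈ 𝐂[t] ↔ g ∈ H ∨ g * t ∈ H
  tH : t ∉ H
  le : L ≤ H
  norm : H ≤ 𝐍(L)
  centL : H ⊓ 𝐂(L) = ⊥
  sup : L ⊔ W = H
  inf : L ⊓ W = ⊥
  cycW : IsCyclic W
  oddW : Odd ♯W
  cardW : ∀ f, q = p ^ f → ♯W ∣ f
  syl : Syl 2 S ⊤
  cardS : ♯S = 8
  sq : ∀ s ∈ S, s * s = 1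
  tS : t ∈ S
  centS : 𝐂(S) = S ⊔ W
  normS : 𝐍(S) ≤ 𝐂(W)
  card_normS : ♯𝐍(S) = 168 * ♯W
  trS : ∀ s ∈ S, s ≠ 1 → ∃ g ∈ 𝐍(S), g * t * g⁻¹ = s
  uni : Uni L P p q
  tor : Tor L T ((q - 1) / 2)
  TP : T ≤ 𝐍(P)
  WP : W ≤ 𝐍(P)
  WT : W ≤ 𝐍(T)
  centP : H ⊓ 𝐂(P) = P
  exj : ∃ j ∈ S ⊓ L, j ∈ 𝐍(T) ∧ j ∉ T
  exρ : p = 3 → ∃ ρ ∈ P ⊓ 𝐍(S), ρ ≠ 1
  exx : p = 3 → ∃ x ∈ T, (orderOf x).Prime ∧ ¬ orderOf x ∣ ♯W ∧ H ⊓ 𝐂[x] = T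

/-- no odd `3'`-subgroup inverted by `t` is normalized by the Borel subgroup of `C(t)` -/
def Y0 (t : G) (W P T : Subgroup G) : Prop := ∀ Y : Subgroup G, Odd ♯Y → ¬ 3 ∣ ♯Y →
  Y ⊓ 𝐂[t] = ⊥ → zpowers t ⊔ P ⊔ T ⊔ W ≤ 𝐍(Y) → Y = ⊥

/-- centralizers of the elements of odd order that centralize a four-group -/
def K0 (t : G) (L : Subgroup G) (k : ℕ) : Prop := ∀ T, Tor L T (2 * k) → ∀ x ∈ T, x * x ≠ 1 →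
  𝐂[x] ≤ 𝐂[t]

/-- the Borel subgroup of `G` -/
structure Bor (t : G) (W P T Q : Subgroup G) : Prop where
  syl : Syl 3 Q ⊤
  inf : Q ⊓ 𝐂[t] = P
  norm : 𝐍(Q) = Q ⊔ (zpowers t ⊔ T ⊔ W)
  zl : 𝐍(Zc (puig Q)) ≤ 𝐍(Q)
  three : ¬ 3 ∣ ♯W

/-- trivial intersection -/
def TI (Q : Subgroup G) : Prop := ∀ g : G, Q ⊓ g •ᶜ Q ≠ ⊥ → g ∈ 𝐍(Q)

/-- the virtual characters `((1 - sgn) (u₀ - u_j))^G` of the principal 2-block; `Q = ± q ≡ 1 (mod 4)` -/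
structure Th [Finite G] (t : G) (L : Subgroup G) (r k : ℕ) (Q : ℤ) (Θ : Fin 3 → G → ℂ) : Prop where
  vchar : ∀ j, Θ j ∈ ZIrr (⊤ : Subgroup G)
  dot : ∀ i j, ⟪Θ i, Θ j⟫[⊤] = if i = j then 4 else 2
  one : ∀ j, ⟪Θ j, cf1 ⊤⟫[⊤] = 1
  odd : ∀ j g, Odd (orderOf g) → Θ j g = 0
  blk : ∀ j χ, IsIrr ⊤ χ → ⟪χ, Θ j⟫[⊤] ≠ 0 → χ ∈ B0 2 ⊤
  valR : ∀ T, Tor L T r → ∀ x ∈ T, x ≠ 1 → Θ 0 (t * x) = 4
  valK : ∀ T, Tor L T (2 * k) → ∀ x ∈ T, x ≠ 1 → Odd (orderOf x) →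
    Θ 0 (t * x) = 0 ∧ Θ 1 (t * x) = 4 ∧ Θ 2 (t * x) = 4
  val : Θ 0 t = 2 * (1 - Q) ∧ Θ 1 t = Q + 3 ∧ Θ 2 t = Q + 3
  at_t : ∀ χ ∈ B0 2 ⊤, χ t = -Q * ⟪χ, Θ 0⟫[⊤] + (Q + 1) / 2 * (⟪χ, Θ 1⟫[⊤] + ⟪χ, Θ 2⟫[⊤])
  atK : ∀ χ ∈ B0 2 ⊤, ∀ T, Tor L T (2 * k) → ∀ x ∈ T, x ≠ 1 → Odd (orderOf x) →
    χ (t * x) = ⟪χ, Θ 1⟫[⊤] + ⟪χ, Θ 2⟫[⊤] - ⟪χ, Θ 0⟫[⊤]
  pair0 : 𝐂[t].index * ∑ χ ∈ Irr ⊤, ⟪Θ 0, χ⟫[⊤] * (χ t * χ t / χ 1) = Q * (Q + 1) ^ 2 * (Q - 1)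
  pair : ∀ j, j ≠ 0 →
    𝐂[t].index * ∑ χ ∈ Irr ⊤, ⟪Θ j, χ⟫[⊤] * (χ t * χ t / χ 1) = Q ^ 2 * (Q + 1) * (Q + 3)

end

/-- the strong form of the theorem -/
def JRp (n : ℕ) : Prop := ∀ (G : Type u) [Group G] [Finite G] (t : G) (H L : Subgroup G) (F : Type)
  [Field F] [Fintype F], Nat.card G < n → JRs t H L F →
    (Fintype.card F = 5 ∧ Nat.card G = 175560) ∨
    (∃ k : ℕ, 1 ≤ k ∧ Fintype.card F = 3 ^ (2 * k + 1) ∧ ¬ 3 ∣ L.relIndex H ∧ ∃ Q : Subgroup G,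
      Syl 3 Q ⊤ ∧ ♯Q = Fintype.card F ^ 3 ∧ t ∈ 𝐍(Q) ∧ ⁅𝐍(Q), zpowers t⁆ ≤ Q ∧ TI Q ∧
      𝐍(Q).index = Fintype.card F ^ 3 + 1)

/-- package FR -/
def FR : Prop := ∀ (G : Type u) [Group G] [Finite G] (t : G) (H L : Subgroup G) (F : Type) [Field F]
  [Fintype F], JRs t H L F → ∃ W S P T p r k, Fr t H L W S P T p (Fintype.card F) r k

/-- package LF2 -/
def LF2 : Prop := ∀ (G : Type u) [Group G] [Finite G] (L : Subgroup G) (F : Type) [Field F]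
  [Fintype F], 5 ≤ Fintype.card F → Fintype.card F % 8 = 3 ∨ Fintype.card F % 8 = 5 →
  Nonempty (L ≃* Matrix.ProjectiveSpecialLinearGroup (Fin 2) F) → ∃ p r k, LF L p (Fintype.card F) r k

/-- package KL -/
def KL : Prop := ∀ (G : Type u) [Group G] [Finite G] (t : G) (H L W S P T : Subgroup G) (q r k : ℕ),
  Fr t H L W S P T 3 q r k → ∀ K, Tor L K (2 * k) → ∀ v ∈ K, v ≠ 1 → v * v = 1 → ∀ x ∈ K, x * x ≠ 1 →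
  𝐂[x] ≤ 𝐍(GW.S4 t v)

/-- package KF -/
def KF : Prop := ∀ (G : Type u) [Group G] [Finite G] (t : G) (H L S P T : Subgroup G) (p q r k : ℕ),
  Fr t H L ⊥ S P T p q r k → K0 t L k

/-- package CH1 -/
def CH1 : Prop := ∀ (G : Type u) [Group G] [Finite G] (t : G) (H L S P T : Subgroup G) (p q r k : ℕ),
  Fr t H L ⊥ S P T p q r k → ∃ Θ, Th t L r k (if q % 4 = 1 then q else -q) Θ

/-- package CH2 -/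
def CH2 : Prop := ∀ (G : Type u) [Group G] [Finite G] (t : G) (H L S P T : Subgroup G) (p q r k : ℕ)
  (Θ : Fin 3 → G → ℂ), Fr t H L ⊥ S P T p q r k → 5 < q → K0 t L k →
  Th t L r k (if q % 4 = 1 then q else -q) Θ → p = 3 ∧ Nat.card G = q ^ 3 * (q ^ 3 + 1) * (q - 1)

/-- package Q5 -/
def Q5 : Prop := ∀ (G : Type u) [Group G] [Finite G] (t : G) (H L S P T : Subgroup G) (p r k : ℕ)
  (Θ : Fin 3 → G → ℂ), Fr t H L ⊥ S P T p 5 r k → Th t L r k 5 Θ → Nat.card G = 175560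

/-- package GZL -/
def GZL : Prop := ∀ (G : Type u) [Group G] [Finite G] (p : ℕ) (P A : Subgroup G) (g : G), Ab2 G →
  p.Prime → p ≠ 2 → Syl p P ⊤ → A ≤ P → g •ᶜ A ≤ P →
  ∃ n ∈ 𝐍(Zc (puig P)), ∀ a ∈ A, g * a * g⁻¹ = n * a * n⁻¹

/-- package MC -/
def MC : Prop := ∀ (G : Type u) [Group G] [Finite G] (s : ℕ) (w z : G) (E : Subgroup G), Ab2 G →
  (∀ x : G, x ^ 4 = 1 → x * x = 1) → s = 7 ∨ s = 11 ∨ s = 19 → orderOf w = s →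
  𝐍(zpowers w) ≤ 𝐂[w] → Syl s E 𝐂[w] → ♯E = s ^ 2 → z ∈ 𝐂[w] → z ∈ 𝐍(E) → z ∉ 𝐂(E) →
  Odd (orderOf z) → (∀ (D : Subgroup G) (a b : G), IsPGroup s D → a ≠ 1 → b ≠ 1 → a ≠ b →
    a * a = 1 → b * b = 1 → a * b = b * a → a ∈ 𝐍(D) → b ∈ 𝐍(D) → ∃ g : G, D ≤ g •ᶜ zpowers w) →
  der (⊤ : Subgroup G) ≠ ⊤

/-- package T3 -/
def T3 : Prop := ∀ (G : Type u) [Group G] [Finite G] (S : Subgroup G), IsSimpleGroup G →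
  ¬ IsMulCommutative G → Syl 2 S ⊤ → ♯S = 8 → (∀ s ∈ S, s * s = 1) →
  (∀ s ∈ S, s ≠ 1 → 𝐂[s] ≤ 𝐍(S) ∧ ♯𝐂[s] ∣ 24) → Nat.card G = 504

/-- package IV -/
def IV : Prop := ∀ (G : Type u) [Group G] [Finite G] (t : G) (H L W S P T : Subgroup G) (q r k : ℕ),
  Fr t H L W S P T 3 q r k → ∀ x ∈ T, (orderOf x).Prime → ¬ orderOf x ∣ ♯W → H ⊓ 𝐂[x] = T →
  𝐂[x] ≤ 𝐂[t]

/-- package LA -/
def LA : Prop := ∀ (G : Type u) [Group G] [Finite G] (t : G) (H L W S P T : Subgroup G) (q r k : ℕ),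
  Fr t H L W S P T 3 q r k → ∀ x ∈ T, (orderOf x).Prime → 𝐂[x] ≤ zpowers t ⊔ T → Y0 t W P T →
  ∃ Q, Bor t W P T Q

/-- package Y1 -/
def Y1 : Prop := ∀ (G : Type u) [Group G] [Finite G] (t : G) (H L S P T : Subgroup G) (q r k : ℕ),
  Fr t H L ⊥ S P T 3 q r k → (∀ x ∈ T, x ≠ 1 → 𝐂[x] ≤ 𝐂[t]) → K0 t L k →
  Nat.card G = q ^ 3 * (q ^ 3 + 1) * (q - 1) → Y0 t ⊥ P T

/-- package LB -/
def LB : Prop := ∀ (G : Type u) [Group G] [Finite G] (t : G) (H L W S P T Q : Subgroup G)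
  (q r k : ℕ), Fr t H L W S P T 3 q r k → ∀ x ∈ T, (orderOf x).Prime → 𝐂[x] ≤ zpowers t ⊔ T →
  Y0 t W P T → Bor t W P T Q → TI Q ∧ (q ^ 3 ≤ ♯Q → ♯Q = q ^ 3 ∧ 𝐍(Q).index = q ^ 3 + 1)

end Cfsg.Agent.JR
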