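import Cfsg.Agent.Lib.JR.IVc

/-!
# Package IV: `C(x) ≤ C(t)` for an element `x` of the split torus
-/

set_option autoImplicit false
set_option linter.unusedSectionVars false

namespace Cfsg.Agent.JR

open Subgroup Cfsg.Agent.OO Cfsg.Agent.Coprime Cfsg.Agent.R1 Cfsg.Agent.GW
open scoped commutatorElement Pointwise

universe u

namespace IV.Fa

variable {G : Type u} [Group G] [Finite G] {p q r k : ℕ} {t u s a b c g x y z ρ : G}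
  {H L W S P T K Q V X Y : Subgroup G} (h : Fa t H L W S P T q r k p a)
include h

theorem abS : Ab S := h.ab2 S h.syl.isPGroup

theorem step0 (kl : KL.{u}) (hy : y ∈ 𝐂[t]) (y1 : y ≠ 1) (ho : Odd (orderOf y)) (hs : s ∈ 𝐂[t])
    (s2 : s * s = 1) (hi : s * y * s⁻¹ = y⁻¹) (hc : c ∈ 𝐂[y]) (co : orderOf c = p) (cs : c ∈ 𝐂[s])
    (ct : t * c * t⁻¹ = c⁻¹) : ∃ b ∈ 𝐂[c], orderOf b = p ∧ (b ∈ 𝐂[t] ∨ b ∈ 𝐂[t * s]) := by
  haveI := Fact.mk h.pp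
  have oc : Odd (orderOf c) := co ▸ h.pp.odd_of_ne_two h.p2
  obtain ⟨K, hK, ht | ht⟩ := h.tor_of_inv hy y1 ho hs s2 hi
  · have cf := h.cf hs (fun e => y1 (SE.eq_one_of_inv ho hi (e ▸ one_mem _))) s2
      fun e => y1 (SE.eq_one_of_inv ho hi (e ▸ mem_cent1_comm.1 hy))
    have sd := h.sd_cent hy fun _ => tor_inv ht h.oddr hK y1
    have hU : S4 t s ≤ 𝐍(O 𝐂[y]) := le_norm_Opi _ (cent_zpowers y ▸ le_norm_cent
      (S4_le.2 ⟨norm_zp_of_cent hy, norm_zp_of_inv hi⟩))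
    have oY := odd_O 𝐂[y]
    obtain ⟨R, hR, hRn, hcR⟩ := exists_invariant_sylow_ge hU (cf.pair.coprime oY).symm
      (.inr (sol_of_odd oY)) (zpowers_le.2 (mem_O_of_sd sd h.t2 hc oc)) (isPGroup_zp co)
      (S4_le.2 ⟨norm_zp_of_inv ct, norm_zp_of_cent cs⟩)
    obtain ⟨z, hz, zo⟩ := cauchy h.pp (ht.card ▸ h.p_dvd : p ∣ ♯K)
    have hzt := h.LC (ht.le hz)
    obtain ⟨e, he, hzR⟩ := exists_le_invariant_sylow_conj (zpowers_le.2 (hU (t_mem_S4 t s)))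
      (coprime_zp oY h.t2).symm (.inr (sol_of_odd oY)) hR (zpowers_le.2 (hRn (t_mem_S4 t s)))
      (zpowers_le.2 (mem_O_of_sd sd h.t2 (le_cent1_iff.2 (Ab.le_cent (ab_of_isCyclic ht.cyc) hK) hz)
        (zo ▸ h.pp.odd_of_ne_two h.p2))) (isPGroup_zp zo) (zpowers_le.2 (norm_zp_of_cent hzt))
    have hZ : IsPGroup p (Zc R) := hR.isPGroup.to_le (Zc_le R)
    have k1 : ∀ v, Zc R ⊓ 𝐂[v] ≠ ⊥ → ∃ b ∈ 𝐂[c], orderOf b = p ∧ b ∈ 𝐂[v] := fun v e => by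
      obtain ⟨b, hb, e⟩ := cauchy h.pp (dvd_card_of_isPGroup (hZ.to_le inf_le_left) e)
      exact ⟨b, cent_le_cent1 (zpowers_le.1 hcR) hb.1.2, e, hb.2⟩
    by_cases e1 : Zc R ⊓ 𝐂[t] = ⊥
    · by_cases e2 : Zc R ⊓ 𝐂[t * s] = ⊥
      · have h3 : Zc R ≤ 𝐂[s] := cf.pair.le_of_forall (le_norm_Zc hRn) (odd_of_isPGroup h.p2 hZ)
          (e1.le.trans bot_le) inf_le_right (e2.le.trans bot_le)
        have h4 := cf.mem_of (s_mem_S4 t s) cf.pair.s_ne hR.isPGroup ⟨zpowers_le.1 hcR, cs⟩ co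
          (Zc_le R) (by
            rw [inf_eq_left.2 h3]
            exact Zc_ne_bot hR.nil fun e => by
              rw [mem_bot.1 (e.le (zpowers_le.1 hcR)), orderOf_one] at co
              exact h.pp.one_lt.ne co)
        refine ⟨e⁻¹ * z * e, le_cent1_iff.2 h4.2 (mem_conj.1 (zpowers_le.1 hzR)),
          (orderOf_conj' e z).trans zo, .inl ?_⟩
        have := cent_zpowers t ▸ he.2
        exact mul_mem (mul_mem (inv_mem this) hzt) this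
      · obtain ⟨b, h1, h2, h3⟩ := k1 _ e2
        exact ⟨b, h1, h2, .inr h3⟩
    · obtain ⟨b, h1, h2, h3⟩ := k1 _ e1
      exact ⟨b, h1, h2, .inl h3⟩
  · obtain ⟨v, hv, v1, v2⟩ := SE.exists_inv (ht.card ▸ dvd_mul_right 2 k : 2 ∣ ♯K)
    have h1 := kl G t H L W S P T q r k h.toFr K ht v hv v1 v2 y hK
      (fun e => y1 (eq_one_of_odd_of_sq ho e)) hc
    have hp := pair_of (h.LC (ht.le hv)) h.t1 h.t2 v1 v2 fun e => h.tH (e ▸ h.le (ht.le hv))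
    have h2 : c ∈ S4 t v := inv_mem_iff.1 (odd_of_sq_mem (by rwa [orderOf_inv]) (by
      have := mul_mem (t_mem_S4 t v) (inv_mem (conj_mem_of_norm h1 (t_mem_S4 t v)))
      rwa [show t * (c * t * c⁻¹)⁻¹ = t * c * t⁻¹ * c⁻¹ by group, ct] at this))
    rw [eq_one_of_odd_of_sq oc (by rw [← pow_two]; exact hp.isEp.abelem.2 c h2), orderOf_one] at co
    exact absurd co h.pp.one_lt.ne

variable (hu : u ∈ S) (hi : ∀ x ∈ T, u * x * u⁻¹ = x⁻¹)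
include hu hi

theorem ut : u ∈ 𝐂[t] := le_cent1_iff.2 (Ab.le_cent h.abS h.tS) hu

theorem u1 : u ≠ 1 := fun e => h.a1 (SE.eq_one_of_inv h.odda (hi a h.aT) (e ▸ one_mem _))

theorem une : u ≠ t := fun e =>
  h.a1 (SE.eq_one_of_inv h.odda (hi a h.aT) (e ▸ mem_cent1_comm.1 h.at'))

theorem cfu : Cf p t u := h.cf (h.ut hu hi) (h.u1 hu hi) (h.sq u hu) (h.une hu hi)

theorem hi' : ∀ x ∈ T, t * u * x * (t * u)⁻¹ = x⁻¹ := fun x hx => by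
  rw [show t * u * x * (t * u)⁻¹ = t * (u * x * u⁻¹) * t⁻¹ by group, hi x hx]
  exact mem_cent1_iff_conj.1 (mem_cent1_comm.1 (inv_mem (h.LC (h.tor.le hx))))

theorem Un : S4 t u ≤ 𝐍(zpowers a) := S4_le.2 ⟨norm_zp_of_cent h.at', norm_zp_of_inv (hi a h.aT)⟩

theorem UO : S4 t u ≤ 𝐍(O 𝐂[a]) := le_norm_Opi _ (cent_zpowers a ▸ le_norm_cent (h.Un hu hi))

theorem O_fpf : O 𝐂[a] ⊓ 𝐂(S4 t u) = ⊥ := eq_bot_iff.2 fun x hx => by
  have h1 := cent_S4 t u ▸ hx.2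
  have ho := odd_of_mem (odd_O _) hx.1
  exact SE.eq_one_of_inv ho (hi x (h.cT.le ⟨h.mem_H h1.1 ho, Opi_le _ _ hx.1⟩))
    (mem_cent1_comm.1 h1.2)

theorem inv_t (hy : y ∈ O 𝐂[a] ⊓ 𝐂[u]) : t * y * t⁻¹ = y⁻¹ :=
  conj_eq_inv h.t2 (mem_norm_inf (h.UO hu hi (t_mem_S4 t u))
    (le_norm_self _ (mem_cent1_comm.1 (h.ut hu hi)))) (by
      rw [inf_assoc, inf_comm 𝐂[u], ← cent_S4, h.O_fpf hu hi]) hy

theorem mx : ∃ R, Mx p (S4 t u) a R := by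
  haveI := Fact.mk h.pp
  have oY := odd_O 𝐂[a]
  have hc := ((h.cfu hu hi).pair.coprime oY).symm
  obtain ⟨R, hR, hn⟩ := exists_invariant_sylow p (h.UO hu hi) hc (.inr (sol_of_odd oY))
  refine ⟨R, hR.hall.trans_of_relIndex (Opi_le _ _) ((isPiNum_compl_singleton h.pp).2 (by
    rw [h.sda.relIndex_left, Nat.card_zpowers, orderOf_eq_two h.t2 h.t1]; exact h.np_two)) |>.syl,
    hn, fun Q h1 h2 h3 => ?_⟩
  obtain ⟨c, hc, e⟩ := exists_le_invariant_sylow_conj (h.UO hu hi) hc (.inr (sol_of_odd oY)) hR hn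
    (le_O_of_sd h.sda h.t2 h1 (odd_of_isPGroup h.p2 h2)) h2 h3
  rwa [mem_bot.1 ((h.O_fpf hu hi).le hc), ← conj_eq_map, one_conj] at e

theorem part3 (hQ : Q ≤ O 𝐂[a]) (h3 : IsPGroup 3 Q) : Q ⊓ 𝐂[u] ≤ ⊥ := by
  haveI : Fact (Nat.Prime 3) := ⟨Nat.prime_three⟩
  by_contra e
  obtain ⟨y, hy, ho⟩ := cauchy Nat.prime_three
    (dvd_card_of_isPGroup (h3.to_le inf_le_left) fun e' => e e'.le)
  exact h.r3 ho (h.u1 hu hi) (h.sq u hu) hy.2 t (h.inv_t hu hi ⟨hQ hy.1, hy.2⟩)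

theorem c3 : ¬ 3 ∣ ♯𝐂[a] := fun e => by
  haveI : Fact (Nat.Prime 3) := ⟨Nat.prime_three⟩
  have oY := odd_O 𝐂[a]
  have hp := (h.cfu hu hi).pair
  obtain ⟨Q, hQ, hn⟩ := exists_invariant_sylow 3 (h.UO hu hi) (hp.coprime oY).symm
    (.inr (sol_of_odd oY))
  obtain ⟨y, hy, ho⟩ := cauchy Nat.prime_three e
  refine hQ.ne_bot (ho ▸ orderOf_dvd_card (mem_O_of_sd h.sda h.t2 hy (ho ▸ by decide)))
    (le_bot_iff.1 (hp.le_of_forall hn (odd_of_le oY hQ.le) ?_ (h.part3 hu hi hQ.le hQ.isPGroup)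
      (h.part3 (mul_mem h.tS hu) (h.hi' hu hi) hQ.le hQ.isPGroup)))
  by_contra e
  obtain ⟨y, hy, ho⟩ := cauchy Nat.prime_three
    (dvd_card_of_isPGroup (hQ.isPGroup.to_le inf_le_left) fun e' => e e'.le)
  exact h.not_three h.torT (.inl rfl)
    (h.cT.le ⟨h.mem_H hy.2 (ho ▸ by decide), Opi_le _ _ (hQ.le hy.1)⟩) ho

theorem exists_gd (rot : Rot t u g) : ∃ ρ ∈ 𝐍(S4 t u), ρ ∉ 𝐂(S4 t u) ∧ Gd p ρ := by
  haveI : Fact (Nat.Prime 2) := ⟨Nat.prime_two⟩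
  haveI : Fact (Nat.Prime 3) := ⟨Nat.prime_three⟩
  have hp := (h.cfu hu hi).pair
  have hU : S4 t u ≤ S := S4_le.2 ⟨h.tS, hu⟩
  have hWS : W ≤ 𝐂(S) := h.centS ▸ le_sup_right
  obtain ⟨c, hc, n, hn, rfl⟩ := ((h.syl.hall.mono ((Ab.le_cent h.abS).trans (cent_anti hU))
    le_top).syl.frattini ⟨cent_le_norm _, norm_le_norm_cent _⟩).mem_iff.1 rot.norm
  have rn : Rot t u n := rot_of h.ab2 hp hn.1 (by
    have := mem_cent_iff_conj.1 (inv_mem hc) u (s_mem_S4 t u)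
    rw [← this, ← rot.ρt]; group)
  obtain ⟨ρ, hρ, ρ1⟩ := h.exρ rfl
  obtain ⟨V, hV⟩ := exists_syl 3 W
  have hn' : zpowers ρ ≤ 𝐍(V) :=
    zpowers_le.2 (cent_le_norm _ (cent_anti hV.le (h.normS hρ.2)))
  have ho := (h.gd hρ.1 ρ1).ord
  have hle : zpowers ρ ⊔ V ≤ 𝐍(S) :=
    sup_le (zpowers_le.2 hρ.2) (hV.le.trans (hWS.trans (cent_le_norm _)))
  have hR : Syl 3 (zpowers ρ ⊔ V) 𝐍(S) := by
    refine ⟨hle, isPGroup_sup (isPGroup_zp ho) hV.isPGroup (.inl hn'), fun e => ?_⟩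
    have h1 := card_mul_relIndex hle
    rw [card_sup_of_inf_eq_bot (.inl hn') (le_bot_iff.1 (h.inf ▸ inf_le_inf
      (zpowers_le.2 (h.uni.le hρ.1)) hV.le)), Nat.card_zpowers, ho, h.card_normS,
      ← card_mul_relIndex hV.le] at h1
    have h2 : (zpowers ρ ⊔ V).relIndex 𝐍(S) = 56 * V.relIndex W :=
      Nat.eq_of_mul_eq_mul_left (Nat.mul_pos three_pos (card_pos' V)) (h1.trans (by ring))
    have h3 := hV.not_dvd
    omega
  obtain ⟨m, hm, e⟩ := hR.exists_le_conj' (zpowers_le.2 (constt_mem {3} hn.2))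
    (isPGroup_zpowers_iff.2 (piElt_constt _ _))
  obtain ⟨_, h1, e⟩ := mem_conj_iff_exists.1 (zpowers_le.1 e)
  obtain ⟨σ, hσ, w, hw, rfl⟩ := (mem_sup_norm_right hn').1 h1
  have h2 : w ∈ 𝐂(S4 t u) := cent_anti hU (hWS (hV.le hw))
  rw [← conj_mul, mem_cent_iff_conj.1 (h.normS hm) w (hV.le hw)] at e
  have h3 : m * σ * m⁻¹ ∉ 𝐂(S4 t u) := fun e' =>
    constt_three h.ab2 hp rn (e ▸ mul_mem e' h2)
  exact ⟨_, (mul_mem_cancel_right (cent_le_norm _ h2)).1 (e ▸ constt_mem {3} hn.1), h3,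
    (h.gd (zpowers_le.2 hρ.1 hσ) fun e' => h3 (by simp [e'])).conj m⟩

theorem no_b (hb : b ∈ 𝐂[a]) (bu : b ∈ 𝐂[u]) (bo : orderOf b = p) : False := by
  haveI := Fact.mk h.pp
  haveI : Fact (Nat.Prime 3) := ⟨Nat.prime_three⟩
  have cf := h.cfu hu hi
  have hLa : ♯(L ⊓ 𝐍(zpowers a) : Subgroup G) = 2 * r :=
    h.torT.norm a h.aT h.a1 ▸ h.torT.card_norm
  have n8 : ¬ 8 ∣ ♯𝐍(zpowers a) := not_eight h.ab2 (norm_zp_of_cent h.at') h.t2 fun e => by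
    have h1 := (e.trans (h.idx inf_le_right)).trans
      (mul_dvd_mul_right (card_dvd (inf_le_inf_left L inf_le_left)) _)
    obtain ⟨m, hm⟩ := h.oddr.mul h.oddW
    rw [hLa, mul_mul_mul_comm, hm] at h1
    omega
  have hbt := h.inv_t hu hi ⟨mem_O_of_sd h.sda h.t2 hb (bo ▸ h.pp.odd_of_ne_two h.p2), bu⟩
  obtain ⟨g, hg, e⟩ : ∃ g : G, g * t * g⁻¹ = u ∧ g •ᶜ zpowers a = zpowers b := by
    obtain ⟨g, rfl⟩ := h.conj u (h.u1 hu hi) (h.sq u hu)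
    obtain ⟨c, hc, e⟩ := h.conj_zp (mem_conj.1 (cent1_conj g t ▸ bu)) ((orderOf_conj' g b).trans bo)
    refine ⟨g * c⁻¹, ?_, ?_⟩
    · rw [show g * c⁻¹ * t * (g * c⁻¹)⁻¹ = g * (c⁻¹ * t * c⁻¹⁻¹) * g⁻¹ by group,
        mem_cent1_iff_conj.1 (inv_mem hc)]
    · rw [← e, conj_conj, conj_zpowers]; congr 1; group
  have hp : Pair 𝐍(zpowers a) t u := { cf.pair with
    t_mem := h.Un hu hi (t_mem_S4 t u), s_mem := h.Un hu hi (s_mem_S4 t u), not_dvd := n8 }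
  obtain ⟨c, hc, e'⟩ := hp.exists_pair (a := g⁻¹ * t * g)
    ⟨mem_conj.1 (by rw [← norm_conj, e]; exact norm_zp_of_inv hbt),
      mem_conj.1 (by rw [← cent1_conj, hg]; exact mem_cent1_comm.1 (h.ut hu hi))⟩
    (by simpa using conj_ne_one (g := g⁻¹) |>.2 h.t1) (by simpa using conj_sq h.t2 g⁻¹)
    fun e' => h.une hu hi (by rw [← hg]; nth_rewrite 1 [← e']; group)
  have rot : Rot t u (g * c⁻¹) := rot_of h.ab2 hp (conj_eq_self_iff.1 (by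
    nth_rewrite 1 [← e']
    rw [conj_conj, inv_mul_cancel_right, conj_S4, hg, S4_comm]; congr 1; group)) (by
    rw [show g * c⁻¹ * t * (g * c⁻¹)⁻¹ = g * (c⁻¹ * t * c⁻¹⁻¹) * g⁻¹ by group,
      mem_cent1_iff_conj.1 (𝐂[t].inv_mem hc.2), hg])
  obtain ⟨R, mx⟩ := h.mx hu hi
  obtain ⟨ρ, h1, h2, gd⟩ := h.exists_gd hu hi rot
  obtain ⟨V, hV⟩ := exists_syl 3 W
  have hVU : V ≤ 𝐂(S4 t u) :=
    hV.le.trans ((h.centS ▸ le_sup_right : W ≤ 𝐂(S)).trans (cent_anti (S4_le.2 ⟨h.tS, hu⟩)))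
  have hUt := cent_le_cent1 (t_mem_S4 t u)
  refine core h.ab2 h.sq' h.p2 cf h.ord h.at' mx rot (zpowers_le.2 hb ?_) n8 (h.c3 hu hi)
    (isCyclic_of_le' h.cycW hV.le) (h.syl3 hV hVU hUt fun e => ?_) (h.syl3 hV (le_inf (hVU.trans hUt)
      (hV.le.trans (h.WT.trans (norm_le_norm_of_isCyclic h.tor.cyc (zpowers_le.2 h.aT)))))
      inf_le_left fun e => ?_) h1 h2 gd
  · rw [← e, ← conj_eq_of_mem_norm (𝐍(zpowers a).inv_mem hc.1), conj_conj]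
    exact conj_mem_conj (mem_zpowers a)
  · obtain ⟨y, hy, ho⟩ := cauchy Nat.prime_three e
    obtain ⟨K, hK, hK'⟩ := h.uni_of_three hy.1 ho
    have h3 := cent_S4 t u ▸ hy.2
    rcases (mem_zp h.t2).1 (h.mem_zp_t h3.1 (fun _ => uni_inv hK' hK fun e => by simp [e] at ho)
      (mem_cent1_comm.1 h3.2) (h.ut hu hi) (h.sq u hu)) with e | e
    exacts [h.u1 hu hi e, h.une hu hi e]
  · have h3 := e.trans (card_dvd (inf_le_inf_left L inf_le_right))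
    have := h.par'
    omega

theorem part_bot (kl : KL.{u}) : O 𝐂[a] ⊓ 𝐂[u] ≤ ⊥ := fun y hy => by
  by_contra y1
  have hyt := h.inv_t hu hi hy
  obtain ⟨g, hg⟩ := h.conj u (h.u1 hu hi) (h.sq u hu)
  have e : g⁻¹ * u * g⁻¹⁻¹ = t := by rw [← hg]; group
  obtain ⟨b, h1, h2, h3⟩ := h.step0 kl (e ▸ mem_cent1_conj hy.2 g⁻¹) (conj_ne_one.2 y1)
    ((orderOf_conj g⁻¹ y).symm ▸ odd_of_mem (odd_O _) hy.1)
    (e ▸ mem_cent1_conj (mem_cent1_comm.1 (h.ut hu hi)) g⁻¹) (conj_sq h.t2 g⁻¹)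
    (by rw [conj_inv, conj_inv, conj_mul, conj_mul, hyt])
    (mem_cent1_conj (mem_cent1_comm.1 (Opi_le _ _ hy.1)) g⁻¹) ((orderOf_conj g⁻¹ a).trans h.ord)
    (mem_cent1_conj h.at' g⁻¹) (by rw [← e, conj_inv, conj_inv, conj_mul, conj_mul, hi a h.aT])
  have h4 : g * b * g⁻¹ ∈ 𝐂[a] := by
    have := mem_cent1_conj h1 g
    rwa [show g * (g⁻¹ * a * g⁻¹⁻¹) * g⁻¹ = a by group] at this
  have h5 := (orderOf_conj g b).trans h2
  rcases h3 with h3 | h3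
  · exact h.no_b hu hi h4 (hg ▸ mem_cent1_conj h3 g) h5
  · refine h.no_b (mul_mem h.tS hu) (h.hi' hu hi) h4 ?_ h5
    have := mem_cent1_conj h3 g
    rwa [show g * (t * (g⁻¹ * t * g⁻¹⁻¹)) * g⁻¹ = g * t * g⁻¹ * t by group, hg,
      mem_cent1.1 (h.ut hu hi)] at this

end IV.Fa

theorem iv (kl : KL.{u}) : IV.{u} := by
  intro G _ _ t H L W S P T q r k h x hx hp hW hc
  have h' : IV.Fa t H L W S P T q r k (orderOf x) x := ⟨h, hx, rfl, hp, hW, hc⟩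
  obtain ⟨j, hj, h1, h2⟩ := h.exj
  have hi := (h.tor.inv j ⟨hj.2, h1⟩ h2).2
  rw [← h'.sda.sup_eq]
  exact sup_le ((h'.cfu hj.1 hi).pair.le_of_forall (h'.UO hj.1 hi) (odd_O _) inf_le_right
    ((h'.part_bot hj.1 hi kl).trans bot_le)
    ((h'.part_bot (mul_mem h.tS hj.1) (h'.hi' hj.1 hi) kl).trans bot_le))
    (zpowers_le.2 (mem_cent1_self t))

end Cfsg.Agent.JR
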