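import Cfsg.Agent.Lib.JR.Hyp
import Cfsg.Agent.Lib.SE.N1
import Cfsg.Agent.Lib.Core.Stable2

/-!
# Package IV, part a: a four-group acting on `p`-groups with cyclic fixed points
-/

set_option autoImplicit false
set_option linter.unusedSectionVars false

namespace Cfsg.Agent.JR.IV

open Subgroup Cfsg.Agent.OO Cfsg.Agent.Coprime Cfsg.Agent.R1 Cfsg.Agent.GW
open scoped commutatorElement Pointwise

universe u

variable {G : Type u} [Group G] [Finite G] {p : ℕ} {t u s a b g x y z : G}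
  {E F Q T U X Y : Subgroup G}

/-- `p`-subgroups centralizing an involution of `⟨t, u⟩` are cyclic, those centralizing `⟨t, u⟩`
are trivial -/
structure Cf (p : ℕ) (t u : G) : Prop where
  pair : Pair (S4 t u) t u
  cyc : ∀ s ∈ S4 t u, s ≠ 1 → ∀ Q ≤ 𝐂[s], IsPGroup p Q → IsCyclic Q
  fpf : ∀ Q ≤ 𝐂(S4 t u), IsPGroup p Q → Q = ⊥

/-- `T` is a `U`-invariant Sylow subgroup of `C(a)` containing all `U`-invariant `p`-subgroups -/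
structure Mx (p : ℕ) (U : Subgroup G) (a : G) (T : Subgroup G) : Prop where
  syl : Syl p T 𝐂[a]
  norm : U ≤ 𝐍(T)
  max : ∀ Q ≤ 𝐂[a], IsPGroup p Q → U ≤ 𝐍(Q) → Q ≤ T

/-- `g` permutes the involutions of `⟨t, u⟩` cyclically -/
structure Rot (t u g : G) : Prop where
  ρt : g * t * g⁻¹ = u
  ρu : g * u * g⁻¹ = t * u

theorem Cf.symm (h : Cf p t u) : Cf p u t :=
  ⟨S4_comm t u ▸ h.pair.symm, S4_comm t u ▸ h.cyc, S4_comm t u ▸ h.fpf⟩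

theorem Cf.mul (h : Cf p t u) : Cf p t (t * u) :=
  ⟨(S4_mul t u).symm ▸ h.pair.mul, (S4_mul t u).symm ▸ h.cyc, (S4_mul t u).symm ▸ h.fpf⟩

theorem Mx.conj (h : Mx p U a T) (hg : g ∈ 𝐍(U)) : Mx p U (g * a * g⁻¹) (g •ᶜ T) := by
  refine ⟨cent1_conj g a ▸ h.syl.conj g, ?_, fun Q h1 h2 h3 => ?_⟩
  · rw [← conj_eq_of_mem_norm hg]; exact conj_le_norm_conj.2 h.norm
  · rw [le_conj_iff_inv_conj_le]
    refine h.max _ (by rwa [← le_conj_iff_inv_conj_le, ← cent1_conj]) (isPGroup_conj.2 h2) ?_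
    rw [← conj_eq_of_mem_norm (inv_mem hg)]; exact conj_le_norm_conj.2 h3

theorem Mx.mem_norm (h : Mx p U a T) (hg : g ∈ 𝐍(U)) (hT : T ≤ 𝐂[g * a * g⁻¹]) : g ∈ 𝐍(T) :=
  conj_eq_self_iff.1 (eq_of_le_of_card_le ((h.conj hg).max T hT h.syl.isPGroup h.norm)
    (card_conj g T).le).symm

theorem Rot.ρtu (h : Rot t u g) (hp : Pair X t u) : g * (t * u) * g⁻¹ = t := by
  rw [← conj_mul, h.ρt, h.ρu, ← mul_assoc, ← hp.comm.eq, mul_assoc, hp.s_sq, mul_one]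

theorem Rot.inv (h : Rot t u g) (hp : Pair X t u) : Rot t (t * u) g⁻¹ := by
  refine ⟨?_, ?_⟩
  · nth_rewrite 1 [← h.ρtu hp]; group
  · rw [← mul_assoc t, hp.t_sq, one_mul, ← h.ρu]; group

theorem Rot.norm (h : Rot t u g) : g ∈ 𝐍(S4 t u) :=
  mem_norm_of_conj_le (by
    rw [conj_S4, h.ρt, h.ρu]
    exact S4_le.2 ⟨s_mem_S4 _ _, mul_mem (t_mem_S4 _ _) (s_mem_S4 _ _)⟩)

theorem mul_mem_S4 (t u : G) : t * u ∈ S4 t u := mul_mem (t_mem_S4 _ _) (s_mem_S4 _ _)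

theorem norm_zp_of_inv (h : s * a * s⁻¹ = a⁻¹) : s ∈ 𝐍(zpowers a) :=
  mem_norm_of_conj_le (by rw [conj_zpowers, h, zpowers_inv])

theorem norm_zp_of_cent (h : a ∈ 𝐂[s]) : s ∈ 𝐍(zpowers a) :=
  cent_le_norm _ (cent_zpowers a ▸ mem_cent1_comm.1 h)

theorem mem_cent1_conj (h : x ∈ 𝐂[s]) (g : G) : g * x * g⁻¹ ∈ 𝐂[g * s * g⁻¹] :=
  cent1_conj g s ▸ conj_mem_conj h

theorem odd_of_sq_mem (ho : Odd (orderOf x)) (h : x * x ∈ Y) : x ∈ Y :=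
  zpowers_le.2 (pow_two x ▸ h) (mem_zpowers_pow_iff.2 (Nat.coprime_two_left.2 ho))

theorem odd_of_piElt (h : PiElt ({2} : Set ℕ)ᶜ x) : Odd (orderOf x) :=
  Nat.odd_iff.2 (by have := (isPiNum_compl_singleton Nat.prime_two).1 h; omega)

/-- the `2`-part of an element inverting `y` inverts `y` -/
theorem constt_inv (h : g * y * g⁻¹ = y⁻¹) : constt {2} g * y * (constt {2} g)⁻¹ = y⁻¹ := by
  have h1 : g * g ∈ 𝐂[y] := mem_cent1_iff_conj.2 (by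
    rw [show g * g * y * (g * g)⁻¹ = g * (g * y * g⁻¹) * g⁻¹ by group, h,
      show g * y⁻¹ * g⁻¹ = (g * y * g⁻¹)⁻¹ by group, h, inv_inv])
  have h2 : constt ({2} : Set ℕ)ᶜ g ∈ 𝐂[y] := odd_of_sq_mem (odd_of_piElt (piElt_constt _ g)) (by
    rw [← constt_mul_of_commute _ (Commute.refl g)]; exact constt_mem _ h1)
  have h3 := mem_cent1_iff_conj.1 h2
  nth_rewrite 1 [← h3]
  rw [← h]
  nth_rewrite 5 6 [← constt_mul_constt_compl {2} g]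
  group

theorem tri (hy : t * y * t⁻¹ = y⁻¹) (hx : x ∈ 𝐂[t]) (ho : Odd (orderOf ⁅y, x⁆))
    (h1 : ⁅y, x⁆ ∈ 𝐂[t]) (h2 : ⁅y, x⁆ ∈ 𝐂[y]) : x ∈ 𝐂[y] := by
  have e : ⁅y, x⁆ = 1 := SE.eq_one_of_inv (t := t) ho (by
    have h3 := mem_cent1_iff_conj.1 (mem_cent1_comm.1 hx)
    have h4 := mem_cent1_iff_conj.1 (inv_mem (mem_cent1_comm.1 (inv_mem h2)))
    rw [← h4]
    simp only [commutatorElement_def]
    rw [show t * (y * x * y⁻¹ * x⁻¹) * t⁻¹ = (t * y * t⁻¹) * (t * x * t⁻¹) * (t * y * t⁻¹)⁻¹ *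
      (t * x * t⁻¹)⁻¹ by group, hy, h3]
    group) (mem_cent1_comm.1 h1)
  exact mem_cent1.2 (commutatorElement_eq_one_iff_mul_comm.1 e).symm

/-- an element normalizing a four-group and centralizing one of its involutions centralizes it -/
theorem cent_of_norm (h2 : Ab2 G) (h : Pair X t u) (hn : g ∈ 𝐍(S4 t u)) (hc : g ∈ 𝐂[t]) :
    g ∈ 𝐂[u] := by
  haveI : Fact (Nat.Prime 2) := ⟨Nat.prime_two⟩
  refine mem_of_constt_mem (π := {2}) ?_ ?_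
  · have := h2 _ (isPGroup_sup (isPGroup_zpowers_iff.2 (piElt_constt {2} g)) h.isEp.isPGroup
      (.inl (zpowers_le.2 (constt_mem _ hn))))
    exact mem_cent1.2 (ab_iff.1 this _ (mem_sup_left (mem_zpowers _)) _
      (mem_sup_right (s_mem_S4 t u)))
  refine odd_of_sq_mem (odd_of_piElt (piElt_constt _ g)) ?_
  obtain ⟨y, hy⟩ : ∃ y, y = constt ({2} : Set ℕ)ᶜ g := ⟨_, rfl⟩
  have h2 := mem_cent1_iff_conj.1 (hy ▸ constt_mem ({2} : Set ℕ)ᶜ hc)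
  rw [← hy]
  refine mem_cent1_iff_conj.2 ?_
  rw [show y * y * u * (y * y)⁻¹ = y * (y * u * y⁻¹) * y⁻¹ by group]
  rcases h.mem_S4.1 (conj_mem_of_norm (hy ▸ constt_mem ({2} : Set ℕ)ᶜ hn) (s_mem_S4 t u)) with
    e | e | e | e
  · exact absurd e (conj_ne_one.2 h.s_ne)
  · exact absurd (by simpa using h2.trans e.symm) h.ne
  · rw [e, e]
  · rw [e, ← conj_mul, h2, e, ← mul_assoc, h.t_sq, one_mul]

theorem rot_of (h2 : Ab2 G) (h : Pair X t u) (hn : g ∈ 𝐍(S4 t u)) (e : g * t * g⁻¹ = u) :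
    Rot t u g := by
  refine ⟨e, ?_⟩
  rcases h.mem_S4.1 (conj_mem_of_norm hn (s_mem_S4 t u)) with e2 | e2 | e2 | e2
  · exact absurd e2 (conj_ne_one.2 h.s_ne)
  · refine absurd (e.symm.trans (mem_cent1_iff_conj.1 (cent_of_norm h2 h.mul.symm ?_ ?_))) h.ne.symm
    · rwa [S4_comm, S4_mul]
    · exact mem_cent1_iff_conj.2 (by rw [← conj_mul, e, e2, h.comm.eq])
  · exact absurd (by simpa using e.trans e2.symm) h.ne
  · exact e2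

theorem rot_or (h2 : Ab2 G) (h : Pair X t u) (hn : g ∈ 𝐍(S4 t u)) (hc : g ∉ 𝐂(S4 t u)) :
    Rot t u g ∨ Rot t u g⁻¹ := by
  rcases h.mem_S4.1 (conj_mem_of_norm hn (t_mem_S4 t u)) with e | e | e | e
  · exact absurd e (conj_ne_one.2 h.t_ne)
  · exact absurd (cent_S4 t u ▸ ⟨mem_cent1_iff_conj.2 e,
      cent_of_norm h2 h hn (mem_cent1_iff_conj.2 e)⟩) hc
  · exact .inl (rot_of h2 h hn e)
  · have := (rot_of h2 h.mul (by rwa [S4_mul]) e).inv h.mul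
    rw [← mul_assoc, h.t_sq, one_mul] at this
    exact .inr this

variable [hp : Fact p.Prime]

theorem orderOf_of_pow (h : x ^ p = 1) (h1 : x ≠ 1) : orderOf x = p := orderOf_eq_prime h h1

theorem isPGroup_zp (ha : orderOf a = p) : IsPGroup p (zpowers a) :=
  (isEp_zpowers (mem_top a) ha).isPGroup

theorem mem_zp_symm (ha : orderOf a = p) (hx : x ∈ zpowers a) (h1 : x ≠ 1) : a ∈ zpowers x := by
  rw [eq_zpowers_of_prime (by rw [Nat.card_zpowers, ha]; exact hp.out) hx h1]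
  exact mem_zpowers a

/-- elements real because an involution inverts a Sylow subgroup -/
theorem real_of (ho : Odd ♯Y) (s2 : s * s = 1) (hn : s ∈ 𝐍(Y)) (hc : ¬ p ∣ ♯(Y ⊓ 𝐂[s]))
    (hy : y ∈ Y) (hyp : IsPGroup p (zpowers y)) : ∃ h : G, h * y * h⁻¹ = y⁻¹ := by
  obtain ⟨Q, hQ, hn'⟩ := exists_invariant_sylow p (zpowers_le.2 hn) (coprime_zp ho s2).symm
    (.inr (sol_of_odd ho))
  obtain ⟨c, -, hc'⟩ := hQ.exists_conj_le (zpowers_le.2 hy) hyp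
  have h0 : Q ⊓ 𝐂[s] = ⊥ := by
    by_contra h0
    exact hc ((dvd_card_of_isPGroup (hQ.isPGroup.to_le inf_le_left) h0).trans
      (card_dvd (inf_le_inf_right _ hQ.le)))
  have := conj_eq_inv s2 (zpowers_le.1 hn') h0 (hc' (conj_mem_conj (mem_zpowers y)))
  exact ⟨c⁻¹ * s * c, by
    rw [show c⁻¹ * s * c * y * (c⁻¹ * s * c)⁻¹ = c⁻¹ * (s * (c * y * c⁻¹) * s⁻¹) * c by group, this]
    group⟩

/-- `p`-stability -/
theorem quad (h2 : Ab2 G) (p2 : p ≠ 2) (hE : IsElementaryAbelian p E) (hQ : Syl p Q 𝐍(E))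
    (hx : x ∈ 𝐍(E)) (hq : ∀ v ∈ E, ⁅x, ⁅x, v⁆⁆ = 1) : E ⊓ 𝐂(Q) ≤ 𝐂[x] := by
  have := Core.mem_sup_relCentralizer_of_quadratic (N := ⊥) p2 (fun P _ => h2 P) le_rfl
    le_normalizer_of_normal (ab_iff_der.1 hE.1).le (fun v hv => mem_bot.2 (hE.2 v hv)) hQ hx
    fun v hv => mem_bot.2 (hq v hv)
  refine le_cent1_iff.2 ((sup_le ?_ ?_ : _ ≤ 𝐂(E ⊓ 𝐂(Q))) this)
  · exact le_cent_symm inf_le_right
  · exact inf_le_right.trans ((Core.relCentralizer_bot_le _).trans (cent_anti inf_le_left))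

theorem quad_irr (h2 : Ab2 G) (p2 : p ≠ 2) (hE : IsElementaryAbelian p E)
    (hi : ∀ F ≤ E, 𝐍(E) ≤ 𝐍(F) → F ≠ ⊥ → E ≤ F) (hx : x ∈ 𝐍(E))
    (hq : ∀ v ∈ E, ⁅x, ⁅x, v⁆⁆ = 1) : x ∈ 𝐂(E) := by
  rcases eq_or_ne E ⊥ with rfl | h0
  · rw [cent_bot]; exact mem_top x
  obtain ⟨Q, hQ⟩ := exists_syl p 𝐍(E)
  set K := closure {w | w ∈ 𝐍(E) ∧ ∀ v ∈ E, ⁅w, ⁅w, v⁆⁆ = 1}
  have h1 : 𝐍(E) ≤ 𝐍(K) := le_norm_closure fun m hm w hw =>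
    ⟨mul_mem (mul_mem hm hw.1) (inv_mem hm), fun v hv => by
      have := congrArg (fun z => m * z * m⁻¹) (hw.2 _ (conj_mem_of_norm' hm hv))
      simp only [mul_one, mul_inv_cancel] at this
      rw [← this]
      simp only [commutatorElement_def]
      group⟩
  have h3 : E ⊓ 𝐂(Q) ≤ E ⊓ 𝐂(K) := le_inf inf_le_left (le_cent_symm ((closure_le _).2
    fun w hw => le_cent1_iff.1 (quad h2 p2 hE hQ hw.1 hw.2)))
  have h4 := hi _ inf_le_left (le_norm_inf le_rfl (le_norm_cent h1)) fun e =>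
    inf_cent_ne_bot_of_isPGroup hQ.isPGroup (abelem_isPGroup hE) hQ.le h0 (le_bot_iff.1 (e ▸ h3))
  exact le_cent_symm (h4.trans inf_le_right) (subset_closure ⟨hx, hq⟩)

namespace Cf

variable (h : Cf p t u)
include h

theorem mem_zp (hs : s ∈ S4 t u) (s1 : s ≠ 1) (hQ : IsPGroup p Q) (ha : a ∈ Q ⊓ 𝐂[s])
    (ho : orderOf a = p) (hx : x ∈ Q ⊓ 𝐂[s]) (xp : x ^ p = 1) : x ∈ zpowers a := by
  rw [(isEp_zpowers ha ho).eq_Ohm_of_isCyclic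
    (h.cyc s hs s1 _ inf_le_right (hQ.to_le inf_le_left))]
  exact mem_Ohm hx xp

theorem mem_of (hs : s ∈ S4 t u) (s1 : s ≠ 1) (hQ : IsPGroup p Q) (ha : a ∈ Q ⊓ 𝐂[s])
    (ho : orderOf a = p) (hY : Y ≤ Q) (h0 : Y ⊓ 𝐂[s] ≠ ⊥) : a ∈ Y := by
  obtain ⟨x, hx, e⟩ := cauchy hp.out
    (dvd_card_of_isPGroup (hQ.to_le (inf_le_left.trans hY)) h0)
  exact zpowers_le.2 hx.1 (h.mem_zp hs s1 hQ ⟨hY hx.1, hx.2⟩ e ha (ho ▸ pow_orderOf_eq_one a))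

theorem comm (hs : s ∈ S4 t u) (s1 : s ≠ 1) (hQ : IsPGroup p Q) (ha : a ∈ Q ⊓ 𝐂[s]) :
    Q ⊓ 𝐂[s] ≤ 𝐂[a] :=
  le_cent1_iff.2 (Ab.le_cent (ab_of_isCyclic
    (h.cyc s hs s1 _ inf_le_right (hQ.to_le inf_le_left))) ha)

theorem inv (hQ : IsPGroup p Q) (hn : S4 t u ≤ 𝐍(Q)) (hx : x ∈ Q ⊓ 𝐂[u]) :
    t * x * t⁻¹ = x⁻¹ :=
  conj_eq_inv h.pair.t_sq (mem_norm_inf (hn (t_mem_S4 t u))
    (le_norm_self _ (mem_cent1.2 h.pair.comm))) (h.fpf _ (by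
      rw [cent_S4]; exact le_inf inf_le_right (inf_le_left.trans inf_le_right))
      (hQ.to_le (inf_le_left.trans inf_le_left))) hx

theorem part_le (hs : s ∈ S4 t u) (s1 : s ≠ 1) (hE : IsElementaryAbelian p E) (hF : F ≤ E)
    (h0 : F ⊓ 𝐂[s] ≠ ⊥) : E ⊓ 𝐂[s] ≤ F := fun x hx => by
  rcases eq_or_ne x 1 with rfl | x1
  · exact one_mem _
  exact h.mem_of hs s1 (abelem_isPGroup hE) hx (orderOf_of_pow (hE.2 x hx.1) x1) hF h0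

theorem le_of_parts (p2 : p ≠ 2) (hE : IsElementaryAbelian p E) (hn : S4 t u ≤ 𝐍(E)) (hF : F ≤ E)
    (h1 : F ⊓ 𝐂[t] ≠ ⊥) (h2 : F ⊓ 𝐂[u] ≠ ⊥) (h3 : F ⊓ 𝐂[t * u] ≠ ⊥) : E ≤ F :=
  h.pair.le_of_forall hn (odd_of_isPGroup p2 (abelem_isPGroup hE))
    (h.part_le (t_mem_S4 t u) h.pair.t_ne hE hF h1) (h.part_le (s_mem_S4 t u) h.pair.s_ne hE hF h2)
    (h.part_le (mul_mem_S4 t u) h.pair.mul_ne_one hE hF h3)

theorem irr' (p2 : p ≠ 2) (hE : IsElementaryAbelian p E) (hn : S4 t u ≤ 𝐍(E)) (hr : Rot t u g)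
    (hF : F ≤ E) (h1 : S4 t u ≤ 𝐍(F)) (h2 : g ∈ 𝐍(F)) (h0 : F ≠ ⊥) : E ≤ F := by
  have k : ∀ s s', g * s * g⁻¹ = s' → F ⊓ 𝐂[s] ≠ ⊥ → F ⊓ 𝐂[s'] ≠ ⊥ := fun s s' e h3 h4 => h3 (by
    rwa [← e, cent1_conj, ← conj_eq_of_mem_norm h2, ← conj_inf, conj_eq_bot_iff] at h4)
  have k1 := k _ _ hr.ρt
  have k2 := k _ _ hr.ρu
  have k3 := k _ _ (hr.ρtu h.pair)
  have k4 : F ⊓ 𝐂[t] ≠ ⊥ := fun e => h0 (le_bot_iff.1 (h.pair.le_of_forall h1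
    (odd_of_isPGroup p2 ((abelem_isPGroup hE).to_le hF)) e.le
    (not_not.1 fun e' => k3 (k2 e') e).le (not_not.1 fun e' => k3 e' e).le))
  exact h.le_of_parts p2 hE hn hF k4 (k1 k4) (k2 (k1 k4))

theorem irr (h2 : Ab2 G) (p2 : p ≠ 2) (hE : IsElementaryAbelian p E) (hn : S4 t u ≤ 𝐍(E))
    (hg : g ∈ 𝐍(S4 t u)) (hc : g ∉ 𝐂(S4 t u)) (hF : F ≤ E) (h1 : S4 t u ≤ 𝐍(F)) (h3 : g ∈ 𝐍(F))
    (h0 : F ≠ ⊥) : E ≤ F :=
  (rot_or h2 h.pair hg hc).elim (fun hr => h.irr' p2 hE hn hr hF h1 h3 h0)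
    fun hr => h.irr' p2 hE hn hr hF h1 (inv_mem h3) h0

end Cf

theorem Mx.mem (h : Mx p U a T) (ha : orderOf a = p) : a ∈ Zc T :=
  have h1 := le_cent1_iff.1 h.syl.le
  ⟨h.syl.mem_of_mem_norm (mem_cent1_self a) (cent_le_norm _ h1)
    (isPGroup_zpowers_iff.1 (isPGroup_zp ha)), h1⟩

theorem Mx.norm_zp (h : Mx p (S4 t u) a T) (cf : Cf p t u) (ha : orderOf a = p) (hat : a ∈ 𝐂[t]) :
    S4 t u ≤ 𝐍(zpowers a) :=
  S4_le.2 ⟨norm_zp_of_cent hat, norm_zp_of_inv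
    (cf.symm.inv h.syl.isPGroup (S4_comm t u ▸ h.norm) ⟨(h.mem ha).1, hat⟩)⟩

theorem norm_zp_conj (h : U ≤ 𝐍(zpowers a)) (hg : g ∈ 𝐍(U)) : U ≤ 𝐍(zpowers (g * a * g⁻¹)) := by
  rw [← conj_zpowers, ← conj_eq_of_mem_norm hg]; exact conj_le_norm_conj.2 h

theorem Mx.conj_mem (h : Mx p (S4 t u) a T) (cf : Cf p t u) (ha : orderOf a = p) (hat : a ∈ 𝐂[t])
    (hg : g ∈ 𝐍(S4 t u)) (hb : g * a * g⁻¹ ∈ 𝐂[a]) : g * a * g⁻¹ ∈ T :=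
  zpowers_le.1 (h.max _ (zpowers_le.2 hb) (isPGroup_zp ((orderOf_conj g a).trans ha))
    (norm_zp_conj (h.norm_zp cf ha hat) hg))

theorem inv_conj_mem_cent (hb : g * a * g⁻¹ ∈ 𝐂[a]) : g⁻¹ * a * g⁻¹⁻¹ ∈ 𝐂[a] := by
  have := mem_cent1_conj (mem_cent1_comm.1 hb) g⁻¹
  rwa [show g⁻¹ * (g * a * g⁻¹) * g⁻¹⁻¹ = a by group] at this

theorem half (h2 : Ab2 G) (p2 : p ≠ 2) (cf : Cf p t u) (ha : orderOf a = p) (hat : a ∈ 𝐂[t])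
    (mx : Mx p (S4 t u) a T) (rot : Rot t u g) (hb : g * a * g⁻¹ ∈ 𝐂[a]) (hZ : Zc T ≤ 𝐂[t])
    (hb2 : g * a * g⁻¹ ∈ Zn 2 T) : T ≤ 𝐂[g * a * g⁻¹] := by
  by_contra hcon
  have mx1 := mx.conj rot.norm
  have hT := mx.syl.isPGroup
  have oT := odd_of_isPGroup p2 hT
  have hc'T := mx.conj_mem cf ha hat (inv_mem rot.norm) (inv_conj_mem_cent hb)
  have hc'u : g⁻¹ * a * g⁻¹⁻¹ ∈ 𝐂[t * u] := (rot.inv cf.pair).ρt ▸ mem_cent1_conj hat g⁻¹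
  have hbo := (orderOf_conj g a).trans ha
  have hbu : g * a * g⁻¹ ∈ 𝐂[u] := rot.ρt ▸ mem_cent1_conj hat g
  have hUb := norm_zp_conj (mx.norm_zp cf ha hat) rot.norm
  have haT := mx.mem ha
  obtain ⟨b, eb⟩ : ∃ b, b = g * a * g⁻¹ := ⟨_, rfl⟩
  rw [← eb] at hb hb2 hcon mx1 hbo hbu hUb
  have hbT := Zn_le 2 T hb2
  have hUa : S4 t u ≤ 𝐍(𝐂[a]) := cent_zpowers a ▸ le_norm_cent (mx.norm_zp cf ha hat)
  have hUD : S4 t u ≤ 𝐍(T ⊓ 𝐂[b]) := le_norm_inf mx.norm (cent_zpowers b ▸ le_norm_cent hUb)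
  have hTD : T ≤ 𝐍(T ⊓ 𝐂[b]) := le_norm_of_der_le
    (le_inf (der_le T) (le_cent1_iff.2 (Zn_two_le_cent_der T hb2))) inf_le_left
  have hD1 : T ⊓ 𝐂[b] ≤ g •ᶜ T := mx1.max _ inf_le_right (hT.to_le inf_le_left) hUD
  have hD2 : g •ᶜ T ⊓ 𝐂[a] ≤ T ⊓ 𝐂[b] := le_inf (mx.max _ inf_le_right
    (mx1.syl.isPGroup.to_le inf_le_left) (le_norm_inf mx1.norm hUa)) (inf_le_left.trans mx1.syl.le)
  obtain ⟨z, hz, hzD⟩ := SetLike.exists_of_lt (lt_inf_norm_of_nil mx1.syl.nil (hD1.lt_of_ne fun e =>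
    hcon ((eq_of_le_of_card_le inf_le_left (by rw [e, card_conj])).ge.trans inf_le_right)))
  have haD : a ∈ T ⊓ 𝐂[b] := ⟨haT.1, mem_cent1_comm.1 hb⟩
  have hE := Ohm_abelem p (Zc_ab (T ⊓ 𝐂[b]))
  have hEn : 𝐍(T ⊓ 𝐂[b]) ≤ 𝐍(Ohm p (Zc (T ⊓ 𝐂[b]))) := (norm_le_norm_Zc _).trans (norm_le_norm_Ohm p _)
  have hEZ := Ohm_le p (Zc (T ⊓ 𝐂[b]))
  have hET : Ohm p (Zc (T ⊓ 𝐂[b])) ≤ T := hEZ.trans ((Zc_le _).trans inf_le_left)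
  obtain ⟨E, eE⟩ : ∃ E, E = Ohm p (Zc (T ⊓ 𝐂[b])) := ⟨_, rfl⟩
  rw [← eE] at hE hEn hEZ hET
  by_cases h0 : E ⊓ 𝐂[t * u] = ⊥
  · have h3 : E ≤ Zn 2 T := cf.pair.le_of_forall (hUD.trans hEn) (odd_of_le oT hET)
      (fun x hx => zpowers_le.2 (Zc_le_Zn_two T haT) (cf.mem_zp (t_mem_S4 t u) cf.pair.t_ne hT
        ⟨haT.1, hat⟩ ha ⟨hET hx.1, hx.2⟩ (hE.2 x hx.1)))
      (fun x hx => zpowers_le.2 hb2 (cf.mem_zp (s_mem_S4 t u) cf.pair.s_ne hT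
        ⟨hbT, hbu⟩ hbo ⟨hET hx.1, hx.2⟩ (hE.2 x hx.1))) (h0.le.trans bot_le)
    obtain ⟨Q, hQ, hzQ⟩ := exists_syl_ge (zpowers_le.2 (hEn hz.2))
      (mx1.syl.isPGroup.to_le (zpowers_le.2 hz.1))
    have hE0 : E ≠ ⊥ := eE ▸ Ohm_ne_bot (hT.to_le ((Zc_le _).trans inf_le_left))
      (Zc_ne_bot (nil_of_le mx.syl.nil inf_le_left) fun e => by
        rw [mem_bot.1 (e.le haD), orderOf_one] at ha; exact hp.out.one_lt.ne ha)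
    obtain ⟨v, hv, v1⟩ := exists_mem_ne_one
      (inf_cent_ne_bot_of_isPGroup hQ.isPGroup (abelem_isPGroup hE) hQ.le hE0)
    have h4 : v ∈ Zc T := mem_Zc.2 ⟨hET hv.1, fun w hw => (mem_cent1.1 (quad h2 p2 hE hQ
      (hEn (hTD hw)) (fun v' hv' => ?_) hv)).symm⟩
    · have h5 := mem_zp_symm ha (cf.mem_zp (t_mem_S4 t u) cf.pair.t_ne hT ⟨haT.1, hat⟩ ha
        ⟨h4.1, hZ h4⟩ (hE.2 v hv.1)) v1
      exact hzD (hD2 ⟨hz.1, cent1_le_of_mem_zpowers h5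
        (le_cent1_iff.2 hv.2 (zpowers_le.1 hzQ))⟩)
    · have h5 := commutator_Zn_two_le T (commutator_mem_commutator (h3 hv') hw)
      rw [← commutatorElement_inv v' w]
      exact commutatorElement_eq_one_iff_mul_comm.2 ((mem_Zc.1 (inv_mem h5)).2 w hw)
  · have h3 := cf.mem_of (mul_mem_S4 t u) cf.pair.mul_ne_one hT ⟨hc'T, hc'u⟩
      ((orderOf_conj g⁻¹ a).trans ha) hET h0
    have h4 : g * b * g⁻¹ ∈ zpowers (g⁻¹ * a * g⁻¹⁻¹) := cf.mem_zp (mul_mem_S4 t u)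
      cf.pair.mul_ne_one mx1.syl.isPGroup ⟨hD1 (hEZ h3).1, hc'u⟩ ((orderOf_conj g⁻¹ a).trans ha)
      ⟨conj_mem_conj hbT, rot.ρu ▸ mem_cent1_conj hbu g⟩
      (by rw [conj_pow, ← hbo, pow_orderOf_eq_one, mul_one, mul_inv_cancel])
    refine hcon (cf.pair.le_of_forall mx.norm oT (fun x hx => ?_)
      (cf.comm (s_mem_S4 t u) cf.pair.s_ne hT ⟨hbT, hbu⟩) fun x hx => ?_)
    · have h5 := commutator_Zn_two_le T (commutator_mem_commutator hb2 hx.1)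
      exact tri (cf.inv hT mx.norm ⟨hbT, hbu⟩) hx.2 (odd_of_mem oT h5.1) (hZ h5)
        (cent_le_cent1 hbT h5.2)
    · have h5 : g * x * g⁻¹ ∈ g •ᶜ T ⊓ 𝐂[t] :=
        ⟨conj_mem_conj hx.1, rot.ρtu cf.pair ▸ mem_cent1_conj hx.2 g⟩
      have h6 := hD2 ⟨h5.1, cf.comm (t_mem_S4 t u) cf.pair.t_ne mx1.syl.isPGroup
        ⟨hD1 haD, hat⟩ h5⟩
      have h7 := cent1_le_of_mem_zpowers h4 (le_cent1_iff.2 (hEZ h3).2 h6)
      rwa [cent1_conj, conj_mem_conj_iff] at h7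

theorem step1 (h2 : Ab2 G) (p2 : p ≠ 2) (cf : Cf p t u) (ha : orderOf a = p) (hat : a ∈ 𝐂[t])
    (mx : Mx p (S4 t u) a T) (rot : Rot t u g) (hb : g * a * g⁻¹ ∈ 𝐂[a]) : g ∈ 𝐍(T) := by
  by_contra hcon
  have h3 : ¬ T ≤ 𝐂[g * a * g⁻¹] := fun e => hcon (mx.mem_norm rot.norm e)
  have h4 : ¬ T ≤ 𝐂[g⁻¹ * a * g⁻¹⁻¹] := fun e =>
    hcon (inv_mem_iff.1 (mx.mem_norm (inv_mem rot.norm) e))
  have hT := mx.syl.isPGroup
  have oT := odd_of_isPGroup p2 hT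
  have hb' := inv_conj_mem_cent hb
  have rot' := rot.inv cf.pair
  have k1 : ∀ Y ≤ T, Y ⊓ 𝐂[u] ≠ ⊥ → g * a * g⁻¹ ∈ Y := fun Y =>
    cf.mem_of (s_mem_S4 t u) cf.pair.s_ne hT ⟨mx.conj_mem cf ha hat rot.norm hb,
      rot.ρt ▸ mem_cent1_conj hat g⟩ ((orderOf_conj g a).trans ha)
  have k2 : ∀ Y ≤ T, Y ⊓ 𝐂[t * u] ≠ ⊥ → g⁻¹ * a * g⁻¹⁻¹ ∈ Y := fun Y =>
    cf.mem_of (mul_mem_S4 t u) cf.pair.mul_ne_one hT ⟨mx.conj_mem cf ha hat (inv_mem rot.norm) hb',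
      rot'.ρt ▸ mem_cent1_conj hat g⁻¹⟩ ((orderOf_conj g⁻¹ a).trans ha)
  have k3 : ∀ Y ≤ T, S4 t u ≤ 𝐍(Y) → g * a * g⁻¹ ∉ Y → g⁻¹ * a * g⁻¹⁻¹ ∉ Y → Y ≤ 𝐂[t] :=
    fun Y h5 h6 h7 h8 => cf.pair.le_of_forall h6 (odd_of_le oT h5) inf_le_right
      ((not_not.1 fun e => h7 (k1 Y h5 e)).le.trans bot_le)
      ((not_not.1 fun e => h8 (k2 Y h5 e)).le.trans bot_le)
  have hZ := k3 _ (Zc_le T) (le_norm_Zc mx.norm) (fun e => h3 (le_cent1_iff.2 e.2))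
    fun e => h4 (le_cent1_iff.2 e.2)
  have hZ2 := k3 _ (Zn_le 2 T) (mx.norm.trans (norm_le_norm_Zn 2 T))
    (fun e => h3 (half h2 p2 cf ha hat mx rot hb hZ e))
    fun e => h4 (half h2 p2 cf.mul ha hat ((S4_mul t u).symm ▸ mx) rot' hb' hZ e)
  have h5 : Zn 2 T ≤ Zc T := fun x hx => ⟨Zn_le 2 T hx, le_cent1_iff.1 ?_⟩
  · have h6 : ∀ n, Zn n T ≤ Zc T := fun n => by
      induction n with
      | zero => rw [Zn_zero]; exact bot_le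
      | succ n ih =>
        refine le_trans (fun x hx => mem_Zn_succ.2 ⟨(mem_Zn_succ.1 hx).1, fun y hy => ?_⟩) h5
        rw [Zn_one]; exact ih ((mem_Zn_succ.1 hx).2 y hy)
    obtain ⟨n, hn⟩ := nil_iff_exists_Zn.1 mx.syl.nil
    exact h3 (le_cent1_iff.2 ((hn ▸ h6 n) (mx.conj_mem cf ha hat rot.norm hb)).2)
  have k4 : ∀ y ∈ T, t * y * t⁻¹ = y⁻¹ → y ∈ 𝐂[x] := fun y hy e => by
    have h6 := inv_mem (commutator_Zn_two_le T (commutator_mem_commutator hx hy))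
    rw [commutatorElement_inv] at h6
    exact mem_cent1_comm.1 (tri e (hZ2 hx) (odd_of_mem oT h6.1) (hZ h6) (cent_le_cent1 hy h6.2))
  exact cf.pair.le_of_forall mx.norm oT
    (cf.comm (t_mem_S4 t u) cf.pair.t_ne hT ⟨Zn_le 2 T hx, hZ2 hx⟩)
    (fun y hy => k4 y hy.1 (cf.inv hT mx.norm hy))
    fun y hy => k4 y hy.1 (cf.mul.inv hT ((S4_mul t u).symm ▸ mx.norm) hy)

end Cfsg.Agent.JR.IV
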