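import Cfsg.Agent.Lib.JR.IVa
import Cfsg.Agent.Lib.JR.GZL

/-!
# Package IV, part b: the contradiction in `N(E)`
-/

set_option autoImplicit false
set_option linter.unusedSectionVars false

namespace Cfsg.Agent.JR.IV

open Subgroup Cfsg.Agent.OO Cfsg.Agent.Coprime Cfsg.Agent.R1 Cfsg.Agent.GW
open Cfsg.Agent.OO.Pf (le_puigSucc puigSucc_le_iff)
open scoped commutatorElement Pointwise

universe u

variable {G : Type u} [Group G] [Finite G] {p : ℕ} {t u s a b d g x y z ρ : G}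
  {E F Q T U V X Y : Subgroup G}

theorem exists_mul_mem_cent (h2 : Ab2 G) (h : Pair X t u) (hz : z ∈ 𝐍(S4 t u))
    (hc : z ∉ 𝐂(S4 t u)) (hg : g ∈ 𝐍(S4 t u)) : ∃ y ∈ zpowers z, y⁻¹ * g ∈ 𝐂(S4 t u) := by
  have k : ∀ z, Rot t u z → ∃ y ∈ zpowers z, y * t * y⁻¹ = g * t * g⁻¹ := fun z hr => by
    rcases h.mem_S4.1 (conj_mem_of_norm hg (t_mem_S4 t u)) with e | e | e | e
    · exact absurd e (conj_ne_one.2 h.t_ne)
    · exact ⟨1, one_mem _, by simp [e]⟩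
    · exact ⟨z, mem_zpowers z, hr.ρt.trans e.symm⟩
    · exact ⟨z⁻¹, inv_mem (mem_zpowers z), (hr.inv h).ρt.trans e.symm⟩
  obtain ⟨y, hy, e⟩ : ∃ y ∈ zpowers z, y * t * y⁻¹ = g * t * g⁻¹ :=
    (rot_or h2 h hz hc).elim (k z) fun hr => zpowers_inv (g := z) ▸ k _ hr
  have h3 : y⁻¹ * g ∈ 𝐂[t] := mem_cent1_iff_conj.2 (by
    rw [show y⁻¹ * g * t * (y⁻¹ * g)⁻¹ = y⁻¹ * (g * t * g⁻¹) * y by group, ← e]; group)
  exact ⟨y, hy, cent_S4 t u ▸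
    ⟨h3, cent_of_norm h2 h (mul_mem (inv_mem (zpowers_le.2 hz hy)) hg) h3⟩⟩

theorem constt_three (h2 : Ab2 G) (h : Pair X t u) (hr : Rot t u g) :
    constt {3} g ∉ 𝐂(S4 t u) := fun e => by
  have h3 : g ^ 3 ∈ 𝐂[t] := mem_cent1_iff_conj.2 (by
    rw [show g ^ 3 * t * (g ^ 3)⁻¹ = g * (g * (g * t * g⁻¹) * g⁻¹) * g⁻¹ by
      rw [pow_three]; group, hr.ρt, hr.ρu,
      hr.ρtu h])
  have h4 : g ^ 3 ∈ 𝐂(S4 t u) := cent_S4 t u ▸ ⟨h3, cent_of_norm h2 h (pow_mem hr.norm 3) h3⟩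
  have h5 : g ∈ 𝐂(S4 t u) := mem_of_constt_mem e (zpowers_le.2
    (constt_pow ({3} : Set ℕ)ᶜ g 3 ▸ constt_mem _ h4) (mem_zpowers_pow_iff.2
      ((Nat.Prime.coprime_iff_not_dvd Nat.prime_three).2
        ((isPiNum_compl_singleton Nat.prime_three).1 (piElt_constt _ g)))))
  exact h.ne ((mem_cent1_iff_conj.1 (cent_le_cent1 (t_mem_S4 t u) h5)).symm.trans hr.ρt)

theorem not_eight (h2 : Ab2 G) (ht : t ∈ X) (t2 : t * t = 1) (h : ¬ 8 ∣ ♯(X ⊓ 𝐂[t])) :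
    ¬ 8 ∣ ♯X := fun e => by
  haveI : Fact (Nat.Prime 2) := ⟨Nat.prime_two⟩
  obtain ⟨Q, hQ, h3⟩ := exists_syl_ge (zpowers_le.2 ht) (SE.isPGroup_zp t2)
  refine h (Dvd.dvd.trans ?_ (card_dvd (le_inf hQ.le
    (le_cent1_iff.2 (Ab.le_cent (h2 Q hQ.isPGroup) (zpowers_le.1 h3))))))
  rw [← card_mul_relIndex hQ.le] at e
  exact (Nat.Coprime.pow_left 3 ((Nat.Prime.coprime_iff_not_dvd Nat.prime_two).2
    hQ.not_dvd)).dvd_of_dvd_mul_right e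

/-- a nonreal element of order `3` whose centralizer has real `p`-elements -/
structure Gd (p : ℕ) (ρ : G) : Prop where
  ord : orderOf ρ = 3
  nr : ∀ h : G, h * ρ * h⁻¹ ≠ ρ⁻¹
  real : ∀ y ∈ 𝐂[ρ], IsPGroup p (zpowers y) → ∃ h : G, h * y * h⁻¹ = y⁻¹

theorem Gd.conj (h : Gd p ρ) (g : G) : Gd p (g * ρ * g⁻¹) := by
  refine ⟨(orderOf_conj g ρ).trans h.ord, fun x e => h.nr (g⁻¹ * x * g) ?_, fun y hy hp => ?_⟩
  · rw [show g⁻¹ * x * g * ρ * (g⁻¹ * x * g)⁻¹ = g⁻¹ * (x * (g * ρ * g⁻¹) * x⁻¹) * g by group, e]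
    group
  · rw [cent1_conj] at hy
    obtain ⟨y, hy', rfl⟩ := mem_conj_iff_exists.1 hy
    obtain ⟨x, e⟩ := h.real y hy' (by rwa [← conj_zpowers, isPGroup_conj] at hp)
    exact ⟨g * x * g⁻¹, by
      rw [show g * x * g⁻¹ * (g * y * g⁻¹) * (g * x * g⁻¹)⁻¹ = g * (x * y * x⁻¹) * g⁻¹ by group, e]
      group⟩

theorem Gd.inv (h : Gd p ρ) : Gd p ρ⁻¹ :=
  ⟨(orderOf_inv ρ).trans h.ord, fun x e => h.nr x (by
    rw [show x * ρ * x⁻¹ = (x * ρ⁻¹ * x⁻¹)⁻¹ by group, e, inv_inv]), by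
    rw [cent1_inv]; exact h.real⟩

variable [hp : Fact p.Prime]

theorem ctl (h2 : Ab2 G) (p2 : p ≠ 2) (cf : Cf p t u) (ha : orderOf a = p) (hat : a ∈ 𝐂[t])
    (mx : Mx p (S4 t u) a T) (rot : Rot t u g) (hg : g ∈ 𝐍(T)) (hd : d ∈ Ohm p (Zc T))
    (hx : x * d * x⁻¹ = d⁻¹) : ∃ n ∈ 𝐍(Ohm p (Zc T)), n * d * n⁻¹ = d⁻¹ := by
  have hE := Ohm_abelem p (Zc_ab T)
  have hn : 𝐍(T) ≤ 𝐍(Ohm p (Zc T)) := (norm_le_norm_Zc _).trans (norm_le_norm_Ohm p _)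
  have hEZ := Ohm_le p (Zc T)
  have haE : a ∈ Ohm p (Zc T) := mem_Ohm (mx.mem ha) (ha ▸ pow_orderOf_eq_one a)
  have a1 : a ≠ 1 := fun e => by rw [e, orderOf_one] at ha; exact hp.out.one_lt.ne ha
  have k : ∀ s s', g * s * g⁻¹ = s' → Ohm p (Zc T) ⊓ 𝐂[s] ≠ ⊥ → Ohm p (Zc T) ⊓ 𝐂[s'] ≠ ⊥ :=
    fun s s' e h3 h4 => h3 (by
      rwa [← e, cent1_conj, ← conj_eq_of_mem_norm (hn hg), ← conj_inf, conj_eq_bot_iff] at h4)
  have k0 : Ohm p (Zc T) ⊓ 𝐂[t] ≠ ⊥ := fun e => a1 (mem_bot.1 (e.le ⟨haE, hat⟩))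
  have hE' : Ohm p (Zc (puig T)) = Ohm p (Zc T) := by
    have h3 : Ohm p (Zc T) ≤ Ohm p (Zc (puig T)) := Ohm_mono p (Zc_le_Zc (puig_le T)
      (puig_def T ▸ le_puigSucc (Zc_le T) (Zc_ab T)
        ((puigInf_le_puig T).trans ((puig_le T).trans (Zc_normal T).norm))))
    exact le_antisymm (cf.le_of_parts p2 (Ohm_abelem p (Zc_ab _)) (mx.norm.trans
      ((norm_le_norm_center_puig T).trans (norm_le_norm_Ohm p _))) h3 k0 (k _ _ rot.ρt k0)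
      (k _ _ rot.ρu (k _ _ rot.ρt k0))) h3
  obtain ⟨E, eE⟩ : ∃ E, E = Ohm p (Zc T) := ⟨_, rfl⟩
  rw [← eE] at hE hn hEZ haE hE' hd ⊢
  obtain ⟨R, hR, hTR⟩ := exists_syl_ge (le_top (a := T)) mx.syl.isPGroup
  have hC : R ⊓ 𝐂(E) = T := mx.syl.hall.eq_of_le
    (le_inf hTR (le_cent_symm (hEZ.trans (Zc_le_cent T)))) (inf_le_right.trans (cent_le_cent1 haE))
    (piGrp_singleton (hR.isPGroup.to_le inf_le_left))
  have hT1 : T ≤ R ⊓ 𝐍(E) := le_inf hTR ((le_norm_self T).trans hn)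
  have h3 : E ≤ puigInf (R ⊓ 𝐍(E)) := puigInf_def (R ⊓ 𝐍(E)) ▸ le_puigSucc
    (hEZ.trans ((Zc_le T).trans hT1)) hE.1 ((puig_le _).trans inf_le_right)
  have h4 : puig (R ⊓ 𝐍(E)) ≤ T := puig_def (R ⊓ 𝐍(E)) ▸ puigSucc_le_iff.2 fun A hA hab hAn =>
    fun y hy => hC.le ⟨(hA hy).1, quad_irr h2 p2 hE (fun F hF h5 h6 => cf.irr' p2 hE
      (mx.norm.trans hn) rot hF ((mx.norm.trans hn).trans h5) (h5 (hn hg)) h6) (hA hy).2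
      fun v hv => Core.quadratic_of_mem_normalizer hab hy (hAn (h3 hv))⟩
  have h5 : 𝐍(Zc (puig (R ⊓ 𝐍(E)))) ≤ 𝐍(E) := by
    rw [← sub_Puig_eq hT1 h4]; nth_rewrite 1 [← hE']; exact norm_le_norm_Ohm p _
  have h6 : R ⊓ 𝐍(E) = R := by
    by_contra e
    obtain ⟨z, hz, h7⟩ := SetLike.exists_of_lt (lt_inf_norm_of_nil hR.nil (inf_le_left.lt_of_ne e))
    exact h7 ⟨hz.1, h5 (norm_le_norm_center_puig _ hz.2)⟩
  have h7 : zpowers d ≤ R := zpowers_le.2 (hTR (hEZ hd).1)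
  obtain ⟨n, h8, h9⟩ := gzl G p R (zpowers d) x h2 hp.out p2 hR h7
    (by rwa [conj_zpowers, hx, zpowers_inv])
  exact ⟨n, h5 (h6.symm ▸ h8), (h9 d (mem_zpowers d)).symm.trans hx⟩

theorem core (h2 : Ab2 G) (sq : ∀ x : G, PiElt {2} x → x * x = 1) (p2 : p ≠ 2) (cf : Cf p t u)
    (ha : orderOf a = p) (hat : a ∈ 𝐂[t]) (mx : Mx p (S4 t u) a T) (rot : Rot t u g)
    (hb : g * a * g⁻¹ ∈ 𝐂[a]) (n8 : ¬ 8 ∣ ♯𝐍(zpowers a)) (c3 : ¬ 3 ∣ ♯𝐂[a]) (hV : IsCyclic V)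
    (V1 : Syl 3 V 𝐂(S4 t u)) (V2 : Syl 3 V (𝐂[t] ⊓ 𝐍(zpowers a))) (hρ : ρ ∈ 𝐍(S4 t u))
    (hρ' : ρ ∉ 𝐂(S4 t u)) (gd : Gd p ρ) : False := by
  haveI : Fact (Nat.Prime 3) := ⟨Nat.prime_three⟩
  have hg := step1 h2 p2 cf ha hat mx rot hb
  have hctl := fun d x => ctl (d := d) (x := x) h2 p2 cf ha hat mx rot hg
  have hE := Ohm_abelem p (Zc_ab T)
  have hn : 𝐍(T) ≤ 𝐍(Ohm p (Zc T)) := (norm_le_norm_Zc _).trans (norm_le_norm_Ohm p _)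
  have haE : a ∈ Ohm p (Zc T) := mem_Ohm (mx.mem ha) (ha ▸ pow_orderOf_eq_one a)
  obtain ⟨E, eE⟩ : ∃ E, E = Ohm p (Zc T) := ⟨_, rfl⟩
  rw [← eE] at hE hn haE hctl
  have hEp := abelem_isPGroup hE
  have oE := odd_of_isPGroup p2 hEp
  have hU := mx.norm.trans hn
  have a1 : a ≠ 1 := fun e => by rw [e, orderOf_one] at ha; exact hp.out.one_lt.ne ha
  have hVX : V ≤ 𝐍(E) := fun w hw => hn (mx.mem_norm (cent_le_norm _ (V1.le hw)) (mx.syl.le.trans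
    (cent1_le_of_mem_zpowers (conj_mem_of_norm (V2.le hw).2 (mem_zpowers a)))))
  have hzp : ∀ y ∈ E ⊓ 𝐂[t], y ∈ zpowers a := fun y hy =>
    cf.mem_zp (t_mem_S4 t u) cf.pair.t_ne hEp ⟨haE, hat⟩ ha hy (hE.2 y hy.1)
  have hXt : 𝐍(E) ⊓ 𝐂[t] ≤ 𝐍(zpowers a) := fun y hy => mem_norm_of_conj_le (by
    rw [conj_zpowers, zpowers_le]
    exact hzp _ ⟨conj_mem_of_norm hy.1 haE, mul_mem (mul_mem hy.2 hat) (𝐂[t].inv_mem hy.2)⟩)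
  have v4 : V4 𝐍(E) t u g := ⟨hU (t_mem_S4 t u), hn hg, cf.pair.t_ne, cf.pair.t_sq, cf.pair.comm,
    rot.ρt, rot.ρu, not_eight h2 (hU (t_mem_S4 t u)) cf.pair.t_sq fun e =>
      n8 (e.trans (card_dvd hXt))⟩
  obtain ⟨Q, hQ, hVQ⟩ := exists_syl_ge (le_inf hVX (V1.le.trans (cent_le_norm _))) V1.isPGroup
  have hQC : ∀ R : Subgroup G, IsPGroup 3 R → Q ≤ R → R ⊓ 𝐂(S4 t u) = V := fun R hR h3 =>
    V1.hall.eq_of_le (le_inf (hVQ.trans h3) V1.le) inf_le_right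
      (piGrp_singleton (hR.to_le inf_le_left))
  obtain ⟨z, hz, hzc⟩ : ∃ z ∈ Q, z ∉ 𝐂(S4 t u) := by
    obtain ⟨c, hc, e⟩ := hQ.exists_conj_le (zpowers_le.2 (constt_mem {3}
      (show g ∈ 𝐍(E) ⊓ 𝐍(S4 t u) from ⟨hn hg, rot.norm⟩)))
      (isPGroup_zpowers_iff.2 (piElt_constt _ _))
    exact ⟨_, e (conj_mem_conj (mem_zpowers _)), fun h3 => constt_three h2 cf.pair rot
      ((mem_norm_iff.1 (norm_le_norm_cent _ hc.2) _).2 h3)⟩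
  obtain ⟨R, hR, hQR⟩ := exists_syl_ge (hQ.le.trans inf_le_right) hQ.isPGroup
  have hRQ : R ≤ Q := fun r hr => by
    obtain ⟨y, hy, e⟩ := exists_mul_mem_cent h2 cf.pair (hQ.le hz).2 hzc (hR.le hr)
    have hy' := zpowers_le.2 hz hy
    exact (mul_mem_cancel_left (inv_mem hy')).1 (hVQ ((hQC R hR.isPGroup hQR).le
      ⟨R.mul_mem (R.inv_mem (hQR hy')) hr, e⟩))
  obtain ⟨σ, hσ, rσ, gσ⟩ : ∃ σ ∈ Q, Rot t u σ ∧ Gd p σ := by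
    obtain ⟨c, hc, e⟩ := hR.exists_conj_le (zpowers_le.2 hρ) (isPGroup_zp gd.ord)
    have h3 := hRQ (e (conj_mem_conj (mem_zpowers _)))
    rcases rot_or h2 cf.pair (hQ.le h3).2
      (fun h4 => hρ' ((mem_norm_iff.1 (norm_le_norm_cent _ hc) _).2 h4)) with h4 | h4
    exacts [⟨_, h3, h4, gd.conj c⟩, ⟨_, inv_mem h3, h4, (gd.conj c).inv⟩]
  have hσV : σ ∈ 𝐍(V) := hQC Q hQ.isPGroup le_rfl ▸
    mem_norm_inf (le_norm_self Q hσ) (norm_le_norm_cent _ (hQ.le hσ).2)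
  have hσE := (hQ.le hσ).1
  have b1 := conj_mem_of_norm hσE haE
  have b2 := conj_mem_of_norm (inv_mem hσE) haE
  obtain ⟨d, ed⟩ : ∃ d, d = a * (σ * a * σ⁻¹ * (σ⁻¹ * a * σ⁻¹⁻¹)) := ⟨_, rfl⟩
  have hdE : d ∈ E := ed ▸ mul_mem haE (mul_mem b1 b2)
  have d1 : d ≠ 1 := fun e => a1 (SE.eq_one_of_inv (t := t) (odd_of_mem oE haE) (by
    have i1 := cf.inv hEp hU ⟨b1, rσ.ρt ▸ mem_cent1_conj hat σ⟩
    have i2 := cf.mul.inv hEp ((S4_mul t u).symm ▸ hU)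
      ⟨b2, (rσ.inv cf.pair).ρt ▸ mem_cent1_conj hat σ⁻¹⟩
    rw [eq_inv_of_mul_eq_one_left (ed.symm.trans e), ← conj_inv, ← conj_mul, i1, i2,
      ← mul_inv_rev, ab_iff.1 hE.1 _ b1 _ b2]) (mem_cent1_comm.1 hat))
  have hσd : σ ∈ 𝐂[d] := mem_cent1_iff_conj.2 (by
    have h3 : σ * σ = σ⁻¹ := eq_inv_of_mul_eq_one_left (by
      rw [← pow_three', ← gσ.ord, pow_orderOf_eq_one])
    rw [ed, show σ * (a * (σ * a * σ⁻¹ * (σ⁻¹ * a * σ⁻¹⁻¹))) * σ⁻¹ =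
      σ * a * σ⁻¹ * (σ * σ * a * (σ * σ)⁻¹) * a by group, h3]
    exact ab_iff.1 hE.1 _ (mul_mem b1 b2) _ haE)
  obtain ⟨x, hx⟩ := gσ.real d (mem_cent1_comm.1 hσd) (hEp.to_le (zpowers_le.2 hdE))
  obtain ⟨n, hnE, hnd⟩ := hctl d x hdE hx
  have s2 := sq _ (piElt_constt {2} n)
  have hsd := constt_inv hnd
  have hsE := constt_mem {2} hnE
  obtain ⟨s, es⟩ : ∃ s, s = constt {2} n := ⟨_, rfl⟩
  rw [← es] at s2 hsd hsE
  have c3' : ∀ w ∈ 𝐂[a], orderOf w ≠ 3 := fun w hw e => c3 (e ▸ orderOf_dvd_card hw)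
  obtain ⟨h, hh⟩ := real_of (p := 3) (Y := 𝐍(E) ⊓ 𝐂[d]) (odd_of_forall fun v hv v2 => by
      by_contra v1
      obtain ⟨y, hy, e⟩ := v4.exists_conj hv.1 v1 v2
      have h3 : y⁻¹ * d * y⁻¹⁻¹ ∈ 𝐂[t] := by
        have := mem_cent1_conj (mem_cent1_comm.1 hv.2) y⁻¹
        rwa [← e, show y⁻¹ * (y * t * y⁻¹) * y⁻¹⁻¹ = t by group] at this
      exact c3' _ (cent1_le_of_mem_zpowers (mem_zp_symm ha
        (hzp _ ⟨conj_mem_of_norm (inv_mem hy) hdE, h3⟩) (conj_ne_one.2 d1)) (mem_cent1_conj hσd y⁻¹))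
        ((orderOf_conj _ _).trans gσ.ord)) s2
    (mem_norm_inf (le_norm_self _ hsE)
      (cent_zpowers d ▸ norm_le_norm_cent _ (norm_zp_of_inv hsd)))
    (fun e => by
      obtain ⟨w, hw, w3⟩ := cauchy Nat.prime_three e
      obtain ⟨y, hy, e⟩ := v4.exists_conj hsE (fun e => d1 (SE.eq_one_of_inv (odd_of_mem oE hdE) hsd
        (e ▸ one_mem _))) s2
      have h3 : y⁻¹ * w * y⁻¹⁻¹ ∈ 𝐍(E) ⊓ 𝐂[t] := ⟨conj_mem_of_norm (le_norm_self _ (inv_mem hy))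
        hw.1.1, by
          have := mem_cent1_conj hw.2 y⁻¹
          rwa [← e, show y⁻¹ * (y * t * y⁻¹) * y⁻¹⁻¹ = t by group] at this⟩
      have h4 := (orderOf_conj y⁻¹ w).trans w3
      obtain ⟨c, hc, e'⟩ := (V2.hall.mono (le_inf hVX (V2.le.trans inf_le_left))
        (le_inf inf_le_right hXt)).syl.exists_conj_le (zpowers_le.2 h3) (isPGroup_zp h4)
      have h5 := e' (conj_mem_conj (mem_zpowers _))
      have h6 := cf.irr' p2 hE hU rσ (F := E ⊓ 𝐂(zpowers (c * (y⁻¹ * w * y⁻¹⁻¹) * c⁻¹))) inf_le_left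
        (le_norm_inf hU (le_norm_cent (le_norm_of_le_cent (le_cent_symm (zpowers_le.2 (V1.le h5))))))
        (mem_norm_inf hσE (norm_le_norm_cent _ (norm_le_norm_of_isCyclic hV (zpowers_le.2 h5) hσV)))
        fun e'' => conj_ne_one.2 (conj_ne_one.2 d1) (mem_bot.1 (e''.le
          ⟨conj_mem_of_norm hc.1 (conj_mem_of_norm (inv_mem hy) hdE), (cent_zpowers _).ge
            (mem_cent1_conj (mem_cent1_conj (mem_cent1_comm.1 hw.1.2) y⁻¹) c)⟩))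
      exact c3' _ (mem_cent1_comm.1 ((cent_zpowers _).le (h6 haE).2)) ((orderOf_conj _ _).trans h4))
    ⟨hσE, hσd⟩ (isPGroup_zp gσ.ord)
  exact gσ.nr h hh

end Cfsg.Agent.JR.IV
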