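import Cfsg.Agent.Lib.JR.IVb

/-!
# Package IV, part c: facts about the frame
-/

set_option autoImplicit false
set_option linter.unusedSectionVars false

namespace Cfsg.Agent.JR.IV

open Subgroup Cfsg.Agent.OO Cfsg.Agent.Coprime Cfsg.Agent.R1 Cfsg.Agent.GW
open scoped commutatorElement Pointwise

universe u

variable {G : Type u} [Group G] [Finite G] {p q r k : ℕ} {t u s a b g x y z ρ : G}
  {H L W S P T K Q V X Y : Subgroup G}

theorem piElt_of_sq (h : z * z = 1) : PiElt {2} z :=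
  haveI : Fact (Nat.Prime 2) := ⟨Nat.prime_two⟩
  isPGroup_zpowers_iff.1 (SE.isPGroup_zp h)

theorem exists_comm_inv (h2 : Ab2 G) (t2 : t * t = 1) (ht : t ∈ 𝐍(zpowers y)) (s2 : s * s = 1)
    (hs : s * y * s⁻¹ = y⁻¹) : ∃ s ∈ 𝐂[t], s * s = 1 ∧ s * y * s⁻¹ = y⁻¹ := by
  haveI : Fact (Nat.Prime 2) := ⟨Nat.prime_two⟩
  obtain ⟨Q, hQ, h3⟩ := exists_syl_ge (zpowers_le.2 ht) (SE.isPGroup_zp t2)
  obtain ⟨c, hc, e⟩ := hQ.exists_conj_le (zpowers_le.2 (norm_zp_of_inv hs)) (SE.isPGroup_zp s2)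
  refine ⟨_, le_cent1_iff.2 (Ab.le_cent (h2 Q hQ.isPGroup) (zpowers_le.1 h3))
    (e (conj_mem_conj (mem_zpowers s))), conj_sq s2 c, ?_⟩
  rw [show c * s * c⁻¹ * y * (c * s * c⁻¹)⁻¹ = c * (s * (c⁻¹ * y * c) * s⁻¹) * c⁻¹ by group,
    SE.inv_zpowers hs _ (conj_mem_of_norm' hc (mem_zpowers y))]
  group

theorem pair_of (hs : s ∈ 𝐂[t]) (t1 : t ≠ 1) (t2 : t * t = 1) (s1 : s ≠ 1) (s2 : s * s = 1)
    (st : s ≠ t) : Pair (S4 t s) t s :=
  ⟨t_mem_S4 t s, s_mem_S4 t s, t1, s1, st.symm, t2, s2, (mem_cent1.1 hs).symm, fun e => by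
    have := e.trans (card_sup_dvd (.inr (zpowers_le.2 (norm_zp_of_cent (mem_cent1_comm.1 hs)))))
    rw [Nat.card_zpowers, Nat.card_zpowers, orderOf_eq_two t2 t1, orderOf_eq_two s2 s1] at this
    omega⟩

theorem le_O_of_sd (h : IsSdprod (O X) (zpowers t) X) (t2 : t * t = 1) (hQ : Q ≤ X)
    (ho : Odd ♯Q) : Q ≤ O X :=
  haveI : Fact (Nat.Prime 2) := ⟨Nat.prime_two⟩
  (h.hall_left (Op'_piGrp 2 X) (piGrp_singleton (SE.isPGroup_zp t2)).compl_compl).le_of_normal_hall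
    h.normal.norm hQ (odd_iff.1 ho)

theorem mem_O_of_sd (h : IsSdprod (O X) (zpowers t) X) (t2 : t * t = 1) (hx : x ∈ X)
    (ho : Odd (orderOf x)) : x ∈ O X :=
  zpowers_le.1 (le_O_of_sd h t2 (zpowers_le.2 hx) (by rwa [Nat.card_zpowers]))

theorem tor_inv {n : ℕ} (h : Tor L K n) (ho : Odd n) (hy : y ∈ K) (y1 : y ≠ 1) (hs : s ∈ L ⊓ 𝐂[y])
    (s2 : s * s = 1) : s = 1 := by
  have oK : Odd ♯K := h.card ▸ ho
  by_cases hK : s ∈ K
  · exact eq_one_of_odd_of_sq (odd_of_mem oK hK) s2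
  · exact absurd (SE.eq_one_of_inv (odd_of_mem oK hy) ((h.inv s (h.norm y hy y1 ▸
      ⟨hs.1, norm_zp_of_cent (mem_cent1_comm.1 hs.2)⟩) hK).2 y hy) hs.2) y1

theorem uni_inv (h : Uni L K 3 q) (hy : y ∈ K) (y1 : y ≠ 1) (hs : s ∈ L ⊓ 𝐂[y])
    (s2 : s * s = 1) : s = 1 := by
  have := h.elem.2 s (h.cent y hy y1 ▸ hs)
  rwa [pow_three, s2, mul_one] at this

/-- the frame together with the element `a` -/
structure Fa (t : G) (H L W S P T : Subgroup G) (q r k p : ℕ) (a : G) : Prop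
    extends Fr t H L W S P T 3 q r k where
  aT : a ∈ T
  ord : orderOf a = p
  pp : p.Prime
  nW : ¬ p ∣ ♯W
  cT : H ⊓ 𝐂[a] = T

namespace Fa

variable (h : Fa t H L W S P T q r k p a)
include h

theorem par' : q + 1 = 4 * k ∧ 2 * r + 1 = q ∧ 3 ∣ q := by
  obtain ⟨f, ⟨m, rfl⟩, e⟩ := h.pow
  have h1 : q % 4 = 3 := by
    rw [e, pow_succ, pow_mul, Nat.mul_mod, Nat.pow_mod]; norm_num
  have h2 : 3 ∣ q := e ▸ Dvd.intro_left _ (pow_succ 3 _).symm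
  have := h.par.2.2
  omega

theorem torT : Tor L T r := by
  have := h.par'
  have e : (q - 1) / 2 = r := by omega
  exact e ▸ h.tor

theorem oddr : Odd r := h.par.1

theorem oddT : Odd ♯T := h.torT.card ▸ h.oddr

theorem p_dvd : p ∣ r := h.torT.card ▸ h.ord ▸ orderOf_dvd_card h.aT

theorem p2 : p ≠ 2 := fun e => absurd (h.oddr.of_dvd_nat (e ▸ h.p_dvd)) (by decide)

theorem odda : Odd (orderOf a) := odd_of_mem h.oddT h.aT

theorem a1 : a ≠ 1 := fun e => h.pp.one_lt.ne (by rw [← h.ord, e, orderOf_one])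

theorem np_q : ¬ p ∣ q := fun e => h.pp.one_lt.ne' (Nat.dvd_one.1
  ((Nat.dvd_add_right (h.p_dvd.mul_left 2)).1 (h.par'.2.1 ▸ e)))

theorem np_k : ¬ p ∣ k := fun e => by
  have h1 : r + 1 = 2 * k := by have := h.par'; omega
  exact h.pp.one_lt.ne' (Nat.dvd_one.1 ((Nat.dvd_add_right h.p_dvd).1 (h1 ▸ e.mul_left 2)))

theorem np_two : ¬ p ∣ 2 := fun e => h.p2 ((Nat.prime_dvd_prime_iff_eq h.pp Nat.prime_two).1 e)

theorem HC : H ≤ 𝐂[t] := fun g hg => (h.cent g).2 (.inl hg)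

theorem LC : L ≤ 𝐂[t] := h.le.trans h.HC

theorem WH : W ≤ H := h.sup ▸ le_sup_right

theorem at' : a ∈ 𝐂[t] := h.LC (h.tor.le h.aT)

theorem sd : IsSdprod L (zpowers t ⊔ W) 𝐂[t] := by
  have h1 : t ∈ 𝐍(L) := cent_le_norm _ (le_cent1_iff.1 h.LC)
  refine .of_normal ⟨h.LC, fun g hg => ((h.cent g).1 hg).elim (h.norm ·) fun e =>
    (mul_mem_cancel_right h1).1 (h.norm e)⟩
    (sup_le (zpowers_le.2 (mem_cent1_self t)) (h.WH.trans h.HC)) (fun g hg => ?_)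
    (eq_bot_iff.2 fun x hx => ?_)
  · have h2 : H ≤ L ⊔ (zpowers t ⊔ W) := h.sup ▸ sup_le_sup_left le_sup_right L
    exact ((h.cent g).1 hg).elim (h2 ·) fun e =>
      (mul_mem_cancel_right (mem_sup_right (mem_sup_left (mem_zpowers t)))).1 (h2 e)
  · obtain ⟨y, hy, w, hw, rfl⟩ := (mem_sup_norm_left (le_norm_of_le_cent
      (cent_zpowers t ▸ h.WH.trans h.HC))).1 hx.2
    rcases (mem_zp h.t2).1 hy with rfl | rfl
    · exact h.inf.le ⟨hx.1, by rwa [one_mul]⟩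
    · exact absurd ((mul_mem_cancel_right (h.WH hw)).1 (h.le hx.1)) h.tH

theorem idx (hY : Y ≤ 𝐂[t]) : ♯Y ∣ ♯(L ⊓ Y) * (2 * ♯W) := by
  rw [← card_inf_mul_relIndex L Y]
  refine mul_dvd_mul_left _ ((relIndex_dvd_of_le_norm hY h.sd.normal.norm).trans ?_)
  rw [h.sd.relIndex_left, ← orderOf_eq_two h.t2 h.t1, ← Nat.card_zpowers]
  exact card_sup_dvd (.inr (le_norm_of_le_cent (cent_zpowers t ▸ h.WH.trans h.HC)))

theorem mem_H (hx : x ∈ 𝐂[t]) (ho : Odd (orderOf x)) : x ∈ H :=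
  ((h.cent x).1 hx).elim id fun e => odd_of_sq_mem ho (by
    have := mul_mem e e
    rwa [(show Commute x t from mem_cent1.1 hx).symm.mul_mul_mul_comm, h.t2, mul_one] at this)

theorem mem_L (hx : x ∈ H) (x2 : x * x = 1) : x ∈ L :=
  zpowers_le.1 (le_of_coprime_relIndex (zpowers_le.2 hx) h.norm (by
    rw [← h.sup, relIndex_sup_eq' (.inr (h.WH.trans h.norm))]
    exact ((coprime_zp h.oddW x2).coprime_dvd_left (relIndex_dvd_card L W)).symm))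

theorem exists_L (hs : s ∈ 𝐂[t]) (s2 : s * s = 1) : ∃ s' ∈ L, s' * s' = 1 ∧ (s' = s ∨ s' = s * t) :=
  ((h.cent s).1 hs).elim (fun e => ⟨s, h.mem_L e s2, s2, .inl rfl⟩) fun e => by
    have : s * t * (s * t) = 1 := by
      rw [(show Commute s t from mem_cent1.1 hs).symm.mul_mul_mul_comm, h.t2, s2, mul_one]
    exact ⟨s * t, h.mem_L e this, this, .inr rfl⟩

theorem sq' (x : G) (hx : PiElt {2} x) : x * x = 1 := by
  haveI : Fact (Nat.Prime 2) := ⟨Nat.prime_two⟩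
  obtain ⟨c, -, e⟩ := h.syl.exists_conj_le le_top (isPGroup_zpowers_iff.2 hx)
  have := h.sq _ (e (conj_mem_conj (mem_zpowers x)))
  rwa [conj_mul, conj_eq_one_iff] at this

/-- an element of odd order inverted in `C(t)` is of type R or K -/
theorem tor_of_inv (hy : y ∈ 𝐂[t]) (y1 : y ≠ 1) (ho : Odd (orderOf y)) (hs : s ∈ 𝐂[t])
    (s2 : s * s = 1) (hi : s * y * s⁻¹ = y⁻¹) : ∃ K, y ∈ K ∧ (Tor L K r ∨ Tor L K (2 * k)) := by
  have hL : y ∈ L := inv_mem_iff.1 (odd_of_sq_mem (by rwa [orderOf_inv]) (by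
    have := h.sd.der_le_of_ab (ab_sup (ab_of_isCyclic inferInstance) (ab_of_isCyclic h.cycW)
      (le_cent_symm (cent_zpowers t ▸ h.WH.trans h.HC))) (commutator_mem_commutator hs hy)
    rwa [commutatorElement_def, hi] at this))
  obtain ⟨K, hK, hu | ht⟩ := h.part y hL y1
  · obtain ⟨s', h1, h2, h3⟩ := h.exists_L hs s2
    have h4 : s' * y * s'⁻¹ = y⁻¹ := by
      rcases h3 with rfl | rfl
      · exact hi
      · rw [show s * t * y * (s * t)⁻¹ = s * (t * y * t⁻¹) * s⁻¹ by group,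
          mem_cent1_iff_conj.1 (mem_cent1_comm.1 hy), hi]
    have h5 : ♯(L ⊓ 𝐍(K) : Subgroup G) = q * r := by
      have e1 := hu.card_norm
      have e2 : q - 1 = 2 * r := by have := h.par'; omega
      rw [e2] at e1; linarith
    have h6 : Odd ♯(L ⊓ 𝐍(K) : Subgroup G) := h5 ▸ Odd.mul ⟨r, h.par'.2.1.symm⟩ h.oddr
    have h7 := eq_one_of_odd_of_sq (odd_of_mem h6 ⟨h1, hu.ti s' h1 y hK y1 (h4 ▸ inv_mem hK)⟩) h2
    exact absurd (SE.eq_one_of_inv ho h4 (h7 ▸ one_mem _)) y1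
  · exact ⟨K, hK, ht⟩

theorem not_three {n : ℕ} (hK : Tor L K n) (hn : n = r ∨ n = 2 * k) (hy : y ∈ K) :
    orderOf y ≠ 3 := fun e => by
  have := orderOf_dvd_card hy
  rw [e, hK.card] at this
  have := h.par'
  omega

theorem uni_of_three (hy : y ∈ L) (ho : orderOf y = 3) : ∃ K, y ∈ K ∧ Uni L K 3 q := by
  obtain ⟨K, hK, hu | ht | ht⟩ := h.part y hy fun e => by simp [e] at ho
  exacts [⟨K, hK, hu⟩, absurd ho (h.not_three ht (.inl rfl) hK),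
    absurd ho (h.not_three ht (.inr rfl) hK)]

/-- an element of order `3` commuting with an involution is not real -/
theorem r3 (ho : orderOf y = 3) (s1 : s ≠ 1) (s2 : s * s = 1) (hy : y ∈ 𝐂[s]) (g : G) :
    g * y * g⁻¹ ≠ y⁻¹ := fun e => by
  obtain ⟨c, rfl⟩ := h.conj s s1 s2
  rw [cent1_conj] at hy
  obtain ⟨y, hy', rfl⟩ := mem_conj_iff_exists.1 hy
  rw [orderOf_conj] at ho
  have h1 : c⁻¹ * g * c * y * (c⁻¹ * g * c)⁻¹ = y⁻¹ := by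
    rw [show c⁻¹ * g * c * y * (c⁻¹ * g * c)⁻¹ = c⁻¹ * (g * (c * y * c⁻¹) * g⁻¹) * c by group, e]
    group
  obtain ⟨s, hs, h2, h3⟩ := exists_comm_inv h.ab2 h.t2 (norm_zp_of_cent hy')
    (h.sq' _ (piElt_constt {2} _)) (constt_inv h1)
  obtain ⟨K, hK, ht | ht⟩ := h.tor_of_inv hy' (fun e => by simp [e] at ho) (ho ▸ by decide) hs h2 h3
  exacts [h.not_three ht (.inl rfl) hK ho, h.not_three ht (.inr rfl) hK ho]

theorem mem_zp_t (hy : y ∈ 𝐂[t]) (h0 : ∀ s ∈ L ⊓ 𝐂[y], s * s = 1 → s = 1) (hs : s ∈ 𝐂[y])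
    (ht : s ∈ 𝐂[t]) (s2 : s * s = 1) : s ∈ zpowers t := by
  obtain ⟨s', h1, h2, rfl | rfl⟩ := h.exists_L ht s2
  · rw [h0 _ ⟨h1, hs⟩ h2]; exact one_mem _
  · rw [eq_inv_of_mul_eq_one_left (h0 _ ⟨h1, 𝐂[y].mul_mem hs (mem_cent1_comm.1 hy)⟩ h2)]
    exact inv_mem (mem_zpowers t)

theorem sd_cent (hy : y ∈ 𝐂[t]) (h0 : ∀ s ∈ L ⊓ 𝐂[y], s * s = 1 → s = 1) :
    IsSdprod (O 𝐂[y]) (zpowers t) 𝐂[y] := by
  haveI : Fact (Nat.Prime 2) := ⟨Nat.prime_two⟩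
  obtain ⟨Q, hQ, h3⟩ := exists_syl_ge (zpowers_le.2 (mem_cent1_comm.1 hy)) (SE.isPGroup_zp h.t2)
  have e : Q = zpowers t := le_antisymm (fun s hs => h.mem_zp_t hy h0 (hQ.le hs)
    (le_cent1_iff.2 (Ab.le_cent (h.ab2 Q hQ.isPGroup) (zpowers_le.1 h3)) hs)
    (h.sq' s (hQ.piGrp.piElt hs))) h3
  exact cyclic_pdiv_normal_complement (e ▸ hQ) inferInstance fun _ hq _ => hq.two_le

theorem sda : IsSdprod (O 𝐂[a]) (zpowers t) 𝐂[a] :=
  h.sd_cent h.at' fun _ => tor_inv h.torT h.oddr h.aT h.a1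

theorem conj_le (hQ : Q ≤ 𝐂[t]) (hp : IsPGroup p Q) : ∃ c ∈ 𝐂[t], c •ᶜ Q ≤ T := by
  haveI := Fact.mk h.pp
  obtain ⟨R, hR⟩ := exists_syl p T
  have h1 := h.tor.le.trans h.LC
  have h2 : T.relIndex 𝐂[t] ∣ 2 * 2 * q * k * (2 * ♯W) := by
    have := h.idx le_rfl
    rw [inf_eq_left.2 h.LC, h.card, ← card_mul_relIndex h1, h.torT.card] at this
    exact Nat.dvd_of_mul_dvd_mul_left h.oddr.pos (this.trans (dvd_of_eq (by ring)))
  obtain ⟨c, hc, e⟩ := (hR.hall.trans_of_relIndex h1 ((isPiNum_compl_singleton h.pp).2 fun e => by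
    have := e.trans h2
    simp only [h.pp.dvd_mul, h.np_two, h.np_q, h.np_k, h.nW, or_self] at this)).syl.exists_conj_le hQ hp
  exact ⟨c, hc, e.trans hR.le⟩

theorem conj_zp (hb : b ∈ 𝐂[t]) (ho : orderOf b = p) : ∃ c ∈ 𝐂[t], c •ᶜ zpowers b = zpowers a := by
  haveI := Fact.mk h.pp
  obtain ⟨c, hc, e⟩ := h.conj_le (zpowers_le.2 hb) (isPGroup_zp ho)
  exact ⟨c, hc, (((isEp_zpowers (mem_top b) ho).conj c).of_le e |>.eq_Ohm_of_isCyclic
    h.tor.cyc).trans ((isEp_zpowers h.aT h.ord).eq_Ohm_of_isCyclic h.tor.cyc).symm⟩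

theorem cf (hs : s ∈ 𝐂[t]) (s1 : s ≠ 1) (s2 : s * s = 1) (st : s ≠ t) : Cf p t s := by
  haveI := Fact.mk h.pp
  have hp := pair_of hs h.t1 h.t2 s1 s2 st
  refine ⟨hp, fun u hu u1 Q hQ hQp => ?_, fun Q hQ hQp => by_contra fun h0 => ?_⟩
  · obtain ⟨g, rfl⟩ := h.conj u u1 (by rw [← pow_two]; exact hp.isEp.abelem.2 u hu)
    rw [cent1_conj, le_conj_iff_inv_conj_le] at hQ
    obtain ⟨c, -, e⟩ := h.conj_le hQ (isPGroup_conj.2 hQp)
    exact isCyclic_conj.1 (isCyclic_conj.1 (isCyclic_of_le' h.tor.cyc e))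
  · obtain ⟨b, hb, ho⟩ := cauchy h.pp (dvd_card_of_isPGroup hQp h0)
    have h1 := cent_S4 t s ▸ hQ hb
    obtain ⟨c, hc, e⟩ := h.conj_zp h1.1 ho
    have h2 := h.mem_zp_t h.at' (fun _ => tor_inv h.torT h.oddr h.aT h.a1)
      (s := c * s * c⁻¹) (by
        rw [← cent_zpowers, ← e, cent_conj, conj_mem_conj_iff, cent_zpowers]
        exact mem_cent1_comm.1 h1.2) (mul_mem (mul_mem hc hs) (inv_mem hc)) (conj_sq s2 c)
    rcases (mem_zp h.t2).1 h2 with e | e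
    · exact conj_ne_one.2 s1 e
    · exact st (by simpa using e.trans (mem_cent1_iff_conj.1 hc).symm)

theorem syl3 (hV : Syl 3 V W) (h1 : V ≤ Y) (h2 : Y ≤ 𝐂[t]) (h3 : ¬ 3 ∣ ♯(L ⊓ Y)) : Syl 3 V Y := by
  refine ⟨h1, hV.isPGroup, fun e => ?_⟩
  have := h.idx h2
  rw [← card_mul_relIndex h1, ← card_mul_relIndex hV.le] at this
  have h4 := e.trans (Nat.dvd_of_mul_dvd_mul_left (card_pos' V)
    (this.trans (dvd_of_eq (b := ♯V * (♯(L ⊓ Y) * (2 * V.relIndex W))) (by ring))))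
  simp only [Nat.prime_three.dvd_mul, h3, hV.not_dvd, or_false, false_or] at h4
  omega

theorem gd (hρ : ρ ∈ P) (h1 : ρ ≠ 1) : Gd p ρ := by
  haveI := Fact.mk h.pp
  have ho : orderOf ρ = 3 := orderOf_eq_prime (hp := ⟨Nat.prime_three⟩) (h.uni.elem.2 ρ hρ) h1
  have ht := h.LC (h.uni.le hρ)
  refine ⟨ho, h.r3 ho h.t1 h.t2 ht, fun y hy hp => ?_⟩
  refine real_of (odd_O 𝐂[ρ]) h.t2 ((Opi_normal _ _).norm (mem_cent1_comm.1 ht)) (fun e => ?_)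
    (zpowers_le.1 (le_O_of_sd (h.sd_cent ht fun _ => uni_inv h.uni hρ h1) h.t2 (zpowers_le.2 hy)
      (odd_of_isPGroup h.p2 hp))) hp
  have h2 := (e.trans (h.idx inf_le_right)).trans (mul_dvd_mul_right (card_dvd (inf_le_inf_left L
    (inf_le_left.trans (Opi_le _ _)))) _)
  rw [h.uni.cent ρ hρ h1, h.uni.card] at h2
  simp only [h.pp.dvd_mul, h.np_two, h.np_q, h.nW, or_self] at h2

end Fa

end Cfsg.Agent.JR.IV
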