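import Cfsg.Agent.Lib.JR.KF2

/-!
# Package KF
-/

set_option autoImplicit false

namespace Cfsg.Agent.JR.KK

open Subgroup Cfsg.Agent.OO Cfsg.Agent.Coprime Cfsg.Agent.R1 Cfsg.Agent.GW
open scoped commutatorElement Pointwise

universe u

variable {G : Type u} [Group G] [Finite G] {L K P R : Subgroup G} {p q r k l : ℕ}
  {a c g t u v w s x y z j ρ : G}

theorem tl (h : Gl1 G p q r k) (u1 : u ≠ 1) (u2 : u * u = 1) (hz : z ∈ 𝐂[u])
    (zo : Odd (orderOf z)) (z1 : z ≠ 1) (c1 : (orderOf z).Coprime q) (c2 : (orderOf z).Coprime r)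
    (hy : y ∈ 𝐂[z]) (yo : Odd (orderOf y)) (e : u * y * u⁻¹ = y⁻¹) : y = 1 := by
  have := Fact.mk Nat.prime_two
  obtain ⟨K, hK, e1⟩ := exists_K (h.lf u u1 u2) (mem_Ld1 h u1 u2 hz zo) z1 c1 c2
  obtain ⟨v, hv, v1, v2⟩ := exists_v e1
  have f : Cf u K v k := ⟨u1, u2, e1, hv, v1, v2⟩
  have h1 := mul_mem (conj_mem_of_norm (f.cent_le_norm h hK (ne_sq zo z1) hy) (t_mem_S4 u v))
    (inv_mem (t_mem_S4 u v))
  rw [mul_assoc, mul_assoc, ← mul_assoc u, ← conj_inv, e, inv_inv] at h1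
  exact eq_one_of_odd_of_sq yo (eq_one_of_odd_of_sq (odd_of_mem (Nat.card_zpowers y ▸ yo)
    (mul_mem (mem_zpowers y) (mem_zpowers y))) (h.sq _ ((f.pair h.toGl).syl.piGrp.piElt h1)))

/-- the four-group argument for an element of a torus of odd order -/
theorem uf_tor (h : Gl1 G p q r k) (s1 : s ≠ 1) (s2 : s * s = 1) (hR : Tor (Ld s) R r) (hy : y ∈ R)
    (y1 : y ≠ 1) (hl : l.Prime) (l2 : Odd l) (h1 : l ∣ ♯𝐂[y]) (h2 : ¬ l ∣ r) :
    ∃ z ∈ 𝐂[y], orderOf z = l ∧ s * z * s⁻¹ = z⁻¹ ∧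
      ∃ u ∈ 𝐂[s], u ≠ 1 ∧ u * u = 1 ∧ z ∈ 𝐂[u] ∧ u * y * u⁻¹ = y⁻¹ := by
  have ro : Odd ♯R := hR.card ▸ (h.lf s s1 s2).par.1
  have ys := Ld_le s (hR.le hy)
  obtain ⟨e1, e2⟩ := sd_cent h s1 s2 ys (tor_cent hR hy (ne_sq (odd_of_mem ro hy) y1)) ro
  obtain ⟨j, hj, j1, j2, ji⟩ := tor_exists_inv hR
  have ne : s ≠ j := fun e => h.nmem s s1 s2 (e ▸ hj)
  have hp := pair_self s1 j1 ne s2 j2 (Ld_le s hj)
  obtain ⟨x, hx, xl⟩ := cauchy hl h1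
  obtain ⟨z, hz, z1, z2, z3⟩ := uf s1 s2 j1 j2 ne (Ld_le s hj) (odd_O 𝐂[y])
    (O_norm _ (mem_cent1_comm.1 ys))
    (norm_le_norm_Opi _ _ (norm_zp_le y (mem_norm_of_inv (ji y hy)))) hl
    (xl ▸ orderOf_dvd_card (e1 _ (zpowers_le.2 hx) (by rwa [Nat.card_zpowers, xl]) (mem_zpowers x)))
    (by rwa [e2, hR.card])
  refine ⟨z, Opi_le _ _ hz, z1, z2, z3.elim (fun e => ⟨j, Ld_le s hj, j1, j2, e, ji y hy⟩) fun e =>
    ⟨_, mul_mem (mem_cent1_self s) (Ld_le s hj), hp.mul_ne_one, hp.mul_sq, e, ?_⟩⟩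
  calc _ = s * (j * y * j⁻¹) * s⁻¹ := by group
    _ = _ := by rw [ji y hy, ← conj_inv, mem_cent1_iff_conj.1 (mem_cent1_comm.1 ys)]

/-- the centralizer of an element of order 3 has order at least `q ^ 2` -/
theorem false_uni (h : Gl1 G 3 q r k) (s1 : s ≠ 1) (s2 : s * s = 1) (hP : Uni (Ld s) P 3 q)
    (hy : y ∈ P) (y1 : y ≠ 1) {m : ℕ} (hm : m ∣ k) (hc : 3 * ♯(O 𝐂[y]) = q ^ 2 * m) : False := by
  have := Fact.mk Nat.prime_three
  have hL := h.lf s s1 s2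
  obtain ⟨o1, c1, c2, c3, -⟩ := par_cop hL.par
  obtain ⟨f, fo, hq⟩ := hL.pow
  have q9 : 9 ∣ q := by
    have := hL.five
    rw [hq] at this ⊢
    exact pow_dvd_pow 3 (show 2 ≤ f from by_contra fun e => by interval_cases f <;> omega)
  have qr : q = 2 * r + 1 := by
    obtain ⟨m, hm⟩ := fo
    rw [hm, pow_succ, pow_mul] at hq
    have : (3 ^ 2) ^ m % 4 = 1 := by rw [Nat.pow_mod]; simp
    have := hL.par.2.2
    omega
  have r3 : ¬ 3 ∣ r := by omega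
  have Po : Odd ♯P := hP.card ▸ o1
  have P3 := abelem_isPGroup hP.elem
  have Ps : P ≤ 𝐂[s] := hP.le.trans (Ld_le s)
  have sP := le_cent1_iff.1 Ps
  obtain ⟨h1, h2⟩ := sd_cent h s1 s2 (Ps hy) (hP.cent y hy y1) Po
  obtain ⟨Q, hQ⟩ : ∃ Q, Q = O 𝐂[y] := ⟨_, rfl⟩
  have Qo : Odd ♯Q := hQ ▸ odd_O _
  have Qs : s ∈ 𝐍(Q) := hQ ▸ O_norm _ (mem_cent1_comm.1 (Ps hy))
  rw [← hQ] at h1 h2 hc
  obtain ⟨D, hD, hn, hPD⟩ := exists_invariant_sylow_ge (p := 3) (zpowers_le.2 Qs)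
    (coprime_zp Qo s2).symm (.inr (sol_of_odd Qo)) (h2.ge.trans inf_le_left) P3
    (zpowers_le.2 (cent_le_norm _ sP))
  have h3 : P < D := lt_of_le_of_ne hPD fun e => hD.not_dvd (by
    have := card_mul_relIndex hD.le
    rw [← e, hP.card] at this
    rw [← e]
    generalize P.relIndex Q = n at *
    rw [← this, pow_two, mul_assoc, mul_left_comm, Nat.mul_right_inj (by omega)] at hc
    obtain ⟨b, rfl⟩ := q9
    exact ⟨b * m, by nlinarith⟩)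
  have h4 := lt_inf_norm_of_nil hD.nil h3
  have h5 : D ⊓ 𝐍(P) ≤ 𝐂(P) := by
    have e1 : zpowers s ≤ 𝐍(D ⊓ 𝐍(P)) :=
      le_norm_inf hn (le_norm_norm (zpowers_le.2 (cent_le_norm _ sP)))
    rw [← coprime_cent_prod e1 (coprime_zp (odd_of_le Qo (inf_le_left.trans hD.le)) s2)
      (.inl (sol_of_odd (odd_of_le Qo (inf_le_left.trans hD.le)))), cent_zpowers]
    exact sup_le ((commutator_mono inf_le_right (zpowers_le.2 sP)).trans
      (commutator_le_right' (norm_le_norm_cent P)))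
      (((inf_le_inf_right _ (inf_le_left.trans hD.le)).trans h2.le).trans (abelem_le_cent hP.elem))
  have h6 := sd h.toGl sP s2 fun w hw w2 => (mem_zp s2).1 (by
    have e1 := (sd h.toGl (mem_cent1_comm.1 (Ps hy)) s2 fun w hw w2 =>
      (h.two s s1 s2 w hw.2 w2).imp (fun e => eq_one_of_odd_of_sq (odd_of_mem Po
        ((hP.cent y hy y1).le ⟨e, hw.1⟩)) w2) fun e => ?_)
    · obtain ⟨a, ha, b, hb, rfl⟩ := e1.mem_iff.1 (cent_le_cent1 hy hw.1)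
      have e2 : a ∈ 𝐂[s] := (mul_mem_cancel_right (zpowers_le.2 (mem_cent1_self s) hb)).1 hw.2
      rw [(show Commute b a from mem_cent1.1 (zpowers_le.2 (mem_cent1_comm.1 e2) hb)).mul_mul_mul_comm,
        h.sq b ((piGrp_zpowers.2 (piElt_two s2)).piElt hb), mul_one] at w2
      rwa [eq_one_of_odd_of_sq (odd_of_mem (odd_O _) ha) w2, one_mul]
    · have := eq_one_of_odd_of_sq (odd_of_mem Po ((hP.cent y hy y1).le
        ⟨e, mul_mem hw.1 (mem_cent1_comm.1 (Ps hy))⟩)) (by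
        rw [(show Commute w s from mem_cent1.1 hw.2).symm.mul_mul_mul_comm, w2, s2, mul_one])
      rw [mul_eq_one_iff_eq_inv.1 this, inv_eq s2])
  have h7 := le_O_of_sd h6 s2 h5 (odd_of_le Qo (inf_le_left.trans hD.le))
  obtain ⟨C, hC⟩ : ∃ C, C = O 𝐂(P) := ⟨_, rfl⟩
  have CQ : C ≤ Q := hC ▸ h1 _ ((Opi_le _ _).trans (cent_le_cent1 hy)) (odd_O _)
  have CP : C ≤ 𝐂(P) := hC ▸ Opi_le _ _
  have Cn : 𝐍(P) ≤ 𝐍(C) := hC ▸ (norm_le_norm_cent P).trans (norm_le_norm_Opi _ _)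
  rw [← hC] at h7
  have cB : ♯(Ld s ⊓ 𝐍(P)) = q * r := by
    have := hP.card_norm
    rw [show q - 1 = 2 * r by omega, mul_left_comm] at this
    exact Nat.eq_of_mul_eq_mul_left two_pos this
  have PB : P ≤ Ld s ⊓ 𝐍(P) := le_inf hP.le (le_norm_self P)
  have rB : P.relIndex (Ld s ⊓ 𝐍(P)) = r := by
    have := card_mul_relIndex PB
    rw [cB, hP.card] at this
    exact Nat.eq_of_mul_eq_mul_left (by omega) this
  obtain ⟨T, hT, -⟩ := (show Syl 3 P _ from ⟨PB, P3, rB ▸ r3⟩).hall.exists_sdprod inf_le_right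
  have cT : ♯T = r := hT.relIndex_left.symm.trans rB
  have cQ : r.Coprime ♯Q := Nat.Coprime.coprime_dvd_right (Dvd.intro_left 3 hc)
    ((c3.symm.pow_right 2).mul_right (c2.coprime_dvd_right hm))
  obtain ⟨E, hE, hTE⟩ := exists_invariant_sylow 3 ((hT.right_le.trans inf_le_right).trans Cn)
    (cT ▸ cQ.coprime_dvd_right (card_dvd CQ)) (.inr (sol_of_odd (odd_of_le Qo CQ)))
  have h8 : r ∣ ♯E - 1 := cT ▸ regular_norm_dvd_pred hTE (semiregular_of_prime_order fun x hx xp =>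
    by_contra fun e => by
      have x1 : x ≠ 1 := fun e => xp.one_lt.ne' (by rw [e, orderOf_one])
      have xr := cT ▸ orderOf_dvd_card hx
      obtain ⟨R, hR, e1 | e1 | e1⟩ := hL.part x (hT.right_le hx).1 x1
      · exact xp.one_lt.ne' ((c3.symm.coprime_dvd_left xr).eq_one_of_dvd
          (e1.card ▸ orderOf_dvd_card hR))
      · obtain ⟨z, -, z3, zi, u, hu, u1, u2, zu, -⟩ := uf_tor h s1 s2 e1 hR x1 Nat.prime_three
          (by decide) ((dvd_card_of_isPGroup hE.isPGroup.to_inf_left e).trans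
            (card_dvd inf_le_right)) r3
        exact KK.r3 h u1 u2 zu z3 (mem_cent1_comm.1 hu) s2 zi
      · exact xp.one_lt.ne' ((((Nat.coprime_two_right.2 hL.par.1).mul_right c2).coprime_dvd_left
          xr).eq_one_of_dvd (e1.card ▸ orderOf_dvd_card hR)))
  obtain ⟨d, hd⟩ := hE.card_dvd (h4.le.trans h7) P3
  have h9 := (card_lt h4).trans_le (Nat.le_of_dvd (card_pos' E)
    (hE.card_dvd h7 hD.isPGroup.to_inf_left))
  have h10 : 3 * ♯E ∣ q ^ 2 := by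
    refine Nat.Coprime.dvd_of_dvd_mul_right ?_ (show 3 * ♯E ∣ q ^ 2 * m from
      hc ▸ Nat.mul_dvd_mul_left 3 (card_dvd (hE.le.trans CQ)))
    obtain ⟨i, hi⟩ := IsPGroup.iff_card.1 hE.isPGroup
    rw [hi, ← pow_succ']
    exact ((c1.coprime_dvd_right hm).coprime_dvd_left (Dvd.dvd.trans (by decide) q9)).pow_left _
  rw [hd, hP.card] at h8 h9 h10
  rw [pow_two, mul_left_comm, Nat.mul_dvd_mul_iff_left (by omega)] at h10
  have h11 := Nat.le_of_dvd (by omega) h10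
  have d1 : 1 < d := by_contra fun e => by nlinarith
  rw [qr, add_mul, one_mul, Nat.add_sub_assoc d1.le, mul_right_comm,
    Nat.dvd_add_right (Dvd.intro_left _ rfl)] at h8
  have := Nat.le_of_dvd (by omega) h8
  omega

theorem Cf.cent_le_t (f : Cf t K v k) (h : Gl1 G p q r k) (hx : x ∈ K) (hl : (orderOf x).Prime)
    (xo : Odd (orderOf x)) : 𝐂[x] ≤ 𝐂[t] := by
  have := Fact.mk Nat.prime_two
  have := Fact.mk hl
  have x1 : x ≠ 1 := fun e => hl.one_lt.ne' (by rw [e, orderOf_one])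
  have x2 := ne_sq xo x1
  have hp := f.pairX h.toGl hx x2
  have hN := f.cent_le_norm h hx x2
  by_contra hc
  obtain ⟨ρ₀, h4⟩ := hp.sdprod_or.resolve_left fun e => hc (e.sup_eq.ge.trans (sup_le
    ((le_cent_of_inf_eq_bot ((Opi_le _ _).trans hN) e.le_norm e.inf_eq).trans
      (cent_le_cent1 (t_mem_S4 t v))) hp.le_cent))
  obtain ⟨S, hS, hUS⟩ := exists_syl_ge le_top hp.syl.isPGroup
  have SU : S ≤ 𝐂(S4 t v) := (Ab.le_cent (h.ab2 S hS.isPGroup)).trans (cent_anti hUS)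
  obtain ⟨c, hc', n, hn, e⟩ := ((hS.mono SU le_top).frattini
    ⟨OO.cent_le_norm _, norm_le_norm_cent _⟩).mem_iff.1 h4.mem_norm
  obtain ⟨c8, c168⟩ := h.syl S hS
  rw [cent_S4] at hc'
  have hi := inv_mem hc'
  have e0 : ∀ y, n * y * n⁻¹ = c⁻¹ * (ρ₀ * y * ρ₀⁻¹) * c⁻¹⁻¹ := fun y => by rw [← e]; group
  have nt : n * t * n⁻¹ = v := by rw [e0, h4.ρt, mem_cent1_iff_conj.1 hi.2]
  have nv : n * v * n⁻¹ = t * v := by
    rw [e0, h4.ρs, ← conj_mul, mem_cent1_iff_conj.1 hi.1, mem_cent1_iff_conj.1 hi.2]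
  have n3 : n ^ 3 ∈ 𝐂[t] ⊓ 𝐂[v] := by
    have e1 : ∀ y, n ^ 3 * y * (n ^ 3)⁻¹ = n * (n * (n * y * n⁻¹) * n⁻¹) * n⁻¹ := fun y => by
      rw [pow_three]; group
    have e2 : n * (t * v) * n⁻¹ = t := by
      rw [← conj_mul, nt, nv, hp.comm.eq, ← mul_assoc, f.v2, one_mul]
    exact ⟨mem_cent1_iff_conj.2 (by rw [e1, nt, nv, e2]), mem_cent1_iff_conj.2 (by rw [e1, nv, e2, nt])⟩
  have n2 : n * n ∈ 𝐂[x] := sq_cent (by
    rw [e0, mem_cent1_iff_conj.1 h4.ρ_mem]; exact f.pm' h hi hx)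
  obtain ⟨ρ, hρ⟩ : ∃ ρ, ρ = n ^ 112 := ⟨_, rfl⟩
  have e1 : ∀ y, ρ * y * ρ⁻¹ = (n ^ 3) ^ 37 * (n * y * n⁻¹) * ((n ^ 3) ^ 37)⁻¹ := fun y => by
    rw [hρ]; group
  have n4 := pow_mem n3 37
  have ρt : ρ * t * ρ⁻¹ = v := by rw [e1, nt, mem_cent1_iff_conj.1 n4.2]
  have ρv : ρ * v * ρ⁻¹ = t * v := by
    rw [e1, nv, ← conj_mul, mem_cent1_iff_conj.1 n4.1, mem_cent1_iff_conj.1 n4.2]
  have ρx : ρ ∈ 𝐂[x] := by
    rw [hρ, show n ^ 112 = (n * n) ^ 56 by rw [← pow_two, ← pow_mul]]; exact pow_mem n2 56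
  have ρS : ρ ∈ 𝐍(S) := hρ ▸ pow_mem hn.2 112
  have ρt' : ρ ∉ 𝐂[t] := fun e => hp.ne ((mem_cent1_iff_conj.1 e).symm.trans ρt)
  have ρ1 : ρ ≠ 1 := fun e => ρt' (e ▸ one_mem _)
  have ρ3 : orderOf ρ = 3 := orderOf_eq_prime (hp := ⟨Nat.prime_three⟩) (by
    have := orderOf_dvd_card hn.2
    rw [c168] at this
    rw [hρ, ← pow_mul, ← orderOf_dvd_iff_pow_eq_one]
    exact this.trans (by decide)) ρ1
  have ρo : Odd (orderOf ρ) := by rw [ρ3]; decide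
  have cρ : ♯(zpowers ρ) = 3 := by rw [Nat.card_zpowers, ρ3]
  obtain ⟨s, hs, s1⟩ := exists_mem_ne_one fun e : S ⊓ 𝐂(zpowers ρ) = ⊥ => by
    have := regular_norm_dvd_pred (zpowers_le.2 ρS) (semiregular_prime (cρ ▸ Nat.prime_three) e)
    rw [cρ, c8] at this
    omega
  rw [cent_zpowers] at hs
  have s2 := h.sq s (hS.piGrp.piElt hs.1)
  have ρs := mem_cent1_comm.1 hs.2
  have sU := cent_S4 t v ▸ SU hs.1
  have si : ∀ y ∈ K, s * y * s⁻¹ = y⁻¹ := ((f.pm h sU).resolve_left fun e => by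
    have e1 : s ∈ 𝐂[x] := e.elim (f.le_cent hx ·) fun e =>
      (mul_mem_cancel_right hp.t_mem).1 (f.le_cent hx e)
    exact ρt' (f.cent_le' h.toGl hx xo x1 (f.mem_S4 h.toGl hx x2 ⟨e1, sU.1⟩ s2) s1 ⟨ρx, ρs⟩).1).2
  have hL := h.lf s s1 s2
  obtain ⟨o1, c1, c2, c3, -⟩ := par_cop hL.par
  have lk : orderOf x ∣ k := f.cardO h.toGl ▸ orderOf_dvd_card (f.memO h.toGl hx xo)
  have xρ := mem_cent1_comm.1 ρx
  obtain ⟨R, hR, e1 | e1 | e1⟩ := hL.part ρ (mem_Ld1 h s1 s2 ρs ρo) ρ1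
  rotate_left
  · obtain ⟨z, hz, zl, -, u, -, u1, u2, zu, ui⟩ := uf_tor h s1 s2 e1 hR ρ1 hl xo
      (orderOf_dvd_card xρ) (hl.coprime_iff_not_dvd.1 (c2.symm.coprime_dvd_left lk))
    exact ρ1 (tl h u1 u2 zu (zl ▸ xo) (fun e => hl.one_lt.ne' (by rw [← zl, e, orderOf_one]))
      (zl ▸ c1.symm.coprime_dvd_left lk) (zl ▸ c2.symm.coprime_dvd_left lk) (mem_cent1_comm.1 hz) ρo ui)
  · have k3 : orderOf ρ ∣ k := by
      have := orderOf_dvd_card hR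
      rw [ρ3, e1.card] at this
      rw [ρ3]
      omega
    exact x1 (tl h s1 s2 ρs ρo ρ1 (c1.symm.coprime_dvd_left k3) (c2.symm.coprime_dvd_left k3) xρ xo
      (si x hx))
  have q3 : 3 ∣ q := ρ3 ▸ e1.card ▸ orderOf_dvd_card hR
  obtain rfl : 3 = p := by
    obtain ⟨m, -, hq⟩ := hL.pow
    exact (Nat.prime_dvd_prime_iff_eq Nat.prime_three hL.prime).1
      (Nat.prime_three.dvd_of_dvd_pow (hq ▸ q3))
  obtain ⟨h1, h2⟩ := sd_cent h s1 s2 ρs (e1.cent ρ hR ρ1) (e1.card ▸ o1)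
  refine false_uni h s1 s2 e1 hR ρ1 (m := ♯(K ⊓ O 𝐂[ρ])) (f.cardO h.toGl ▸ card_dvd fun y hy =>
    f.memO h.toGl hy.1 (odd_of_mem (odd_O _) hy.2)) ?_
  obtain ⟨Q, hQ⟩ : ∃ Q, Q = O 𝐂[ρ] := ⟨_, rfl⟩
  have Qo : Odd ♯Q := hQ ▸ odd_O _
  have Qa : Q ≤ 𝐂[ρ] := hQ ▸ Opi_le _ _
  have Qs : s ∈ 𝐍(Q) := hQ ▸ O_norm _ hs.2
  rw [← hQ] at h1 h2 ⊢
  have ρQ : ρ ∈ Q := (h2.ge hR).1
  have xQ : x ∈ Q := h1 _ (zpowers_le.2 xρ) (Nat.card_zpowers x ▸ xo) (mem_zpowers x)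
  have hD : IsDprod (zpowers ρ) (K ⊓ Q) (zpowers ρ ⊔ K ⊓ Q) := .of_sup
    (cent_zpowers ρ ▸ inf_le_right.trans Qa) (inf_eq_bot_of_prime (cρ ▸ Nat.prime_three)
      fun e => ρt' (f.le (e (mem_zpowers ρ)).1))
  have h5 : Q ⊓ 𝐍(zpowers x) ≤ zpowers ρ ⊔ K ⊓ Q := fun g hg => by
    obtain ⟨w, hw, e⟩ := f.norm_S4 h.toGl ρt ρv
      (hp.syl.norm_le_norm_of_normal hN (norm_zp_le x hg.2))
    have e2 := mul_mem (inv_mem (zpowers_le.2 ρQ hw)) hg.1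
    exact (mul_mem_cancel_left (inv_mem (mem_sup_left hw))).1
      (mem_sup_right ⟨f.mem_K h e (odd_of_mem Qo e2), e2⟩)
  have h3 : Q ⊓ 𝐂[x] = zpowers ρ ⊔ K ⊓ Q :=
    le_antisymm ((inf_le_inf_left _ (cent_le_norm_zp x)).trans h5)
      (sup_le (zpowers_le.2 ⟨ρQ, ρx⟩) (le_inf inf_le_right (inf_le_left.trans (f.le_cent hx))))
  have h4 : Q ⊓ 𝐂[x] ⊓ 𝐂[s] = zpowers ρ := le_antisymm (fun g hg => by
    obtain ⟨b, hb, y, hy, rfl⟩ := hD.mem_iff.1 (h3.le hg.1)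
    rwa [eq_one_of_inv (odd_of_mem Qo hy.2) (mem_cent1_comm.1 ((mul_mem_cancel_left
      (zpowers_le.2 ρs hb)).1 hg.2)) (si y hy.1), mul_one]) (zpowers_le.2 ⟨⟨ρQ, ρx⟩, ρs⟩)
  have h6 := wl Qo s1 s2 Qs hl xQ rfl (si x hx)
    (by rw [h2, e1.card]; exact hl.coprime_iff_not_dvd.1 (c1.symm.coprime_dvd_left lk))
    (ab_of_le (hD.ab (ab_of_isCyclic inferInstance) (ab_of_le (tor_ab f.tor) inf_le_left)) h5)
    fun D hD' hp => isCyclic_of_le' f.tor.cyc ((le_of_coprime_relIndex (h3 ▸ hD')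
      hD.normal_right.norm (hD.relIndex_right ▸ coprime_of_isPGroup hp ((piGrp_compl_singleton hl).2
        (hl.coprime_iff_not_dvd.1 (cρ ▸ (c1.symm.coprime_dvd_left lk).coprime_dvd_right q3))))).trans
          inf_le_left)
  rw [h4, h2, h3, ← hD.card, cρ, e1.card] at h6
  exact Nat.eq_of_mul_eq_mul_left (n := 3) (by decide) (by rw [← mul_assoc, mul_left_comm, ← h6]; rfl)

end Cfsg.Agent.JR.KK

namespace Cfsg.Agent.JR

open Subgroup Cfsg.Agent.OO KK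

universe u

theorem kf : KF.{u} := by
  intro G _ _ t H L S P T p q r k h K hK x hx x2
  have hG := gl1_of_fr h
  obtain ⟨v, hv, v1, v2⟩ := exists_v hK
  have c : Cf t K v k := ⟨h.t1, h.t2, fr_eq h ▸ hK, hv, v1, v2⟩
  obtain ⟨y, hy, e1, e2, e3⟩ := c.exists_prime hG.toGl hx x2
  exact e3.trans (c.cent_le_t hG hy e1 e2)

end Cfsg.Agent.JR
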