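import Cfsg.Agent.Lib.JR.LA

/-!
# Package Y1: the Borel subgroup of `C(t)` normalizes no odd `3'`-subgroup inverted by `t`
-/

set_option autoImplicit false

namespace Cfsg.Agent.JR

open Subgroup Cfsg.Agent.OO Cfsg.Agent.Coprime Cfsg.Agent.R1 Cfsg.Agent.GW
open scoped commutatorElement Pointwise

universe u

namespace La

theorem dvd_case {d r : ℕ} (hr : 1 < r) (h : d ∣ 2 * r + 1) (h1 : d ≡ 1 [MOD r]) :
    d = 1 ∨ d = 2 * r + 1 := by
  obtain ⟨e, he⟩ := h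
  rw [Nat.ModEq, Nat.mod_eq_of_lt hr] at h1
  by_cases h2 : d < r
  · exact .inl (Nat.mod_eq_of_lt h2 ▸ h1)
  have h3 : d ≠ r := fun e => by simp [e] at h1
  have h4 : e < 2 := by nlinarith [Nat.lt_of_le_of_ne (not_lt.1 h2) h3.symm]
  interval_cases e <;> omega

theorem pow_case {c f r : ℕ} (hr : 1 < r) (hq : 2 * r + 1 = 3 ^ f) (h : c ∣ (3 ^ f) ^ 3)
    (h0 : 3 ^ f ∣ c) (h1 : c ≡ 1 [MOD r]) : c = 3 ^ f ∨ c = (3 ^ f) ^ 2 ∨ c = (3 ^ f) ^ 3 := by
  have k : ∀ a, 3 ^ f * a ≡ 1 [MOD r] → a ≡ 1 [MOD r] := fun a ha => by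
    have : 3 ^ f * a ≡ 1 * a [MOD r] := Nat.ModEq.mul_right _ (by
      rw [← hq, mul_comm, Nat.ModEq, Nat.mul_add_mod])
    exact (one_mul a ▸ this).symm.trans ha
  rw [← pow_mul] at h
  obtain ⟨e, he, rfl⟩ := (Nat.dvd_prime_pow Nat.prime_three).1 h
  obtain ⟨a, rfl⟩ := Nat.exists_eq_add_of_le ((Nat.pow_dvd_pow_iff_le_right (by decide)).1 h0)
  rw [pow_add] at h1 ⊢
  rcases le_total a f with h2 | h2
  · rcases dvd_case hr (hq ▸ pow_dvd_pow 3 h2) (k _ h1) with e | e <;> simp [e, hq, pow_two]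
  obtain ⟨b, rfl⟩ := Nat.exists_eq_add_of_le h2
  rw [pow_add] at h1 ⊢
  rcases dvd_case hr (hq ▸ pow_dvd_pow 3 (show b ≤ f by omega)) (k _ (k _ h1)) with e | e <;>
    simp [e, hq, pow_two, pow_three]

theorem eq_of_dvd {y m q r : ℕ} (hr : 1 < r) (ho : Odd r) (hq : 2 * r + 1 = q)
    (hm : m + q = q * q + 1) (hy : y ∣ m) (h1 : Odd y) (h2 : r ∣ y - 1) (y1 : 1 < y) : y = m := by
  obtain ⟨a, ha⟩ := (Nat.coprime_two_left.2 ho).mul_dvd_of_dvd_of_dvd
    (even_iff_two_dvd.1 (Nat.Odd.sub_odd h1 odd_one)) h2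
  obtain ⟨c, hc⟩ := hy
  obtain rfl : y = 2 * r * a + 1 := by omega
  have e : m = 2 * r * q + 1 := by subst hq; nlinarith
  have h3 : (2 * r : ℤ) ∣ c - 1 := ⟨q - a * c, by
    have : (2 * r * q + 1 : ℤ) = (2 * r * a + 1) * c := by exact_mod_cast e ▸ hc
    linear_combination -this⟩
  obtain ⟨b, hb⟩ := h3
  obtain rfl : c = 1 := by
    have h4 : (2 * r * q + 1 : ℤ) = (2 * r * a + 1) * c := by exact_mod_cast e ▸ hc
    have h5 : (q : ℤ) = a + b + 2 * r * a * b := mul_left_cancel₀ (a := (2 * r : ℤ)) (by omega) (by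
      rw [show (c : ℤ) = 2 * r * b + 1 by omega] at h4; linear_combination h4)
    have a0 : (1 : ℤ) ≤ a := by
      have : a ≠ 0 := fun e => by simp [e] at y1
      omega
    have c0 : c ≠ 0 := fun e' => by simp [e', e] at hc
    have b0 : 0 ≤ b := by
      by_contra! h
      nlinarith
    by_contra h6
    have b1 : 1 ≤ b := by
      by_contra! h
      rw [show b = 0 by omega] at hb
      omega
    have h7 : a * b < 2 := by nlinarith
    have h8 : (a : ℤ) = 1 := by nlinarith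
    have h9 : b = 1 := by nlinarith
    rw [h8, h9] at h5
    omega
  rw [hc, mul_one]

theorem not_seven {a f : ℕ} (hf : Odd f) (h5 : 5 ≤ 3 ^ f) : 7 ^ a + 3 ^ f ≠ 3 ^ f * 3 ^ f + 1 := by
  intro e
  obtain ⟨g, rfl⟩ : ∃ g, f = g + 2 := ⟨f - 2, by
    have : ¬ f < 2 := fun h => by interval_cases f <;> omega
    omega⟩
  have h1 := congrArg (Nat.cast : ℕ → ZMod 9) e
  have h2 := congrArg (Nat.cast : ℕ → ZMod 19) e
  push_cast at h1 h2
  rw [pow_add, show (3 : ZMod 9) ^ 2 = 0 from rfl, mul_zero, mul_zero, add_zero, zero_add,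
    ← Nat.div_add_mod a 3, pow_add, pow_mul, show (7 : ZMod 9) ^ 3 = 1 from rfl, one_pow] at h1
  rw [← Nat.div_add_mod a 3, ← Nat.div_add_mod (g + 2) 18, pow_add, pow_add, pow_mul, pow_mul,
    show (7 : ZMod 19) ^ 3 = 1 from rfl, show (3 : ZMod 19) ^ 18 = 1 from rfl, one_pow, one_pow] at h2
  have h3 : (g + 2) % 18 % 2 = 1 := by have := Nat.odd_iff.1 hf; omega
  have h4 := Nat.mod_lt a three_pos
  have h6 := Nat.mod_lt (g + 2) (show 0 < 18 by decide)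
  generalize a % 3 = i at *
  generalize (g + 2) % 18 = j at *
  obtain rfl : i = 0 := by interval_cases i <;> first | rfl | exact absurd h1 (by decide)
  interval_cases j <;> first | omega | exact absurd h2 (by decide)

variable {G : Type u} [Group G] [Finite G] {t : G} {H L S P T Y : Subgroup G} {q r k m : ℕ}
  (h : Fr t H L ⊥ S P T 3 q r k) (hT : ∀ x ∈ T, x ≠ 1 → 𝐂[x] ≤ 𝐂[t])
  (hY : Y ⊓ 𝐂[t] = ⊥) (hn : zpowers t ⊔ P ⊔ T ⊔ ⊥ ≤ 𝐍(Y))
include h

omit [Finite G] in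
theorem HL : H = L := h.sup.symm.trans (sup_bot_eq L)

theorem mem_tor {K : Subgroup G} {n : ℕ} (hK : Tor L K n) {x c : G} (hx : x ∈ K) (x1 : x ≠ 1)
    (hc : c ∈ 𝐂[x]) (ht : c ∈ 𝐂[t]) (ho : Odd (orderOf c)) : c ∈ K := by_contra fun e => e
  (eq_one_of_odd_of_sq ho (hK.inv c (hK.norm x hx x1 ▸ ⟨HL h ▸ mem_H h ht ho,
    cent_le_norm _ ((cent_zpowers x).ge hc)⟩) e).1 ▸ one_mem K)

include hT hY

omit [Finite G] h in
theorem reg : Semiregular Y T := semiregular_iff.2 fun x hx x1 _ hy e =>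
  mem_bot.1 (hY ▸ ⟨hy, hT x hx x1 (mem_cent1.2 e.symm)⟩)

include hn

theorem P_le (ho : Odd ♯Y) (h3 : ¬ 3 ∣ ♯Y) : P ≤ 𝐂(Y) := by
  have h1 : P ⊔ T ≤ 𝐍(Y) := (sup_le_sup_right le_sup_right T).trans (le_sup_left.trans hn)
  have T0 : T ≠ ⊥ := fun e => by
    have := cardT h
    have := num h
    have := h.five
    rw [e, card_bot] at *
    omega
  have h2 : Semiregular P T := Semiregular.symm (semiregular_iff.2 fun y hy y1 x hx e =>
    mem_bot.1 (inf_eq_bot_of_coprime_card (copPT h) ▸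
      ⟨(h.uni.cent y hy y1).le ⟨h.tor.le hx, mem_cent1.2 e.symm⟩, hx⟩))
  refine (Frobenius_Wielandt_fixpoint (h2.isFrob h.TP (P_ne h) T0) h1 ?_ (sol_of_odd ho)).2.1
    ((reg hT hY).inf_cent le_rfl T0)
  rw [← (IsSdprod.of_coprime h.TP (copPT h)).card]
  exact (coprime_of_isPGroup (pP h) ((piGrp_compl_singleton Nat.prime_three).2 h3)).symm.mul_right
    (regular_norm_coprime (le_sup_right.trans h1) (reg hT hY))

theorem cop_k (hK : K0 t L k) (ho : Odd ♯Y) (h3 : ¬ 3 ∣ ♯Y) (h0 : Y ≠ ⊥) : (♯𝐂(Y)).Coprime k := by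
  refine Nat.coprime_of_dvd fun l hl h1 h2 => ?_
  have := Fact.mk hl
  have hq := num h
  have l2 : l ≠ 2 := fun e => by have := Nat.odd_iff.1 h.par.2.1; rw [e] at h2; omega
  obtain ⟨v, hv, v1, v2⟩ := exists_inv h
  obtain ⟨K, hvK, hK'⟩ := h.part v hv v1
  have h4 := orderOf_dvd_card hvK
  rw [orderOf_eq_two v2 v1] at h4
  replace hK' : Tor L K (2 * k) := (hK'.resolve_left fun e => by
    rw [e.card] at h4; omega).resolve_left fun e => by
      rw [e.card] at h4; have := Nat.odd_iff.1 h.par.1; omega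
  have c : ∀ x ∈ K, x ≠ 1 → Odd (orderOf x) → ∀ y ∈ 𝐂[x], Odd (orderOf y) → y ∈ K :=
    fun x hx x1 ho y hy => mem_tor h hK' hx x1 hy
      (hK K hK' x hx (fun e => x1 (eq_one_of_odd_of_sq ho e)) hy)
  have n1 : ∀ x : G, orderOf x = l → x ≠ 1 := fun x e e' => hl.one_lt.ne' (by rw [← e, e', orderOf_one])
  have pg : ∀ x : G, orderOf x = l → IsPGroup l (zpowers x) := fun x e =>
    abelem_isPGroup (abelem_zpowers (e ▸ pow_orderOf_eq_one x))
  obtain ⟨x, hx, e⟩ := cauchy hl (hK'.card ▸ h2.mul_left 2)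
  obtain ⟨R, hR, hxR⟩ := exists_syl_ge le_top (pg x e)
  have oR := odd_of_isPGroup l2 hR.isPGroup
  replace hxR := hxR (mem_zpowers x)
  obtain ⟨z, hz, z1⟩ := exists_mem_ne_one (Zc_ne_bot hR.nil fun e' => n1 x e (mem_bot.1 (e' ▸ hxR)))
  have oz := odd_of_mem oR (Zc_le R hz)
  have zK := c x hx (n1 x e) (odd_of_mem oR hxR) z (cent_le_cent1 hxR (Zc_le_cent R hz)) oz
  obtain ⟨w, hw, e'⟩ := cauchy hl h1
  obtain ⟨g, -, hg⟩ := hR.exists_conj_le le_top (pg w e')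
  replace hg := hg (conj_mem_conj (mem_zpowers w))
  have wK := c z zK z1 oz _ (le_cent1_iff.2 (Zc_le_cent R hz) hg) (odd_of_mem oR hg)
  obtain ⟨y, hy, y1⟩ := exists_mem_ne_one h0
  have oy : Odd (orderOf (g * y * g⁻¹)) := by rw [orderOf_conj]; exact odd_of_mem ho hy
  have yK := c _ wK (conj_ne_one.2 (n1 w e')) (odd_of_mem oR hg) (g * y * g⁻¹) (by
    rw [cent1_conj]; exact conj_mem_conj (le_cent1_iff.2 hw hy)) oy
  have h5 : g •ᶜ P ≤ K := fun a ha => c _ yK (conj_ne_one.2 y1) oy a (by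
    rw [cent1_conj]; exact conj_mono g ((P_le h hT hY hn ho h3).trans (cent_le_cent1 hy)) ha)
      (odd_of_mem (odd_of_isPGroup (by decide) (isPGroup_conj.2 (pP h))) ha)
  have h6 := card_dvd h5
  rw [card_conj, h.uni.card, hK'.card] at h6
  have := hq.1.trans h6
  omega

theorem cop_Y (hK : K0 t L k) (ho : Odd ♯Y) (h3 : ¬ 3 ∣ ♯Y) (h0 : Y ≠ ⊥) :
    (♯Y).Coprime (q ^ 3 * (4 * k) * (2 * r)) := by
  have tY : t ∈ 𝐍(Y) := hn (mem_sup_left (mem_sup_left (mem_sup_left (mem_zpowers t))))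
  obtain ⟨f, -, e⟩ := h.pow
  have h2 := Nat.coprime_two_right.2 ho
  refine (((((Nat.Prime.coprime_iff_not_dvd Nat.prime_three).2 h3).symm.pow_right f).coprime_dvd_right
    e.dvd).pow_right 3 |>.mul_right ((h2.pow_right 2).mul_right ((cop_k h hT hY hn hK ho h3
      h0).coprime_dvd_left (card_dvd (ab_of_inf_eq_bot h.t2 tY hY).le_cent)))).mul_right
        (h2.mul_right ?_)
  exact cardT h ▸ regular_norm_coprime ((le_sup_of_le_left le_sup_right).trans hn) (reg hT hY)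

theorem card_Y (hK : K0 t L k) (ho : Odd ♯Y) (h3 : ¬ 3 ∣ ♯Y) (h0 : Y ≠ ⊥) (hm : m + q = q * q + 1)
    (hG : Nat.card G = q ^ 3 * (4 * k) * (2 * r) * m) : ♯Y = m := by
  have := num h
  have := h.five
  exact eq_of_dvd (by omega) h.par.1 (num h).2.2 hm ((cop_Y h hT hY hn hK ho h3 h0).dvd_of_dvd_mul_left
    (hG ▸ Y.card_subgroup_dvd_card)) ho (cardT h ▸ regular_norm_dvd_pred
      ((le_sup_of_le_left le_sup_right).trans hn) (reg hT hY)) (one_lt_card h0)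

theorem odd_C (hK : K0 t L k) (ho : Odd ♯Y) (h3 : ¬ 3 ∣ ♯Y) (h0 : Y ≠ ⊥) : Odd ♯𝐂(Y) :=
  odd_of_forall fun u hu u2 => by_contra fun u1 => by
    obtain ⟨g, rfl⟩ := h.conj u u1 u2
    have h1 := card_dvd (le_H h (Y := g⁻¹ •ᶜ Y) (le_conj_iff_inv_conj_le.1
      (cent1_conj g t ▸ le_cent1_iff.2 hu)) (by rwa [card_conj]))
    rw [card_conj, HL h, h.card] at h1
    exact h0 (card_eq_one_iff.1 ((cop_Y h hT hY hn hK ho h3 h0).eq_one_of_dvd
      (h1.trans ⟨2 * q ^ 2, by ring⟩)))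

theorem regC (hC : Odd ♯𝐂(Y)) (h0 : Y ≠ ⊥) : Semiregular 𝐂(Y) T :=
  semiregular_iff.2 fun x hx x1 c hc e => by_contra fun c1 => h0 (eq_bot_iff.2 (hY ▸ le_inf le_rfl
    ((le_cent1_iff.2 hc).trans (hT c (mem_tor h h.tor hx x1 (mem_cent1.2 e.symm)
      (hT x hx x1 (mem_cent1.2 e.symm)) (odd_of_mem hC hc)) c1))))

theorem card_N (hC : Odd ♯𝐂(Y)) (hP : P ≤ 𝐂(Y)) (h0 : Y ≠ ⊥) : ♯𝐍(Y) = ♯𝐂(Y) * (2 * r) := by
  have tY : t ∈ 𝐍(Y) := hn (mem_sup_left (mem_sup_left (mem_sup_left (mem_zpowers t))))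
  have hD : P ⊔ T ⊔ ⊥ ≤ 𝐍(Y) := (sup_le_sup_right (sup_le_sup_right le_sup_right T) ⊥).trans hn
  have TY : T ≤ 𝐍(Y) := (le_sup_of_le_left le_sup_right).trans hn
  have hr := regC h hT hY hn hC h0
  have e1 : ♯(zpowers t ⊔ T : Subgroup G) = 2 * r := by
    rw [← (IsSdprod.of_coprime (le_norm_of_le_cent ((h.tor.le.trans (h.le.trans (HC h))).trans
      (cent_zpowers t).ge)) (coprime_zp (cardT h ▸ h.par.1) h.t2).symm).card, Nat.card_zpowers,
      orderOf_eq_two h.t2 h.t1, cardT h]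
  have h1 : zpowers t ⊔ T ≤ 𝐍(Y) := sup_le (zpowers_le.2 tY) TY
  have hL : ¬ L ≤ 𝐍(Y) := fun e => by
    have h2 := (h.smp _ (normalIn_inf_cent e)).resolve_left fun e' =>
      P_ne h (eq_bot_iff.2 (e' ▸ le_inf h.uni.le hP))
    have h3 := cardT h
    have := num h
    have := h.five
    rw [← inf_eq_right.2 (h.tor.le.trans (h2.ge.trans inf_le_right)), hr.inf_eq_bot, card_bot] at h3
    omega
  rw [← e1, (IsSdprod.of_coprime (le_norm_cent h1) (by
    rw [e1, ← cardT h]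
    exact (Nat.coprime_two_right.2 hC).mul_right (regular_norm_coprime (le_norm_cent TY) hr))).card]
  refine congrArg (fun X : Subgroup G => ♯X) (le_antisymm (fun g hg => ?_) (sup_le (cent_le_norm Y) h1))
  obtain ⟨c, hc, e⟩ := coprime_cent_lift (A := zpowers t) (le_norm_cent (zpowers_le.2 tY))
    (coprime_zp hC h.t2) (.inl (sol_of_odd hC)) (norm_le_norm_cent Y hg) fun a ha => by
      rcases (mem_zp h.t2).1 ha with rfl | rfl
      · simp
      refine mem_cent_iff_conj.2 fun y hy => ?_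
      have e1 := conj_eq_inv h.t2 tY hY hy
      have e2 := conj_eq_inv h.t2 tY hY (conj_mem_of_norm' hg (inv_mem hy))
      calc _ = g * (a * (g⁻¹ * (a⁻¹ * y * a) * g) * a⁻¹) * g⁻¹ := by group
        _ = y := by
          rw [show a⁻¹ * y * a = y⁻¹ by rw [← e1, inv_eq h.t2], e2]; group
  have h2 : P ⊔ T ⊔ ⊥ ≤ 𝐂(Y) ⊔ (zpowers t ⊔ T) :=
    sup_le (sup_le (le_sup_of_le_left hP) (le_sup_of_le_right le_sup_right)) bot_le
  have h3 := mul_mem (cent_le_norm Y hc) hg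
  rw [← mul_mem_cancel_left (mem_sup_left hc)]
  rcases (h.cent _).1 ((cent_zpowers t).le e) with e' | e'
  · exact h2 ((inf_H h hD hL).le ⟨h3, e'⟩)
  · exact (mul_mem_cancel_right (mem_sup_right (mem_sup_left (mem_zpowers t)))).1
      (h2 ((inf_H h hD hL).le ⟨mul_mem h3 tY, e'⟩))

end La

open La in
theorem y1 : Y1.{u} := by
  intro G _ _ t H L S P T q r k h hT hK hG Y ho h3 hY hn
  by_contra h0
  obtain ⟨l, hl, hd⟩ := exists_prime_dvd h0
  have := Fact.mk hl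
  wlog hp : IsPGroup l Y generalizing Y
  · have tY : t ∈ 𝐍(Y) := hn (mem_sup_left (mem_sup_left (mem_sup_left (mem_zpowers t))))
    have h1 := syl_Op_of_nil l (nil_of_ab (ab_of_inf_eq_bot h.t2 tY hY))
    exact this (Op l Y) (odd_of_le ho h1.le) (fun e => h3 (e.trans (card_dvd h1.le)))
      (eq_bot_iff.2 (hY ▸ inf_le_inf_right _ h1.le)) (le_norm_Op l hn) (h1.ne_bot hd)
      (h1.dvd_card_iff.2 hd) h1.isPGroup
  obtain ⟨q3, hk, hr⟩ := num h
  have q5 := h.five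
  obtain ⟨m, hm⟩ : ∃ m, m + q = q * q + 1 := ⟨q * q + 1 - q, Nat.sub_add_cancel (by nlinarith)⟩
  replace hG : Nat.card G = q ^ 3 * (4 * k) * (2 * r) * m := by
    rw [hG, ← hk, show q - 1 = 2 * r by omega, show q ^ 3 + 1 = (q + 1) * m by nlinarith]; ring
  have e1 := card_Y h hT hY hn hK ho h3 h0 hm hG
  have cop := cop_Y h hT hY hn hK ho h3 h0
  have hC := odd_C h hT hY hn hK ho h3 h0
  have hP := P_le h hT hY hn ho h3
  have e2 := card_N h hT hY hn hC hP h0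
  have tY : t ∈ 𝐍(Y) := hn (mem_sup_left (mem_sup_left (mem_sup_left (mem_zpowers t))))
  have TY : T ≤ 𝐍(Y) := (le_sup_of_le_left le_sup_right).trans hn
  obtain ⟨c, hc⟩ := card_dvd (ab_of_inf_eq_bot h.t2 tY hY).le_cent
  have m0 := card_pos' Y
  have nd : ¬ l ∣ q ^ 3 * (4 * k) * (2 * r) := fun e =>
    hl.one_lt.ne' (Nat.eq_one_of_dvd_coprimes cop hd e)
  have e3 := Y.card_mul_index
  rw [hG, ← e1, mul_comm, mul_left_inj' m0.ne'] at e3
  have e4 := card_sylow_modEq_one l G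
  rw [(hp.toSylow (e3 ▸ nd)).card_eq_index_normalizer] at e4
  replace e4 : (𝐍(Y)).index ≡ 1 [MOD l] := e4
  have e5 := (𝐍(Y)).card_mul_index
  generalize (𝐍(Y)).index = n at e4 e5
  have e6 : c * n = q ^ 3 * (4 * k) := mul_right_cancel₀ (b := 2 * r * ♯Y) (mul_ne_zero (by omega) m0.ne') (by
    rw [e2, hc, hG, ← e1] at e5; linear_combination e5)
  have ck := cop_k h hT hY hn hK ho h3 h0
  rw [hc] at ck hC
  have c1 : c ∣ q ^ 3 := ((((Nat.coprime_two_right.2 hC).pow_right 2).mul_right ck).coprime_dvd_left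
    (dvd_mul_left c _)).dvd_of_dvd_mul_right (e6 ▸ dvd_mul_right c n)
  have c2 : q ∣ c := (cop.symm.coprime_dvd_left ⟨q ^ 2 * (4 * k) * (2 * r), by ring⟩).dvd_of_dvd_mul_left
    (hc ▸ h.uni.card ▸ card_dvd hP)
  have c3 : c ≡ 1 [MOD r] := by
    have h1 := (Nat.modEq_iff_dvd' (card_pos' _)).2 (regular_norm_dvd_pred TY (reg hT hY))
    have h2 := (Nat.modEq_iff_dvd' (card_pos' _)).2 (regular_norm_dvd_pred (le_norm_cent TY)
      (regC h hT hY hn (hc ▸ hC) h0))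
    rw [cardT h] at h1 h2
    exact ((one_mul c ▸ h1.mul_right c).trans (hc ▸ h2).symm)
  obtain ⟨f, hf, hq⟩ := h.pow
  have c4 := pow_case (by omega) (hr.trans hq) (hq ▸ c1) (hq ▸ c2) c3
  rw [← hq] at c4
  have z1 : (l : ℤ) ∣ q * q + 1 - q := by
    rw [show (q * q + 1 - q : ℤ) = m by omega]; exact Int.natCast_dvd_natCast.2 (e1 ▸ hd)
  have z2 : (l : ℤ) ∣ 1 - n := by exact_mod_cast e4.dvd
  have z3 : ∀ a : ℤ, (l : ℤ) ∣ a → a ∣ q ^ 3 * (4 * k) * (2 * r) → False := fun a h1 h2 =>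
    nd (by exact_mod_cast h1.trans h2)
  have q0 : (q : ℤ) ≠ 0 := by omega
  replace e6 : (c * n : ℤ) = q ^ 3 * (q + 1) := by rw [← hk] at e6; exact_mod_cast e6
  rcases c4 with rfl | rfl | rfl
  · rw [show (n : ℤ) = c ^ 2 * (c + 1) from mul_left_cancel₀ q0 (by linear_combination e6)] at z2
    have z4 : (l : ℤ) ∣ 7 := by
      rw [show (7 : ℤ) = (c ^ 2 + 4 * c + 5) * (c * c + 1 - c) + (c + 2) * (1 - c ^ 2 * (c + 1)) by
        ring]
      exact (z1.mul_left _).add (z2.mul_left _)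
    obtain rfl := (Nat.prime_dvd_prime_iff_eq hl (by norm_num)).1 (Int.natCast_dvd_natCast.1 z4)
    obtain ⟨a, ha⟩ := hp.exists_card_eq
    rw [← e1, ha, hq] at hm
    exact not_seven hf (hq ▸ q5) hm
  · rw [show (n : ℤ) = q * (q + 1) from mul_left_cancel₀ (pow_ne_zero 2 q0) (by
      push_cast at e6; linear_combination e6)] at z2
    refine z3 (4 * r) ?_ ⟨2 * q ^ 3 * k, by ring⟩
    rw [show (4 * r : ℤ) = -((q * q + 1 - q) + (1 - q * (q + 1))) by
      rw [show (q : ℤ) = 2 * r + 1 by omega]; ring]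
    exact (z1.add z2).neg_right
  · rw [show (n : ℤ) = q + 1 from mul_left_cancel₀ (pow_ne_zero 3 q0) (by
      push_cast at e6; linear_combination e6)] at z2
    exact z3 q (by simpa using z2) ⟨q ^ 2 * (4 * k) * (2 * r), by ring⟩

end Cfsg.Agent.JR
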