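import Cfsg.Agent.Lib.JR.Ind3
import Cfsg.Agent.Lib.JR.KF
import Cfsg.Agent.Lib.JR.CH1
import Cfsg.Agent.Lib.JR.CH2
import Cfsg.Agent.Lib.JR.Y1
import Cfsg.Agent.Lib.WF.DG2

/-!
# Package IND: the induction
-/

set_option autoImplicit false
set_option linter.unusedSectionVars false

namespace Cfsg.Agent.JR.Ind

open Subgroup Cfsg.Agent.OO Cfsg.Agent.Coprime Cfsg.Agent.R1 Cfsg.Agent.GW
open scoped commutatorElement Pointwise MatrixGroups

universe u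

variable {G : Type u} [Group G] [Finite G] {H L P Q S T W : Subgroup G} {p q r k s : ℕ} {d t w : G}

theorem flat (q5 : Q5.{u}) (h : Fr t H L ⊥ S P T p q r k) :
    q = 5 ∧ Nat.card G = 175560 ∨ Ree t H L q := by
  obtain ⟨Θ, hΘ⟩ := ch1 G t H L S P T p q r k h
  rcases h.five.eq_or_lt with rfl | h5
  · exact .inl ⟨rfl, q5 G t H L S P T p r k Θ h hΘ⟩
  have h0 := kf G t H L S P T p q r k h
  obtain ⟨rfl, hG⟩ := ch2 G t H L S P T p q r k Θ h h5 h0 hΘ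
  have hHL : L = H := by rw [← h.sup, sup_bot_eq]
  have h1 : ∀ x ∈ T, x ≠ 1 → H ⊓ 𝐂[x] = T := fun x hx x1 => hHL ▸ h.tor.cent hx
    (KK.ne_sq (odd_of_mem (La.cardT h ▸ h.par.1) hx) x1)
  have h2 : ∀ x ∈ T, (orderOf x).Prime → ¬ orderOf x ∣ ♯(⊥ : Subgroup G) ∧ H ⊓ 𝐂[x] = T :=
    fun x hx hp => ⟨by simpa using hp.ne_one, h1 x hx fun e => by simp [e] at hp; exact absurd hp (by norm_num)⟩
  obtain ⟨x, hx, hp, h3, h4⟩ := h.exx rfl
  refine .inr (ree h hx hp (cent_le h hx hp h3 h4) (y1 G t H L S P T q r k h (fun x hx x1 => ?_) h0 hG)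
    fun Q hB _ => ?_)
  · obtain ⟨y, hy, hp⟩ := exists_prime_order_mem (zpowers_ne_bot.2 x1)
    have hy' := zpowers_le.2 hx hy
    exact (cent1_le_of_mem_zpowers hy).trans
      (iv kl G t H L ⊥ S P T q r k h y hy' hp (h2 y hy' hp).1 (h2 y hy' hp).2)
  have := Fact.mk Nat.prime_three
  obtain ⟨f, -, e⟩ := h.pow
  refine Nat.le_of_dvd (card_pos' Q) ?_
  rw [hB.syl.card_eq_partn]
  exact dvd_partn (card_pos' _).ne' (by rw [card_top, hG, mul_assoc]; exact dvd_mul_right _ _)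
    (e ▸ (isPiNum_singleton_pow Nat.prime_three f).pow 3)

theorem Cx.small_main (h : Cx t H L W S P T p q r k w s) (hq : q = 3 ^ s)
    (h12 : ♯(L ⊓ 𝐂[w] : Subgroup G) = 12) : Ree t H L q := by
  obtain ⟨rfl, hW⟩ := h.prime_case Nat.prime_three hq
  obtain ⟨x, hx, hp, h3, h4⟩ := h.exx rfl
  have hc := cent_le h.toFr hx hp h3 h4
  refine ree h.toFr hx hp hc (h.y0 hx hp h4 hc fun d => h.small_y hW h12 rfl) fun Q hB ti =>
    h.le_card hx hp h4 hc (j := 1) (by simpa using hq) ?_ hB ti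
  rcases h.small hW h12 with ⟨h1, -⟩ | h1
  · exfalso
    by_cases h7 : s = 7
    · obtain ⟨E, z, h2, h4, h5, h6⟩ := h.X_seven hW (by omega)
      subst h7
      obtain ⟨r3, k1⟩ : r = 1093 ∧ k = 547 := by have := h.par.2.2; omega
      exact h.mc_app (.inl rfl) hW (by rw [h.card, hq, r3, k1]; norm_num) (by rw [h1]; norm_num)
        h2 h4 h5 (by rw [h6]; decide)
    refine h.ns fun e => ?_
    rw [← h.card_X, h1, sq, Nat.mul_dvd_mul_iff_left h.hs.pos] at e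
    have h8 := hB.three
    rw [hW, h.cardZ] at h8
    have h9 := h.odd_s
    have := Nat.le_of_dvd (by norm_num) e
    rcases (Nat.Prime.dvd_mul h.hs (m := 2 ^ 3 * 3) (n := 7)).1 e with e | e
    · rcases (Nat.Prime.dvd_mul h.hs).1 e with e | e
      · rw [(Nat.prime_dvd_prime_iff_eq h.hs Nat.prime_two).1 (h.hs.dvd_of_dvd_pow e)] at h9
        exact absurd h9 (by decide)
      · exact h8 ((Nat.prime_dvd_prime_iff_eq h.hs Nat.prime_three).1 e).symm.dvd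
    · exact h7 ((Nat.prime_dvd_prime_iff_eq h.hs (by norm_num)).1 e)
  · rw [← h.card_X, h1]
    exact Dvd.dvd.mul_left (by norm_num) s

theorem Cx.five_main (h : Cx t H L W S P T p q r k w s) (hq : q = 5 ^ s) {F : Type} [Field F]
    [Fintype F] (e : (L ⊓ 𝐂[w] : Subgroup G) ≃* PSL(2, F)) (h5 : Fintype.card F = 5)
    {J : Subgroup (Coset (zpowers w))} (ht : coset (zpowers w) t ∈ J)
    (hL : (L ⊓ 𝐂[w]) ⁒ zpowers w ≤ J) (hp : IsProd J 𝐂[coset (zpowers w) t] ⊤)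
    (hs : IsSimpleGroup J) (hJ : ♯J = 175560) : False := by
  obtain ⟨rfl, hW⟩ := h.prime_case Nat.prime_five hq
  obtain ⟨p1, r1, k1, l1⟩ := lf2 _ _ F h5.ge (.inr (by rw [h5])) (h.X_iso e)
  rw [h5] at l1
  have h60 : ♯(L ⊓ 𝐂[w] : Subgroup G) = 60 := by
    obtain ⟨r3, k1⟩ : r1 = 3 ∧ k1 = 1 := by have := l1.par.2.2; omega
    rw [← h.cardL, l1.card, r3, k1]
  have h1 : (H ⊓ 𝐂[w]) ⁒ zpowers w = (L ⊓ 𝐂[w]) ⁒ zpowers w := by
    rw [h.HC, hW, quo_sup_self (h.nrm' inf_le_right)]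
  have h2 := fun g => (h1 ▸ h.X_or g :)
  obtain rfl : J = ⊤ := by
    rw [← hp.sup_eq, left_eq_sup]
    exact fun g hg => ((h2 g).1 hg).elim (hL ·) fun e => (mul_mem_cancel_right ht).1 (hL e)
  rw [card_top] at hJ
  have : IsSimpleGroup (Coset (zpowers w)) := topEquiv.symm.isSimpleGroup
  refine h.ns fun e => ?_
  rw [← h.card_X, hJ, sq, Nat.mul_dvd_mul_iff_left h.hs.pos] at e
  have h9 := h.odd_s
  have h3 : s = 3 ∨ s = 5 ∨ s = 7 ∨ s = 11 ∨ s = 19 := by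
    have h4 := h.hs
    simp only [show 175560 = 2 ^ 3 * 3 * 5 * 7 * 11 * 19 from rfl, h4.dvd_mul] at e
    rcases e with ((((e | e) | e) | e) | e) | e
    · rw [(Nat.prime_dvd_prime_iff_eq h4 Nat.prime_two).1 (h4.dvd_of_dvd_pow e)] at h9
      exact absurd h9 (by decide)
    all_goals simp [(Nat.prime_dvd_prime_iff_eq h4 (by norm_num)).1 e]
  have h4 := h.par.2.2
  rcases h3 with h3 | h3 | h3 | h3
  · exact h.three hW (by rw [hq, h3]; rfl) hJ h3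
  · exact h.five' hW (by rw [hq, h3]) rfl h60 hJ h3
  · obtain ⟨E, z, h2, h4, h5, h6⟩ := h.X_seven hW (by omega)
    subst h3
    obtain ⟨r3, k1⟩ : r = 39063 ∧ k = 19531 := by omega
    exact h.mc_app (.inl rfl) hW (by rw [h.card, hq, r3, k1]; norm_num) (by rw [hJ]; norm_num)
      h2 h4 h5 (by rw [h6]; decide)
  obtain ⟨E, z, h6, h7, h8, h10⟩ := j1 hJ ((smp_top (G := Coset (zpowers w))).perfect fun e =>
    l1.not_ab (ab_of_le e le_top)) h.X_ab2 h.X_sq h.X_t1 h.X_t2 (fun g => (h2 g).1) (h1 ▸ h.X_tH)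
    (fun g hg => (h2 g).2 (.inl hg)) l1 h3 fun u u1 u2 => by
      rw [h.X_cc hW u u1 u2, h60]; rcases h3 with rfl | rfl <;> norm_num
  refine h.mc_app (.inr h3) hW ?_ (by rw [hJ]; rcases h3 with rfl | rfl <;> norm_num) h6 h7 h8 h10
  rw [h.card]
  rcases h3 with rfl | rfl
  · obtain ⟨r3, k1⟩ : r = 24414063 ∧ k = 12207031 := by omega
    rw [hq, r3, k1]; norm_num
  · obtain ⟨r3, k1⟩ : r = 9536743164063 ∧ k = 4768371582031 := by omega
    rw [hq, r3, k1]; norm_num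

theorem Cx.ree_main (h : Cx t H L W S P T p q r k w s) {q₀ : ℕ} (hq : q = q₀ ^ s)
    {J : Subgroup (Coset (zpowers w))} (ht : coset (zpowers w) t ∈ J) (hJ : J.Normal)
    (hL : (L ⊓ 𝐂[w]) ⁒ zpowers w ≤ J) {H' L' : Subgroup J} (hR : Ree (⟨_, ht⟩ : J) H' L' q₀) :
    Ree t H L q := by
  have := Fact.mk Nat.prime_two
  obtain ⟨j, -, rfl, -, Q, h1, h2, h3, h4, h5, h6⟩ := hR
  obtain rfl : p = 3 := (Nat.prime_dvd_prime_iff_eq h.prime Nat.prime_three).1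
    (h.prime.dvd_of_dvd_pow (h.prime.dvd_of_dvd_pow (hq ▸ h.dvd_q)))
  obtain ⟨x, hx, hp, h7, h8⟩ := h.exx rfl
  have hc := cent_le h.toFr hx hp h7 h8
  refine ree h.toFr hx hp hc (h.y0 hx hp h8 hc fun d hd ho d3 e hP => ?_) fun Q' hB ti =>
    h.le_card hx hp h8 hc hq ?_ hB ti
  swap
  · rw [← h.card_X, ← h2]
    exact (((card_subgroup_dvd_card Q).trans (card_subgroup_dvd_card J))).mul_left s
  obtain ⟨ρ, hρ, r1⟩ := h.exρ rfl
  have hρ' := h.nrm (h.NC hρ.2)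
  have hd' := h.nrm (mul_mem hd hd)
  have e' : t * (d * d) * t⁻¹ = (d * d)⁻¹ := by rw [← cj_mul, e, mul_inv_rev]
  have h9 : coset (zpowers w) (d * d) ∈ J := by
    rw [show d * d = d * t * d⁻¹ * t⁻¹ by
      rw [show d * t * d⁻¹ * t⁻¹ = d * (t * d * t⁻¹)⁻¹ by group, e, inv_inv],
      coset_mul (mul_mem (mul_mem (h.nrm hd) (h.nrm h.tC)) (inv_mem (h.nrm hd))) (inv_mem (h.nrm h.tC)),
      coset_conj (h.nrm hd) (h.nrm h.tC), coset_inv]
    exact mul_mem (hJ.conj_mem _ ht _) (inv_mem ht)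
  have h10 : orderOf (⟨_, h9⟩ : J) ∣ orderOf d := by
    rw [Subgroup.orderOf_mk]
    exact (orderOf_coset_dvd _ _).trans (by rw [← sq]; exact orderOf_pow_dvd 2)
  have h11 := ti_kill h1 h5 h3 (fun e => h.X_t1 (congrArg Subtype.val e)) (Subtype.ext h.X_t2) h4
    (fun e => ?_) (ρ := ⟨_, hL (coset_mem_quo _ ⟨h.uni.le hρ.1, h.NC hρ.2⟩)⟩) (d := ⟨_, h9⟩)
    (fun e => r1 (h.LZ (h.uni.le hρ.1) ((coset_eq_one_iff hρ').1 (congrArg Subtype.val e))))
    (Subtype.ext (by rw [coe_pow, ← coset_pow hρ', h.uni.elem.2 ρ hρ.1, coset_one]; rfl))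
    (mem_cent1.2 (Subtype.ext (mem_cent1.1 (quo_cent1_le hρ' (coset_mem_quo _
      (mem_cent1_comm.1 (h.L_le (h.uni.le hρ.1))))))))
    (mem_cent1.2 (Subtype.ext (mem_cent1.1 (quo_cent1_le hρ' (coset_mem_quo _
      (cent_le_cent1 hρ.1 (mul_mem hP hP)))))))
    (Subtype.ext (by
      rw [coe_mul, coe_mul, coe_inv, coe_inv, ← coset_conj (h.nrm h.tC) hd', e', coset_inv]))
    fun e => d3 (e.trans h10)
  · exact (coset_eq_one_iff hd').1 (congrArg Subtype.val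
      (eq_one_of_odd_of_sq (ho.of_dvd_nat h10) h11))
  have h12 : 4 * 4 ∣ ♯(⊤ : Subgroup (Coset (zpowers w))) := by
    rw [card_top]
    refine .trans ?_ (card_subgroup_dvd_card J)
    rw [← 𝐍(Q).card_mul_index, h6]
    refine mul_dvd_mul e ?_
    have : 9 ^ j % 4 = 1 := by simp [Nat.pow_mod]
    rw [pow_succ 3, pow_mul]
    refine Nat.dvd_of_mod_eq_zero ?_
    simp [Nat.add_mod, Nat.pow_mod, Nat.mul_mod]
  have h13 := dvd_partn (card_pos' _).ne' h12 (isPiNum_singleton_pow Nat.prime_two 4)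
  rw [← h.X_syl.card_eq_partn, h.X_card] at h13
  norm_num at h13

theorem jrp (fr : FR2.{u}) (q5 : Q5.{u}) (n : ℕ) : JRp.{u} n := by
  induction n with
  | zero => exact fun _ _ _ _ _ _ _ _ _ h => absurd h (Nat.not_lt_zero _)
  | succ n ih =>
  intro G _ _ t H L F _ _ hn hJ
  obtain ⟨W, S, P, T, p, r, k, h, hf⟩ := fr G t H L F hJ
  by_cases hW : W = ⊥
  · exact flat q5 (hW ▸ h)
  obtain ⟨w, hw, hs⟩ := exists_prime_order_mem hW
  obtain ⟨F₀, _, _, hq, ⟨e⟩, hf⟩ := hf w hw hs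
  have c : Cx t H L W S P T p _ r k w _ := ⟨h, hw, rfl, hs⟩
  have hm := (WF.pow_mod_eight (hq ▸ hJ.mod)).1
  right
  by_cases h5 : 5 ≤ Fintype.card F₀
  · obtain ⟨J, ht, h1, h2, h3, h4⟩ := c.big e hf h5 hm
    rcases ih J _ _ _ F₀ (by
      have := Nat.le_of_dvd Nat.card_pos (card_subgroup_dvd_card J)
      have h6 := card_le_card_group 𝐂[w]
      rw [← c.card_X] at h6
      nlinarith [hs.two_le, Nat.card_pos (α := Coset (zpowers w))]) h4 with ⟨h6, h7⟩ | h6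
    · exact (c.five_main (h6 ▸ hq) e h6 ht h2 h3 h4.simple h7).elim
    · exact c.ree_main hq ht h1 h2 h6
  have h3 : Fintype.card F₀ = 3 := by omega
  have h6 := CIT.card_PSL2 (SE.two_ne_zero_of_mod hm)
  rw [← Nat.card_congr e.toEquiv, h3] at h6
  exact c.small_main (h3 ▸ hq) (by omega)

end Cfsg.Agent.JR.Ind

namespace Cfsg.Agent.JR

universe u

theorem jr_of (fr : FR2.{u}) (q5 : Q5.{u}) : R1.JR.{u} := by
  intro G _ _ t H L F _ _ h
  have := Fact.mk Nat.prime_three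
  refine (Ind.jrp fr q5 _ G t H L F (Nat.lt_succ_self _) h).imp_right ?_
  rintro ⟨k, h1, h2, -, Q, h3, h4, -, -, h5, h6⟩
  exact ⟨k, h1, h2, h4 ▸ Ind.two_trans h3 h5 (h4 ▸ h6)⟩

end Cfsg.Agent.JR
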