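import Cfsg.Agent.Lib.JR.Hyp
import Cfsg.Agent.Lib.GW.Main
import Cfsg.Agent.Lib.Wal.K1
import Cfsg.Agent.Lib.SE.Basic
import Cfsg.Agent.Lib.SE.Act

/-!
# Packages KL, KF: basic facts
-/

set_option autoImplicit false

namespace Cfsg.Agent.JR.KK

open Subgroup Cfsg.Agent.OO Cfsg.Agent.Coprime Cfsg.Agent.R1 Cfsg.Agent.GW
open scoped commutatorElement Pointwise

universe u

variable {G : Type u} [Group G] {L T K P X Y Q D J : Subgroup G} {p q r k n l : ℕ}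
  {g t u v w s x y z a j : G}

theorem mem_conj' (h : y ∈ g •ᶜ L) : ∃ x, g * x * g⁻¹ = y :=
  ⟨g⁻¹ * y * g, by group⟩

theorem sq_of_conj (h : g * x * g⁻¹ * (g * x * g⁻¹) = 1) : x * x = 1 := by
  rwa [conj_mul, conj_eq_one_iff] at h

theorem tor_conj (h : Tor L T n) (g : G) : Tor (g •ᶜ L) (g •ᶜ T) n where
  le := conj_mono g h.le
  cyc := isCyclic_conj.2 h.cyc
  card := by rw [card_conj, h.card]
  card_norm := by rw [norm_conj, ← conj_inf, card_conj, h.card_norm]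
  inv := by
    rw [norm_conj, ← conj_inf]
    intro a ha h1
    obtain ⟨a, rfl⟩ := mem_conj' ha
    rw [conj_mem_conj_iff] at ha
    obtain ⟨e1, e2⟩ := h.inv a ha fun e => h1 (conj_mem_conj e)
    refine ⟨conj_sq e1 g, fun x hx => ?_⟩
    obtain ⟨x, rfl⟩ := mem_conj' hx
    rw [conj_mem_conj_iff] at hx
    calc _ = g * (a * x * a⁻¹) * g⁻¹ := by group
      _ = _ := by rw [e2 x hx]; group
  norm := fun y hy y1 => by
    obtain ⟨y, rfl⟩ := mem_conj' hy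
    rw [conj_mem_conj_iff] at hy
    rw [← conj_zpowers, norm_conj, norm_conj, ← conj_inf, ← conj_inf, h.norm y hy (conj_ne_one.1 y1)]

theorem uni_conj (h : Uni L P p q) (g : G) : Uni (g •ᶜ L) (g •ᶜ P) p q where
  le := conj_mono g h.le
  elem := abelem_conj.2 h.elem
  card := by rw [card_conj, h.card]
  cent := fun y hy y1 => by
    obtain ⟨y, rfl⟩ := mem_conj' hy
    rw [conj_mem_conj_iff] at hy
    rw [cent1_conj, ← conj_inf, h.cent y hy (conj_ne_one.1 y1)]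
  ti := fun a ha y hy y1 e => by
    obtain ⟨y, rfl⟩ := mem_conj' hy
    rw [conj_mem_conj_iff] at hy
    obtain ⟨a, rfl⟩ := mem_conj' ha
    rw [conj_mem_conj_iff] at ha
    rw [norm_conj]
    refine conj_mem_conj (h.ti a ha y hy (conj_ne_one.1 y1) (conj_mem_conj_iff (g := g).1 ?_))
    convert e using 1; group
  card_norm := by rw [norm_conj, ← conj_inf, card_conj, h.card_norm]
  max := fun B h1 h2 => by
    rw [norm_conj, ← conj_inf, conj_le_iff_le_inv_conj] at h1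
    rw [le_conj_iff_inv_conj_le] at h2
    rw [norm_conj, le_conj_iff_inv_conj_le]
    exact (h.max _ h1 h2).imp id fun e => by rw [← e, conj_conj, mul_inv_cancel, one_conj]

theorem lf_conj (h : LF L p q r k) (g : G) : LF (g •ᶜ L) p q r k where
  prime := h.prime
  pow := h.pow
  five := h.five
  par := h.par
  card := by rw [card_conj, h.card]
  smp := fun N hN => by
    have := hN.conj g⁻¹
    rw [conj_conj, inv_mul_cancel, one_conj] at this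
    rcases h.smp _ this with e | e
    · exact .inl (by rw [conj_eq_iff_eq_inv_conj.1 e, conj_bot])
    · exact .inr (by rw [conj_eq_iff_eq_inv_conj.1 e, inv_inv])
  perfect := by rw [der_conj, h.perfect]
  inv := fun a ha a1 a2 b hb b1 b2 => by
    obtain ⟨c, hc, e⟩ := h.inv _ (mem_conj.1 ha) (conj_ne_one'.2 a1)
      (by simpa using conj_sq a2 g⁻¹) _ (mem_conj.1 hb) (conj_ne_one'.2 b1)
      (by simpa using conj_sq b2 g⁻¹)
    refine ⟨_, conj_mem_conj hc, ?_⟩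
    calc _ = g * (c * (g⁻¹ * a * g) * c⁻¹) * g⁻¹ := by group
      _ = _ := by rw [e]; group
  part := fun y hy y1 => by
    obtain ⟨y, rfl⟩ := mem_conj' hy
    rw [conj_mem_conj_iff] at hy
    obtain ⟨T, h1, h2⟩ := h.part y hy (conj_ne_one.1 y1)
    exact ⟨_, conj_mem_conj h1, h2.imp (uni_conj · g) (.imp (tor_conj · g) (tor_conj · g))⟩
  conjR := fun T T' h1 h2 => by
    have e1 := tor_conj h1 g⁻¹
    have e2 := tor_conj h2 g⁻¹
    rw [conj_conj, inv_mul_cancel, one_conj] at e1 e2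
    obtain ⟨c, hc, e⟩ := h.conjR _ _ e1 e2
    refine ⟨_, conj_mem_conj hc, ?_⟩
    rw [← conj_conj, ← conj_conj, e, conj_conj, mul_inv_cancel, one_conj]
  conjK := fun T T' h1 h2 => by
    have e1 := tor_conj h1 g⁻¹
    have e2 := tor_conj h2 g⁻¹
    rw [conj_conj, inv_mul_cancel, one_conj] at e1 e2
    obtain ⟨c, hc, e⟩ := h.conjK _ _ e1 e2
    refine ⟨_, conj_mem_conj hc, ?_⟩
    rw [← conj_conj, ← conj_conj, e, conj_conj, mul_inv_cancel, one_conj]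

/-- the group `L₂(q)` in the centralizer of an involution -/
abbrev Ld (u : G) : Subgroup G := der 𝐂[u]

theorem Ld_conj (g u : G) : Ld (g * u * g⁻¹) = g •ᶜ Ld u := by
  rw [Ld, cent1_conj, der_conj]

theorem Ld_le (u : G) : Ld u ≤ 𝐂[u] := der_le _

theorem Ld_norm (u : G) : 𝐂[u] ≤ 𝐍(Ld u) := (der_normal _).norm

variable (G) in
/-- the global hypotheses -/
structure Gl (p q r k : ℕ) : Prop where
  ab2 : Ab2 G
  sq : ∀ x : G, PiElt {2} x → x * x = 1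
  conj : ∀ a b : G, a ≠ 1 → a * a = 1 → b ≠ 1 → b * b = 1 → ∃ g, g * a * g⁻¹ = b
  lf : ∀ u : G, u ≠ 1 → u * u = 1 → LF (Ld u) p q r k
  nmem : ∀ u : G, u ≠ 1 → u * u = 1 → u ∉ Ld u
  two : ∀ u : G, u ≠ 1 → u * u = 1 → ∀ w ∈ 𝐂[u], w * w = 1 → w ∈ Ld u ∨ w * u ∈ Ld u

variable (G) in
/-- the global hypotheses without field automorphisms -/
structure Gl1 (p q r k : ℕ) : Prop extends Gl G p q r k where
  full : ∀ u : G, u ≠ 1 → u * u = 1 → ∀ w ∈ 𝐂[u], w ∈ Ld u ∨ w * u ∈ Ld u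
  syl : ∀ S : Subgroup G, Syl 2 S ⊤ → ♯S = 8 ∧ ♯𝐍(S) = 168

variable [Finite G]

theorem piElt_two (h : z * z = 1) : PiElt {2} z :=
  (isPiNum_singleton_pow Nat.prime_two 1).of_dvd (orderOf_dvd_of_pow_eq_one (by rwa [pow_one, pow_two]))

theorem isPGroup_zp (h : t * t = 1) : IsPGroup 2 (zpowers t) :=
  haveI := Fact.mk Nat.prime_two
  isPGroup_zpowers_iff.2 (piElt_two h)

theorem mem_zp_sq (h : Odd (orderOf x)) : x ∈ zpowers (x * x) := by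
  obtain ⟨m, hm⟩ := h
  refine ⟨(m + 1 : ℕ), ?_⟩
  simp only [zpow_natCast]
  rw [← pow_two, ← pow_mul, show 2 * (m + 1) = 2 * m + 1 + 1 by ring, ← hm, pow_succ,
    pow_orderOf_eq_one, one_mul]

theorem mem_of_sq_mem (h : Odd (orderOf x)) (h2 : x * x ∈ X) : x ∈ X :=
  zpowers_le.2 h2 (mem_zp_sq h)

theorem fr_eq {H W S : Subgroup G} (h : Fr t H L W S P T p q r k) : Ld t = L := by
  have h1 : 𝐂[t] ≤ H ⊔ zpowers t := fun g hg => ((h.cent g).1 hg).elim (mem_sup_left ·) fun e => by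
    have := mul_mem (mem_sup_left e : g * t ∈ H ⊔ zpowers t) (mem_sup_right (mem_zpowers t))
    rwa [mul_assoc, h.t2, mul_one] at this
  have h2 : H ≤ 𝐂[t] := fun g hg => (h.cent g).2 (.inl hg)
  have h3 : IsCprod H (zpowers t) 𝐂[t] :=
    ⟨le_antisymm (sup_le h2 (zpowers_le.2 (mem_cent1_self t))) h1, zpowers_le.2 (le_cent1_iff.1 h2)⟩
  have h4 : IsSdprod L W H := ⟨h.sup, (h.sup ▸ le_sup_right : W ≤ H).trans h.norm, h.inf⟩
  refine le_antisymm ?_ (h.perfect.ge.trans (der_mono (h.le.trans h2)))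
  rw [Ld, h3.der_eq, ab_iff_der.1 (ab_of_isCyclic (A := zpowers t) inferInstance), sup_bot_eq]
  exact h4.der_le_of_ab (ab_of_isCyclic h.cycW)

theorem gl_of_fr {H W S : Subgroup G} (h : Fr t H L W S P T p q r k) : Gl G p q r k := by
  have := Fact.mk Nat.prime_two
  have e := fr_eq h
  have h4 : IsSdprod L W H := ⟨h.sup, (h.sup ▸ le_sup_right : W ≤ H).trans h.norm, h.inf⟩
  have h5 : ∀ w ∈ H, w * w = 1 → w ∈ L := fun w hw w2 => zpowers_le.1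
    (le_of_coprime_relIndex (zpowers_le.2 hw) h.norm (h4.relIndex_left ▸ (coprime_zp h.oddW w2).symm))
  refine ⟨h.ab2, fun x hx => ?_, fun a b a1 a2 b1 b2 => ?_, fun u u1 u2 => ?_, fun u u1 u2 => ?_,
    fun u u1 u2 w hw w2 => ?_⟩
  · obtain ⟨g, -, hg⟩ := h.syl.exists_conj_le le_top (isPGroup_zpowers_iff.2 hx)
    exact sq_of_conj (h.sq _ (hg (conj_mem_conj (mem_zpowers x))))
  · obtain ⟨g, rfl⟩ := h.conj a a1 a2
    obtain ⟨g', rfl⟩ := h.conj b b1 b2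
    exact ⟨g' * g⁻¹, by group⟩
  · obtain ⟨g, rfl⟩ := h.conj u u1 u2
    rw [Ld_conj, e]
    exact lf_conj h.toLF g
  · obtain ⟨g, rfl⟩ := h.conj u u1 u2
    rw [Ld_conj, e, conj_mem_conj_iff]
    exact fun e' => h.tH (h.le e')
  · obtain ⟨g, rfl⟩ := h.conj u u1 u2
    rw [cent1_conj] at hw
    obtain ⟨w, rfl⟩ := mem_conj' hw
    rw [conj_mem_conj_iff] at hw
    have w3 : w * w = 1 := sq_of_conj w2
    rw [Ld_conj, e, conj_mul, conj_mem_conj_iff, conj_mem_conj_iff]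
    refine ((h.cent w).1 hw).imp (h5 w · w3) (h5 _ · ?_)
    rw [(show Commute w t from mem_cent1.1 hw).symm.mul_mul_mul_comm, w3, h.t2, mul_one]

theorem gl1_of_fr {H S : Subgroup G} (h : Fr t H L ⊥ S P T p q r k) : Gl1 G p q r k := by
  have := Fact.mk Nat.prime_two
  have e := fr_eq h
  have e' : L = H := by rw [← h.sup, sup_bot_eq]
  refine ⟨gl_of_fr h, fun u u1 u2 w hw => ?_, fun S' hS => ?_⟩
  · obtain ⟨g, rfl⟩ := h.conj u u1 u2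
    rw [cent1_conj] at hw
    obtain ⟨w, rfl⟩ := mem_conj' hw
    rw [conj_mem_conj_iff] at hw
    rw [Ld_conj, e, conj_mul, conj_mem_conj_iff, conj_mem_conj_iff, e']
    exact (h.cent w).1 hw
  · obtain ⟨g, -, rfl⟩ := h.syl.exists_conj' hS
    rw [norm_conj, card_conj, card_conj, h.cardS, h.card_normS, card_bot]
    exact ⟨rfl, rfl⟩

omit [Finite G] in
theorem par_cop (h : Par q r k) : Odd q ∧ q.Coprime k ∧ r.Coprime k ∧ q.Coprime r ∧ r ≤ 2 * k + 1 ∧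
    2 * k ≤ r + 1 := by
  obtain ⟨⟨a, ha⟩, ⟨b, hb⟩, ⟨h1, h2⟩ | ⟨h1, h2⟩⟩ := h
  · have e : r = 2 * k + 1 := by omega
    refine ⟨⟨2 * k, by omega⟩, ?_, ?_, ?_, by omega, by omega⟩
    · rw [h1, add_comm, Nat.coprime_add_mul_right_left]; exact Nat.coprime_one_left _
    · rw [e, add_comm, Nat.coprime_add_mul_right_left]; exact Nat.coprime_one_left _
    · refine Nat.coprime_of_dvd fun d hd d1 d2 => hd.one_lt.ne' (Nat.dvd_one.1 ?_)
      exact (Nat.dvd_add_right d1).1 (h2 ▸ d2.mul_left 2)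
  · refine ⟨⟨r, by omega⟩, ?_, ?_, ?_, by omega, by omega⟩
    · refine Nat.coprime_of_dvd fun d hd d1 d2 => hd.one_lt.ne' (Nat.dvd_one.1 ?_)
      exact (Nat.dvd_add_right d1).1 (h1 ▸ d2.mul_left 4)
    · refine Nat.coprime_of_dvd fun d hd d1 d2 => hd.one_lt.ne' (Nat.dvd_one.1 ?_)
      exact (Nat.dvd_add_right d1).1 ((show 2 * k = r + 1 by omega) ▸ d2.mul_left 2)
    · refine Nat.coprime_of_dvd fun d hd d1 d2 => hd.one_lt.ne' (Nat.dvd_one.1 ?_)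
      exact (Nat.dvd_add_right (d2.mul_left 2)).1 (h2 ▸ d1)

omit [Finite G] in
theorem norm_zp (h : v * v = 1) : 𝐍(zpowers v) = 𝐂[v] := by
  refine le_antisymm (fun g hg => mem_cent1_iff_conj.2 ?_) (cent_zpowers v ▸ cent_le_norm _)
  rcases (mem_zp h).1 (conj_mem_of_norm hg (mem_zpowers v)) with e | e
  · rw [conj_eq_one_iff.1 e]; group
  · exact e

omit [Finite G] in
theorem cent_le_norm_zp (x : G) : 𝐂[x] ≤ 𝐍(zpowers x) := cent_zpowers x ▸ cent_le_norm _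

theorem mem_norm_of_inv (e : u * x * u⁻¹ = x⁻¹) : u ∈ 𝐍(zpowers x) :=
  mem_norm_of_conj_le (by rw [conj_zpowers, e, zpowers_inv])

omit [Finite G] in
theorem norm_zp_le (x : G) : 𝐍(zpowers x) ≤ 𝐍(𝐂[x]) := cent_zpowers x ▸ norm_le_norm_cent _

omit [Finite G] in
theorem sq_of_inv (h : g ∈ 𝐂[y]) (e : g * y * g⁻¹ = y⁻¹) : y * y = 1 := by
  rw [mem_cent1_iff_conj.1 h] at e
  exact mul_eq_one_iff_eq_inv.2 e

omit [Finite G] in
theorem tor_ab (h : Tor L T n) : Ab T := ab_of_isCyclic h.cyc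

omit [Finite G] in
theorem tor_cent (h : Tor L T n) (hy : y ∈ T) (y2 : y * y ≠ 1) : L ⊓ 𝐂[y] = T := by
  refine le_antisymm (fun g hg => by_contra fun e => y2 ?_)
    (le_inf h.le (le_cent1_iff.2 ((tor_ab h).le_cent hy)))
  have h1 : g ∈ L ⊓ 𝐍(T) := h.norm y hy (fun e => y2 (by rw [e, mul_one])) ▸
    ⟨hg.1, cent_le_norm_zp y hg.2⟩
  exact sq_of_inv hg.2 ((h.inv g h1 e).2 y hy)

theorem tor_exists_inv (h : Tor L T n) :
    ∃ j ∈ L, j ≠ 1 ∧ j * j = 1 ∧ ∀ x ∈ T, j * x * j⁻¹ = x⁻¹ := by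
  obtain ⟨j, hj, e⟩ := SetLike.not_le_iff_exists.1 fun e : L ⊓ 𝐍(T) ≤ T => by
    have h1 := card_le e
    have h2 := card_pos' T
    rw [h.card_norm, h.card] at *
    omega
  exact ⟨j, hj.1, fun e' => e (e' ▸ one_mem _), h.inv j hj e⟩

theorem eq_of_cyc (h : IsCyclic T) (hv : v ∈ T) (v1 : v ≠ 1) (v2 : v * v = 1) (hw : w ∈ T)
    (w2 : w * w = 1) : w = 1 ∨ w = v := by
  by_cases w1 : w = 1
  · exact .inl w1
  refine (mem_zp v2).1 (eq_of_isCyclic_of_card_eq h (zpowers_le.2 hw) (zpowers_le.2 hv) ?_ ▸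
    mem_zpowers w)
  rw [Nat.card_zpowers, Nat.card_zpowers, orderOf_eq_two v2 v1, orderOf_eq_two w2 w1]

omit [Finite G] in
theorem tor_cent_inv (h : Tor L T n) (hv : v ∈ T) (v1 : v ≠ 1) (v2 : v * v = 1) :
    L ⊓ 𝐂[v] = L ⊓ 𝐍(T) := by rw [← norm_zp v2, h.norm v hv v1]

theorem exists_K (h : LF L p q r k) (hy : y ∈ L) (y1 : y ≠ 1) (h1 : (orderOf y).Coprime q)
    (h2 : (orderOf y).Coprime r) : ∃ K, y ∈ K ∧ Tor L K (2 * k) := by
  obtain ⟨T, hT, e | e | e⟩ := h.part y hy y1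
  · exact absurd (orderOf_eq_one_iff.1 (h1.eq_one_of_dvd (e.card ▸ orderOf_dvd_card hT))) y1
  · exact absurd (orderOf_eq_one_iff.1 (h2.eq_one_of_dvd (e.card ▸ orderOf_dvd_card hT))) y1
  · exact ⟨T, hT, e⟩

theorem exists_v (h : Tor L K (2 * k)) : ∃ v ∈ K, v ≠ 1 ∧ v * v = 1 :=
  SE.exists_inv (h.card ▸ dvd_mul_right 2 k)

/-- a configuration: an involution `t`, a torus `K` of even order with involution `v` -/
structure Cf (t : G) (K : Subgroup G) (v : G) (k : ℕ) : Prop where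
  t1 : t ≠ 1
  t2 : t * t = 1
  tor : Tor (Ld t) K (2 * k)
  vK : v ∈ K
  v1 : v ≠ 1
  v2 : v * v = 1

theorem pair_self (t1 : t ≠ 1) (s1 : s ≠ 1) (ne : t ≠ s) (t2 : t * t = 1) (s2 : s * s = 1)
    (hc : s ∈ 𝐂[t]) : Pair (S4 t s) t s := by
  refine ⟨t_mem_S4 t s, s_mem_S4 t s, t1, s1, ne, t2, s2, (mem_cent1.1 hc).symm, fun e => ?_⟩
  have h1 : S4 t s ≤ zpowers t ⊔ zpowers s :=
    S4_le.2 ⟨mem_sup_left (mem_zpowers t), mem_sup_right (mem_zpowers s)⟩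
  have h2 := (e.trans (card_dvd h1)).trans (card_sup_dvd (.inr (zpowers_le.2 (cent_le_norm_zp t hc))))
  rw [Nat.card_zpowers, Nat.card_zpowers, orderOf_eq_two t2 t1, orderOf_eq_two s2 s1] at h2
  omega

namespace Cf

variable (c : Cf t K v k)
include c

omit [Finite G] in
theorem le : K ≤ 𝐂[t] := c.tor.le.trans (Ld_le t)

omit [Finite G] in
theorem le' : K ≤ 𝐂[v] := le_cent1_iff.2 ((tor_ab c.tor).le_cent c.vK)

theorem pair (h : Gl G p q r k) : Pair (S4 t v) t v :=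
  pair_self c.t1 c.v1 (fun e => h.nmem t c.t1 c.t2 (e ▸ c.tor.le c.vK)) c.t2 c.v2 (c.le c.vK)

theorem cent_le (hx : x ∈ K) (x2 : x * x ≠ 1) : 𝐂[x] ⊓ 𝐂[t] ≤ 𝐂[v] := fun g hg => by
  have h1 : g ∈ 𝐍(K) := tor_cent c.tor hx x2 ▸ mem_norm_inf (Ld_norm t hg.2) (le_norm_self _ hg.1)
  exact mem_cent1_iff_conj.2 ((eq_of_cyc c.tor.cyc c.vK c.v1 c.v2 (conj_mem_of_norm h1 c.vK)
    (conj_sq c.v2 g)).resolve_left (conj_ne_one.2 c.v1))

theorem mem_S4 (h : Gl G p q r k) (hx : x ∈ K) (x2 : x * x ≠ 1) (hw : w ∈ 𝐂[x] ⊓ 𝐂[t])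
    (w2 : w * w = 1) : w ∈ S4 t v := by
  have h1 : ∀ w ∈ Ld t ⊓ 𝐂[x], w * w = 1 → w ∈ S4 t v := fun w hw w2 => by
    rcases eq_of_cyc c.tor.cyc c.vK c.v1 c.v2 (tor_cent c.tor hx x2 ▸ hw) w2 with rfl | rfl
    exacts [one_mem _, s_mem_S4 t _]
  rcases h.two t c.t1 c.t2 w hw.2 w2 with e | e
  · exact h1 w ⟨e, hw.1⟩ w2
  · refine (mul_mem_cancel_right (t_mem_S4 t v)).1
      (h1 _ ⟨e, mul_mem hw.1 (mem_cent1_comm.1 (c.le hx))⟩ ?_)
    rw [(show Commute w t from mem_cent1.1 hw.2).symm.mul_mul_mul_comm, w2, c.t2, mul_one]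

omit [Finite G] in
theorem S4_le (hx : x ∈ K) : S4 t v ≤ 𝐂[x] :=
  GW.S4_le.2 ⟨mem_cent1_comm.1 (c.le hx), mem_cent1_comm.1 (c.le' hx)⟩

theorem pairX (h : Gl G p q r k) (hx : x ∈ K) (x2 : x * x ≠ 1) : Pair 𝐂[x] t v := by
  have := Fact.mk Nat.prime_two
  have h0 := c.pair h
  have h1 : Syl 2 (S4 t v) 𝐂[x] := syl_of_max (c.S4_le hx) h0.syl.isPGroup fun U h1 h2 h3 =>
    le_antisymm (fun w hw => c.mem_S4 h hx x2 ⟨h2 hw, mem_cent1.2 (ab_iff.1 (h.ab2 U h3) w hw t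
      (h1 h0.t_mem))⟩ (h.sq w ((piGrp_singleton h3).piElt hw))) h1
  refine ⟨c.S4_le hx h0.t_mem, c.S4_le hx h0.s_mem, c.t1, c.v1, h0.ne, c.t2, c.v2, h0.comm,
    fun e => h1.not_dvd ?_⟩
  rw [← card_mul_relIndex h1.le, h0.card] at e
  omega

theorem exists_s : ∃ s, s ≠ 1 ∧ s * s = 1 ∧ s ∈ 𝐂[t] ⊓ 𝐂[v] ∧ ∀ x ∈ K, s * x * s⁻¹ = x⁻¹ := by
  obtain ⟨s, hs, s1, s2, e⟩ := tor_exists_inv c.tor
  exact ⟨s, s1, s2, ⟨Ld_le t hs, mem_cent1_iff_conj.2 (by rw [e v c.vK, inv_eq c.v2])⟩, e⟩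

end Cf

theorem exists_cf (h : Gl G p q r k) (u1 : u ≠ 1) (u2 : u * u = 1) (w1 : w ≠ 1) (w2 : w * w = 1)
    (ne : u ≠ w) (hw : w ∈ 𝐂[u]) (hx : x ∈ Ld u ⊓ 𝐂[w]) (x2 : x * x ≠ 1) :
    ∃ K v, Cf u K v k ∧ x ∈ K ∧ (v = w ∨ v = u * w) := by
  have hL := h.lf u u1 u2
  obtain ⟨o1, -⟩ := par_cop hL.par
  have h1 : ∀ v ∈ Ld u, v ≠ 1 → v * v = 1 → x ∈ 𝐂[v] → ∃ K, Cf u K v k ∧ x ∈ K :=
    fun v hv v1 v2 hc => by
      obtain ⟨K, hK, e⟩ := exists_K hL hv v1 (orderOf_eq_two v2 v1 ▸ Nat.coprime_two_left.2 o1)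
        (orderOf_eq_two v2 v1 ▸ Nat.coprime_two_left.2 hL.par.1)
      exact ⟨K, ⟨u1, u2, e, hK, v1, v2⟩, by_contra fun e' =>
        x2 (e.inv x (tor_cent_inv e hK v1 v2 ▸ ⟨hx.1, hc⟩) e').1⟩
  have hp := pair_self u1 w1 ne u2 w2 hw
  rcases h.two u u1 u2 w hw w2 with e | e
  · obtain ⟨K, e1, e2⟩ := h1 w e w1 w2 hx.2
    exact ⟨K, w, e1, e2, .inl rfl⟩
  · rw [mem_cent1.1 hw] at e
    obtain ⟨K, e1, e2⟩ := h1 _ e hp.mul_ne_one hp.mul_sq (mem_cent1_comm.1 (mul_mem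
      (mem_cent1_comm.1 (Ld_le u hx.1)) (mem_cent1_comm.1 hx.2)))
    exact ⟨K, _, e1, e2, .inr rfl⟩

theorem mem_Ld (hx : x ∈ 𝐂[u]) (ho : Odd (orderOf x)) (hs : s ∈ 𝐂[u]) (e : s * x * s⁻¹ = x⁻¹) :
    x ∈ Ld u := by
  have h1 := commutator_mem_commutator hx hs
  rw [commutatorElement_def, mul_assoc, mul_assoc, ← mul_assoc s, ← conj_inv, e, inv_inv] at h1
  exact mem_of_sq_mem ho h1

theorem ne_sq (ho : Odd (orderOf x)) (x1 : x ≠ 1) : x * x ≠ 1 :=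
  fun e => x1 (eq_one_of_odd_of_sq ho e)

theorem Cf.cent_le' (c : Cf t K v k) (h : Gl G p q r k) (hx : x ∈ K) (ho : Odd (orderOf x))
    (x1 : x ≠ 1) (hu : u ∈ S4 t v) (u1 : u ≠ 1) : 𝐂[x] ⊓ 𝐂[u] ≤ 𝐂[t] ⊓ 𝐂[v] := by
  have x2 := ne_sq ho x1
  have h0 := c.pair h
  obtain ⟨s, -, -, hs, e⟩ := c.exists_s
  have h1 : ∀ u ∈ S4 t v, u ≠ 1 → u ≠ t → 𝐂[x] ⊓ 𝐂[u] ≤ 𝐂[t] := fun u hu u1 ne g hg => by
    have u2 := h.sq u (h0.syl.piGrp.piElt hu)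
    have h2 := mem_cent1_comm.1 (c.S4_le hx hu)
    obtain ⟨K', v', c', hx', e'⟩ := exists_cf h u1 u2 c.t1 c.t2 ne (mem_cent1_comm.1 (h0.le_cent hu))
      ⟨mem_Ld h2 ho (cent_le_cent1 hu (cent_S4 t v ▸ hs)) (e x hx), c.le hx⟩ x2
    have h3 := mem_cent1_comm.1 (c'.cent_le hx' x2 hg)
    rcases e' with rfl | rfl
    · exact mem_cent1_comm.1 h3
    · exact mem_cent1_comm.1 ((mul_mem_cancel_left (mem_cent1_comm.1 hg.2)).1 h3)
  have h2 : 𝐂[x] ⊓ 𝐂[u] ≤ 𝐂[t] := by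
    by_cases ne : u = t
    exacts [ne ▸ inf_le_right, h1 u hu u1 ne]
  exact le_inf h2 ((le_inf inf_le_left h2).trans (c.cent_le hx x2))

end Cfsg.Agent.JR.KK
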