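import Cfsg.Agent.Lib.JR.Hyp
import Cfsg.Agent.Lib.SEA.Main

/-!
# Package T3: a simple group with Sylow 2-subgroup `E₈` normalized by the centralizers of its
involutions is `L₂(8)`
-/

set_option autoImplicit false

namespace Cfsg.Agent.JR

open Subgroup Cfsg.Agent.OO Cfsg.Agent.Coprime Cfsg.Agent.R1
open scoped Pointwise

universe u

theorem ab_of_sq {G : Type u} [Group G] {S : Subgroup G} (h : ∀ s ∈ S, s * s = 1) : Ab S :=
  ab_iff.2 fun a ha b hb => by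
    have e : ∀ s ∈ S, s⁻¹ = s := fun s hs => inv_eq_of_mul_eq_one_right (h s hs)
    rw [← e _ (S.mul_mem ha hb), mul_inv_rev, e a ha, e b hb]

theorem piElt_two {G : Type u} [Group G] [Finite G] {z : G} (h : z * z = 1) : PiElt {2} z :=
  (isPiNum_singleton_pow Nat.prime_two 1).of_dvd (orderOf_dvd_of_pow_eq_one (by rwa [pow_one, pow_two]))

theorem t3 : T3.{u} := by
  intro G _ _ S hs hna hS h8 hsq hc
  haveI : Fact (Nat.Prime 2) := ⟨Nat.prime_two⟩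
  have hab := ab_of_sq hsq
  have inS : ∀ z ∈ 𝐍(S), z * z = 1 → z ∈ S := fun z hz z2 =>
    hS.mem_of_mem_norm (mem_top z) hz (piElt_two z2)
  have h2 : Ab2 G := fun P hP => by
    obtain ⟨g, -, hg⟩ := hS.exists_le_conj' le_top hP
    exact ab_of_le (ab_conj.2 hab) hg
  have hM : ZL.SE 𝐍(S) := by
    refine ⟨fun e => ?_, (show 2 ∣ ♯S by omega).trans (card_dvd (le_norm_self S)), fun g hg hd => hg ?_⟩
    · rcases hs.eq_bot_or_eq_top_of_normal S (normalIn_top.1 ⟨le_top, e.ge⟩) with e' | e'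
      · rw [← card_eq_one_iff] at e'; omega
      · exact hna ⟨⟨fun a b => ab_iff.1 hab a (e' ▸ mem_top a) b (e' ▸ mem_top b)⟩⟩
    · obtain ⟨z, ⟨hz, hz'⟩, ho⟩ := cauchy Nat.prime_two hd
      have z2 : z * z = 1 := by rw [← pow_two, ← ho, pow_orderOf_eq_one]
      have z1 : z ≠ 1 := fun e => by simp [e] at ho
      have hzS : z ∈ g •ᶜ S := mem_conj.2 (inS _ (mem_conj.1 hz') (by
        rw [show g⁻¹ * z * g * (g⁻¹ * z * g) = g⁻¹ * (z * z) * g by group, z2]; group))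
      have h1 : g •ᶜ S ≤ 𝐍(S) := (le_cent1_iff.2 ((ab_conj.2 hab).le_cent hzS)).trans (hc z (inS z hz z2) z1).1
      exact mem_norm_of_conj_le (hS.le_of_norm le_top (isPGroup_conj.2 hS.isPGroup) (Or.inr h1))
  obtain ⟨n, hn, ⟨e⟩⟩ := SEA.sea hs h2 ⟨hab, fun a ha => by rw [pow_two, hsq a ha]⟩ (by omega) hM
    (le_norm_self S) inS
  have hG := (Nat.card_congr e.toEquiv).trans (BSW.card_psl (by omega))
  have h1 := card_mul_relIndex hS.le
  have h3 := hS.not_dvd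
  rw [card_top, hG, h8] at h1
  obtain ⟨m, rfl⟩ : ∃ m, n = m + 2 := ⟨n - 2, by omega⟩
  have ho : Odd ((2 ^ (m + 2) - 1) * (1 + 2 ^ (m + 2))) := by
    have : 0 < 2 ^ m := by positivity
    refine Odd.mul ⟨2 ^ m * 2 - 1, ?_⟩ ⟨2 ^ m * 2, ?_⟩ <;> rw [pow_add] <;> omega
  have h4 : (2 ^ (m + 2) : ℕ) = 2 ^ 3 := by
    refine Nat.dvd_antisymm ((Nat.Coprime.pow_left _ ((Nat.Prime.coprime_iff_not_dvd Nat.prime_two).2
      h3)).dvd_of_dvd_mul_right ⟨(2 ^ (m + 2) - 1) * (1 + 2 ^ (m + 2)), ?_⟩)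
      ((Nat.Coprime.pow_left _ (Nat.coprime_two_left.2 ho)).dvd_of_dvd_mul_right
        ⟨S.relIndex ⊤, ?_⟩)
    · rw [show (2 : ℕ) ^ 3 = 8 by rfl, h1]; ring
    · rw [show (2 : ℕ) ^ 3 = 8 by rfl, h1]; ring
  rw [hG, h4]
  norm_num

end Cfsg.Agent.JR
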