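import Cfsg.Agent.Lib.JR.MC
import Cfsg.Agent.Lib.JR.KBase
import Cfsg.Agent.Lib.JR.T3
import Cfsg.Agent.Lib.WF.Bor
import Cfsg.Agent.Lib.OO.BG3
import Cfsg.Agent.Lib.OO.BG4

/-!
# Package IND: frame-free lemmas
-/

set_option autoImplicit false
set_option linter.unusedSectionVars false

namespace Cfsg.Agent.JR.Ind

open Subgroup Cfsg.Agent.OO Cfsg.Agent.Coprime Cfsg.Agent.R1 Cfsg.Agent.GW
open scoped commutatorElement Pointwise

universe u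

variable {G : Type u} [Group G] [Finite G] {C D E J L N P Q S T : Subgroup G} {p q r k s : ℕ}
  {a d g t w x y z ρ : G}

theorem syl_mod [Fact p.Prime] (h : Syl p P ⊤) : 𝐍(P).index ≡ 1 [MOD p] := by
  obtain ⟨S, rfl⟩ := h.exists_sylow_top
  exact S.card_eq_index_normalizer ▸ card_sylow_modEq_one p G

theorem syl_of_card (n : ℕ) (h : P ≤ N) (hc : ♯P = p ^ n)
    (hd : ¬ p ^ (n + 1) ∣ ♯N) : Syl p P N :=
  ⟨h, isPGroup_of_card_prime_pow hc, fun e => hd (by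
    rw [← card_mul_relIndex h, hc, pow_succ]; exact mul_dvd_mul_left _ e)⟩

theorem TI.conj (h : TI Q) (g : G) : TI (g •ᶜ Q) := fun x hx => by
  rw [norm_conj, mem_conj]
  refine h _ fun e => hx ?_
  rw [conj_conj, show x * g = g * (g⁻¹ * x * g) by group, ← conj_conj, ← conj_inf, e, conj_bot]

theorem TI.mem (h : TI Q) (hx : x ∈ Q) (h1 : x ≠ 1) (hg : g ∈ 𝐂[x]) : g ∈ 𝐍(Q) :=
  h g fun e => h1 (mem_bot.1 (e ▸ ⟨hx, mem_cent1_iff_conj.1 hg ▸ conj_mem_conj hx⟩))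

theorem two_trans [Fact p.Prime] (h : Syl p Q ⊤) (ti : TI Q) (hi : 𝐍(Q).index = ♯Q + 1) :
    Nat.card (Sylow p G) = ♯Q + 1 ∧ MulAction.IsMultiplyPretransitive G (Sylow p G) 2 := by
  obtain ⟨Q, rfl⟩ := h.exists_sylow_top
  have h1 : Nat.card (Sylow p G) = ♯(Q : Subgroup G) + 1 := Q.card_eq_index_normalizer.trans hi
  have h2 : ∀ A B : Sylow p G, A ≠ Q → B ≠ Q → ∃ x : G, x • Q = Q ∧ x • A = B := fun A B hA hB => by
    obtain ⟨g, rfl⟩ := MulAction.exists_smul_eq G Q A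
    have h3 := WF.ncard_orbit (P := Q) (Q := g • Q) fun x hx hx' => by_contra fun e =>
      hA (Sylow.smul_eq_iff_mem_normalizer.2 (ti g fun e' => e (mem_bot.1 (e' ▸ ⟨hx, hx'⟩))))
    obtain ⟨x, hx, e⟩ := (Set.eq_of_subset_of_ncard_le (WF.orbit_sub hA)
      (by have := WF.ncard_compl Q; omega)).ge hB
    exact ⟨x, WF.smul_self hx, e⟩
  refine ⟨h1, MulAction.is_two_pretransitive_iff.2 fun {a b c d} hab hcd => ?_⟩
  obtain ⟨g, rfl⟩ := MulAction.exists_smul_eq G Q a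
  obtain ⟨g', rfl⟩ := MulAction.exists_smul_eq G Q c
  obtain ⟨x, e1, e2⟩ := h2 (g⁻¹ • b) (g'⁻¹ • d) (fun e => hab (by rw [← e, smul_inv_smul]))
    (fun e => hcd (by rw [← e, smul_inv_smul]))
  exact ⟨g' * x * g⁻¹, by rw [mul_smul, mul_smul, inv_smul_smul, e1],
    by rw [mul_smul, mul_smul, e2, smul_inv_smul]⟩

theorem syl_zp (ht : t ∈ N) (t1 : t ≠ 1) (t2 : t * t = 1) (h4 : ¬ 4 ∣ ♯N) : Syl 2 (zpowers t) N := by
  have := Fact.mk Nat.prime_two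
  obtain ⟨S, hS⟩ := exists_syl 2 N
  obtain ⟨j, hj⟩ := IsPGroup.iff_card.1 hS.isPGroup
  have h1 : ¬ 2 ≤ j := fun e => h4 ((pow_dvd_pow 2 e).trans (hj ▸ card_dvd hS.le))
  refine hS.of_card_le (zpowers_le.2 ht) (KK.isPGroup_zp t2) ?_
  rw [Nat.card_zpowers, orderOf_eq_two t2 t1, hj]
  simpa using Nat.pow_le_pow_right two_pos (show j ≤ 1 by omega)

theorem ti_kill (h : Syl 3 Q ⊤) (ti : TI Q) (ht : t ∈ 𝐍(Q)) (t1 : t ≠ 1) (t2 : t * t = 1)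
    (hc : ⁅𝐍(Q), zpowers t⁆ ≤ Q) (h4 : ¬ 4 ∣ ♯𝐍(Q)) (r1 : ρ ≠ 1) (r3 : ρ ^ 3 = 1) (hr : t ∈ 𝐂[ρ])
    (hd : d ∈ 𝐂[ρ]) (e : t * d * t⁻¹ = d⁻¹) (h3 : ¬ 3 ∣ orderOf d) : d * d = 1 := by
  have := Fact.mk Nat.prime_two
  have := Fact.mk Nat.prime_three
  obtain ⟨g, -, hg⟩ := h.exists_le_conj' le_top (abelem_isPGroup (abelem_zpowers r3))
  have ti' := TI.conj ti g
  have hρ := zpowers_le.1 hg
  have h5 : ¬ 4 ∣ ♯𝐍(g •ᶜ Q) := by rwa [norm_conj, card_conj]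
  obtain ⟨n, hn, e'⟩ := (syl_zp (norm_conj g Q ▸ conj_mem_conj ht) (by simpa using t1) (conj_sq t2 g)
    h5).exists_conj' (syl_zp (TI.mem ti' hρ r1 hr) t1 t2 h5)
  have h6 : ⁅𝐍(g •ᶜ Q), zpowers t⁆ ≤ g •ᶜ Q := by
    rw [e', ← conj_eq_of_mem hn, ← conj_commutator, ← conj_zpowers, norm_conj, ← conj_commutator]
    exact (conj_mono n (conj_mono g hc)).trans (conj_eq_of_mem_norm hn).le
  have h7 : d * d ∈ g •ᶜ Q := by
    have := h6 (commutator_mem_commutator (TI.mem ti' hρ r1 hd) (mem_zpowers t))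
    rwa [commutatorElement_def, show d * t * d⁻¹ * t⁻¹ = d * (t * d * t⁻¹)⁻¹ by group, e,
      inv_inv] at this
  exact ((h.conj g).piGrp.piElt h7).eq_one (sq d ▸ PiElt.pow
    ((isPiNum_compl_singleton Nat.prime_three).2 h3) 2)

theorem trans_normal (hJ : 𝐍(S) ≤ 𝐍(J)) (hS : Syl 2 S J) (h8 : ♯S = 8) (sq : ∀ s ∈ S, s * s = 1)
    (ht : t ∈ S) (t1 : t ≠ 1) (tr : ∀ s ∈ S, s ≠ 1 → ∃ g ∈ 𝐍(S), g * t * g⁻¹ = s) (hd : der J = J)
    (ha : a ∈ J) (a1 : a ≠ 1) (a2 : a * a = 1) : ∃ g ∈ J, g * t * g⁻¹ = a := by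
  have := Fact.mk Nat.prime_two
  have h1 : (𝐍(S) ⊓ 𝐂[t]).relIndex 𝐍(S) = 7 := by
    rw [inf_relIndex_left, ← E8.ncard_cls, show {y | ∃ x ∈ 𝐍(S), x * t * x⁻¹ = y} = (S : Set G) \ {1}
      from Set.ext fun y => ⟨by rintro ⟨x, hx, rfl⟩; exact ⟨conj_mem_of_norm hx ht, by simpa using t1⟩,
        fun hy => tr y hy.1 hy.2⟩, Set.ncard_sdiff_singleton_of_mem S.one_mem, ← Nat.card_coe_set_eq]
    exact congrArg (· - 1) h8
  have hn : 𝐍(S) ⊓ 𝐂[t] ≤ 𝐍(J ⊓ 𝐍(S)) :=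
    inf_le_left.trans (le_norm_inf hJ (le_norm_self _))
  have h2 : J ⊓ 𝐍(S) ⊔ 𝐍(S) ⊓ 𝐂[t] ≤ 𝐍(S) := sup_le inf_le_right inf_le_left
  have h3 := relIndex_mul_relIndex _ _ _ le_sup_right h2
  rw [h1] at h3
  rcases (Nat.dvd_prime (by norm_num)).1 (Dvd.intro _ h3) with e | e
  · exact absurd (hd.ge (hS.le ht)) (W3.not_mem_der hS (ab_of_sq sq) ht t1
      (le_sup_left.trans ((relIndex_eq_one.1 e).trans inf_le_right)))
  rw [e] at h3
  obtain ⟨g, hg, hg'⟩ := hS.exists_conj_le (zpowers_le.2 ha) (KK.isPGroup_zp a2)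
  obtain ⟨n, hn', e⟩ := tr _ (hg' (conj_mem_conj (mem_zpowers a))) (by simpa using a1)
  obtain ⟨m, hm, c, hc, rfl⟩ := (mem_sup_norm_left hn).1 (relIndex_eq_one.1 (by omega) hn')
  refine ⟨g⁻¹ * m, mul_mem (inv_mem hg) hm.1, ?_⟩
  calc _ = g⁻¹ * (m * (c * t * c⁻¹) * m⁻¹) * g := by rw [mem_cent1_iff_conj.1 hc.2]; group
    _ = g⁻¹ * (m * c * t * (m * c)⁻¹) * g := by group
    _ = _ := by rw [e]; group

theorem not_cyc (sq : ∀ s ∈ S, s * s = 1) (h : 4 ∣ ♯S) : ¬ IsCyclic S := fun e => by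
  obtain ⟨x, rfl⟩ := exists_zpowers_eq e
  rw [Nat.card_zpowers] at h
  exact absurd (h.trans (orderOf_dvd_of_pow_eq_one ((pow_two x).trans (sq x (mem_zpowers x)))))
    (by norm_num)

theorem no_four (sq : ∀ x : G, PiElt {2} x → x * x = 1) (ho : Odd ♯D) (h0 : D ≠ ⊥)
    (h : ∀ u, u ≠ 1 → u * u = 1 → D ⊓ 𝐂[u] = ⊥) : ¬ 4 ∣ ♯𝐍(D) := fun e => by
  have := Fact.mk Nat.prime_two
  obtain ⟨S, hS⟩ := exists_syl 2 𝐍(D)
  have h1 : ∀ s ∈ S, s * s = 1 := fun s hs => sq s (hS.piGrp.piElt hs)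
  refine h0 (le_bot_iff.1 (coprime_abelian_gen_cent1 (ab_of_sq h1) (not_cyc h1 ?_) hS.le
    (coprime_of_isPGroup hS.isPGroup (odd_iff.1 ho)).symm fun a ha a1 => (h a a1 (h1 a ha)).le))
  rw [hS.card_eq_partn]
  exact dvd_partn (card_pos' _).ne' e (isPiNum_singleton_pow Nat.prime_two 2)

theorem inf_eq_bot_of_not_dvd [Fact s.Prime] (hD : IsPGroup s D) (h : ¬ s ∣ ♯C) : D ⊓ C = ⊥ :=
  by_contra fun e => h ((dvd_card_of_isPGroup (hD.to_le inf_le_left) e).trans (card_dvd inf_le_right))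

theorem dvd_relIndex (hp : p.Prime) (hz : z ∈ 𝐍(E)) (hc : z ∉ 𝐂(E)) (ho : orderOf z = p) :
    p ∣ 𝐂(E).relIndex 𝐍(E) := by_contra fun e => hc (zpowers_le.1 (le_of_coprime_relIndex
  (zpowers_le.2 hz) (norm_le_norm_cent E) (by
    rw [Nat.card_zpowers, ho]; exact (Nat.Prime.coprime_iff_not_dvd hp).2 e)))

theorem seven (h8 : ♯S = 8) (sq : ∀ s ∈ S, s * s = 1) (hN : ♯𝐍(S) = 168) (hC : 𝐂(S) ≤ S)
    (h7 : ∀ u : G, u ≠ 1 → u * u = 1 → ¬ 7 ∣ ♯𝐂[u]) :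
    ∃ (E : Subgroup G) (z : G), ♯E = 7 ∧ z ∈ 𝐍(E) ∧ z ∉ 𝐂(E) ∧ orderOf z = 3 := by
  have : Fact (Nat.Prime 7) := ⟨by norm_num⟩
  obtain ⟨e, he, ho⟩ := cauchy this.out (show 7 ∣ ♯𝐍(S) by rw [hN]; norm_num)
  have hE : ♯(zpowers e) = 7 := by rw [Nat.card_zpowers, ho]
  have hp := isPGroup_of_card_prime_pow (hE.trans (pow_one 7).symm)
  have hs : Syl 7 (zpowers e) 𝐍(S) := syl_of_card 1 (zpowers_le.2 he) hE (by rw [hN]; norm_num)
  have reg : ∀ A ≤ S, zpowers e ≤ 𝐍(A) → 7 ∣ ♯A - 1 := fun A hA hn => hE ▸ regular_norm_dvd_pred hn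
    (semiregular_sym fun u hu u1 => inf_eq_bot_of_not_dvd hp (h7 u u1 (sq u (hA hu))))
  have h1 := card_inf_mul_relIndex 𝐍(zpowers e) 𝐍(S)
  have h2 : 𝐍(zpowers e).relIndex 𝐍(S) ≡ 1 [MOD 7] := by
    obtain ⟨P, h3, -⟩ := hs.exists_sylow
    rw [relIndex, subgroupOf_normalizer_eq hs.le, ← h3]
    exact P.card_eq_index_normalizer ▸ card_sylow_modEq_one 7 _
  have h3 : 3 ∣ ♯(𝐍(zpowers e) ⊓ 𝐍(S) : Subgroup G) := by
    refine ((Nat.prime_three.dvd_mul).1 (by rw [h1, hN]; norm_num)).resolve_right fun h3 => ?_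
    obtain ⟨m, hm⟩ := hE ▸ card_dvd (le_inf (le_norm_self _) hs.le)
    obtain ⟨n, hn⟩ := h3
    rw [hN, hm, hn] at h1
    rw [hn] at h2
    have h4 : n ∣ 8 := Dvd.intro_left m (by linarith)
    have := Nat.le_of_dvd (by norm_num) h4
    interval_cases n <;> simp_all [Nat.ModEq]
  obtain ⟨z, hz, ho⟩ := cauchy Nat.prime_three h3
  refine ⟨_, z, hE, hz.1, fun hc => ?_, ho⟩
  have h4 := reg (S ⊓ 𝐂[z]) inf_le_left (le_norm_inf hs.le (le_norm_of_le (le_cent1_iff.2 hc)))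
  have h5 : ♯(S ⊓ 𝐂[z] : Subgroup G) ∣ 8 := h8 ▸ card_dvd inf_le_left
  have h6 : ♯(S ⊓ 𝐂[z] : Subgroup G) ≠ 1 := fun e => by
    have := regular_norm_dvd_pred (zpowers_le.2 hz.2) (semiregular_prime
      (by rw [Nat.card_zpowers, ho]; norm_num) (by rw [cent_zpowers]; exact card_eq_one_iff.1 e))
    rw [Nat.card_zpowers, ho, h8] at this
    norm_num at this
  have h9 : ♯(S ⊓ 𝐂[z] : Subgroup G) ≠ 8 := fun e => by
    have := orderOf_dvd_card (hC (le_cent1_iff.1 ((eq_of_le_of_card_le inf_le_left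
      (h8.trans e.symm).le).ge.trans inf_le_right)))
    rw [ho, h8] at this
    norm_num at this
  have := Nat.le_of_dvd (by norm_num) h5
  generalize ♯(S ⊓ 𝐂[z] : Subgroup G) = n at *
  interval_cases n <;> omega

theorem c7 (hG : Nat.card G = 1512) (sq : ∀ x : G, PiElt {2} x → x * x = 1)
    (h7 : ∀ u : G, u ≠ 1 → u * u = 1 → ¬ 7 ∣ ♯𝐂[u]) (hE : ♯E = 7) (hz : z ∈ 𝐍(E)) (hc : z ∉ 𝐂(E))
    (ho : orderOf z = 3) (hd : orderOf d = 7) (t1 : t ≠ 1) (t2 : t * t = 1) (e : t * d * t⁻¹ = d⁻¹)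
    (r1 : ρ ≠ 1) (r3 : ρ ^ 3 = 1) (hr : ρ ∈ 𝐂[d]) : False := by
  have : Fact (Nat.Prime 7) := ⟨by norm_num⟩
  have := Fact.mk Nat.prime_three
  have hs : ∀ E : Subgroup G, ♯E = 7 → Syl 7 E ⊤ := fun E hE => 
    syl_of_card 1 le_top hE (by rw [card_top, hG]; norm_num)
  have hD : ♯(zpowers d) = 7 := by rw [Nat.card_zpowers, hd]
  obtain ⟨g, -, hg⟩ := (hs _ hE).exists_conj' (hs _ hD)
  have h1 := dvd_relIndex Nat.prime_three (z := g * z * g⁻¹) (E := zpowers d)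
    (by rw [hg, norm_conj]; exact conj_mem_conj hz) (by rwa [hg, cent_conj, conj_mem_conj_iff])
    (by rwa [orderOf_conj])
  have h2 : 21 ∣ ♯𝐂(zpowers d) := by
    rw [cent_zpowers]
    exact Nat.Coprime.mul_dvd_of_dvd_of_dvd (show Nat.Coprime 3 7 by norm_num)
      (orderOf_eq_prime r3 r1 ▸ orderOf_dvd_card hr) (hd ▸ orderOf_dvd_card (mem_cent1_self d))
  have h3 : 126 ∣ ♯𝐍(zpowers d) := Nat.Coprime.mul_dvd_of_dvd_of_dvd
    (show Nat.Coprime 63 2 by norm_num)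
    (card_mul_relIndex (cent_le_norm (zpowers d)) ▸ mul_dvd_mul h2 h1)
    (SE.two_dvd (KK.mem_norm_of_inv e) t1 t2)
  have h4 := no_four sq (hD ▸ by decide) (ne_bot_of_prime_dvd (p := 7) (by norm_num) hD.symm.dvd)
    fun u u1 u2 => inf_eq_bot_of_not_dvd (hs _ hD).isPGroup (h7 u u1 u2)
  have h5 := syl_mod (hs _ hD)
  have h6 := 𝐍(zpowers d).card_mul_index
  obtain ⟨m, hm⟩ := h3
  rw [hG, hm] at h6
  rw [hm] at h4
  generalize 𝐍(zpowers d).index = n at *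
  have h8 : n ∣ 12 := Dvd.intro_left m (by linarith)
  have := Nat.le_of_dvd (by norm_num) h8
  interval_cases n <;> simp_all [Nat.ModEq]

theorem not_dvd_cent [Fact s.Prime] (ab : Ab2 G) (t1 : t ≠ 1) (t2 : t * t = 1)
    (hc : ∀ g ∈ 𝐂[t], g ∈ L ∨ g * t ∈ L) (tL : t ∉ L) (hL : L ≤ 𝐂[t]) (h : LF L p 5 r k)
    (hs : ∀ u : G, u ≠ 1 → u * u = 1 → ¬ s ∣ ♯𝐂[u]) (s2 : s ≠ 2) (hy : y ∈ L)
    (ho : orderOf y = 3 ∨ orderOf y = 5) : ¬ s ∣ ♯𝐂[y] := by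
  have := Fact.mk Nat.prime_two
  have y2 : y * y ≠ 1 := fun e => by
    have := orderOf_dvd_of_pow_eq_one ((pow_two y).trans e)
    rcases ho with ho | ho <;> simp [ho] at this
  have y1 : y ≠ 1 := fun e => y2 (by simp [e])
  obtain ⟨r3, k1⟩ : r = 3 ∧ k = 1 := by have := h.par.2.2; omega
  obtain ⟨h1, j, hj, hn, j1, j2⟩ : Odd ♯(L ⊓ 𝐂[y] : Subgroup G) ∧
      ∃ j ∈ L, j ∈ 𝐍(zpowers y) ∧ j ≠ 1 ∧ j * j = 1 := by
    obtain ⟨T, hT, e | e | e⟩ := h.part y hy y1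
    · obtain ⟨j, hj, j1⟩ := SE.exists_inv (H := L ⊓ 𝐍(T)) (by have := e.card_norm; omega)
      refine ⟨by rw [e.cent y hT y1, e.card]; decide, j, hj.1, ?_, j1⟩
      rw [eq_zpowers_of_prime (by rw [e.card]; norm_num) hT y1]
      exact hj.2
    · obtain ⟨j, hj, j1, j2, e'⟩ := KK.tor_exists_inv e
      exact ⟨by rw [KK.tor_cent e hT y2, e.card, r3]; decide, j, hj, KK.mem_norm_of_inv (e' y hT), j1, j2⟩
    · have := orderOf_dvd_card hT
      rw [e.card, k1] at this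
      rcases ho with ho | ho <;> simp [ho] at this
  have ht : t ∈ 𝐂[y] := mem_cent1_comm.1 (hL hy)
  have h2 : Syl 2 (zpowers t) 𝐂[y] := syl_of_max (zpowers_le.2 ht) (KK.isPGroup_zp t2)
    fun U h3 h4 h5 => le_antisymm (fun u hu => by
      have h6 : ∀ v ∈ U, v ∈ L → v = 1 := fun v hv hv' => ((piGrp_singleton h5).piElt hv).eq_one
        ((odd_iff.1 h1).piElt ⟨hv', h4 hv⟩)
      rcases hc u (mem_cent1.2 (ab_iff.1 (ab U h5) u hu t (zpowers_le.1 h3))) with e | e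
      · exact h6 u hu e ▸ one_mem _
      · exact (mul_mem_cancel_right (mem_zpowers t)).1
          (h6 _ (mul_mem hu (zpowers_le.1 h3)) e ▸ one_mem _)) h3
  have hO := cyclic_pdiv_normal_complement h2 inferInstance fun q hq _ => hq.two_le
  have hP := KK.pair_self t1 j1 (fun e => tL (e ▸ hj)) t2 j2 (hL hj)
  have hU : S4 t j ≤ 𝐍(O 𝐂[y]) := le_norm_Opi _ (S4_le.2 ⟨le_norm_self _ ht, KK.norm_zp_le y hn⟩)
  obtain ⟨D, hD, hn⟩ := exists_invariant_sylow s hU (hP.coprime (odd_O _)).symm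
    (.inr (sol_of_odd (odd_O _)))
  have h3 := hP.le_of_forall hn (odd_of_le (odd_O _) hD.le)
    (inf_eq_bot_of_not_dvd hD.isPGroup (hs t t1 t2)).le (inf_eq_bot_of_not_dvd hD.isPGroup (hs j j1 j2)).le
    (inf_eq_bot_of_not_dvd hD.isPGroup (hs _ hP.mul_ne_one hP.mul_sq)).le
  rw [← hO.card, Nat.card_zpowers, orderOf_eq_two t2 t1]
  exact fun e => ((Nat.Prime.dvd_mul Fact.out).1 e).elim (hD.eq_bot_iff.1 (le_bot_iff.1 h3))
    fun e => s2 ((Nat.prime_dvd_prime_iff_eq Fact.out Nat.prime_two).1 e)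

theorem j1 (hG : Nat.card G = 175560) (hd : der (⊤ : Subgroup G) = ⊤) (ab : Ab2 G)
    (sq : ∀ x : G, PiElt {2} x → x * x = 1) (t1 : t ≠ 1) (t2 : t * t = 1)
    (hc : ∀ g ∈ 𝐂[t], g ∈ L ∨ g * t ∈ L) (tL : t ∉ L) (hL : L ≤ 𝐂[t]) (h : LF L p 5 r k)
    (hs : s = 11 ∨ s = 19) (h7 : ∀ u : G, u ≠ 1 → u * u = 1 → ¬ s ∣ ♯𝐂[u]) :
    ∃ (E : Subgroup G) (z : G), ♯E = s ∧ z ∈ 𝐍(E) ∧ z ∉ 𝐂(E) ∧ Odd (orderOf z) := by
  have : Fact s.Prime := ⟨by rcases hs with rfl | rfl <;> norm_num⟩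
  obtain ⟨e, he, ho⟩ := cauchy (H := (⊤ : Subgroup G)) this.out
    (by rw [card_top, hG]; rcases hs with rfl | rfl <;> norm_num)
  have hE : ♯(zpowers e) = s := by rw [Nat.card_zpowers, ho]
  have hS : Syl s (zpowers e) ⊤ := syl_of_card 1 le_top (hE.trans (pow_one s).symm)
    (by rw [card_top, hG]; rcases hs with rfl | rfl <;> norm_num)
  by_contra! hz
  replace hz := fun z => hz _ z hE
  have c60 : ♯L = 60 := by
    obtain ⟨r3, k1⟩ : r = 3 ∧ k = 1 := by have := h.par.2.2; omega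
    rw [h.card, r3, k1]
  have h1 : ∀ l, l = 3 ∨ l = 5 → ¬ l ∣ ♯𝐍(zpowers e) := fun l hl hn => by
    have : Fact l.Prime := ⟨by rcases hl with rfl | rfl <;> norm_num⟩
    obtain ⟨z, hz', ho'⟩ := cauchy this.out hn
    obtain ⟨y, hy, ho''⟩ := cauchy (H := L) this.out (by rw [c60]; rcases hl with rfl | rfl <;> norm_num)
    have h2 : ∀ x : G, orderOf x = l → Syl l (zpowers x) ⊤ := fun x hx => syl_of_card 1 le_top
      (by rw [Nat.card_zpowers, hx, pow_one]) (by rw [card_top, hG]; rcases hl with rfl | rfl <;> norm_num)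
    obtain ⟨g, -, hg⟩ := (h2 y ho'').exists_conj' (h2 z ho')
    refine not_dvd_cent (s := s) ab t1 t2 hc tL hL h h7 (by omega) hy (by omega) ?_
    rw [← cent_zpowers, ← card_conj g, ← cent_conj, ← hg, ← hE]
    exact card_dvd (le_cent_symm (zpowers_le.2 (by_contra fun e => hz z hz' e
      (by rw [ho']; rcases hl with rfl | rfl <;> decide))))
  have h2 : 2 ∣ ♯𝐍(zpowers e) := by_contra fun e' => W3.not_mem_der hS
    (ab_of_isCyclic inferInstance) (mem_zpowers e) (fun e => by simp [e] at ho; omega)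
    (fun z hz' => cent_zpowers e ▸ by_contra fun e => hz z hz'.2 e
      (odd_of_mem (Nat.odd_iff.2 (by omega)) hz'.2)) (hd.ge (mem_top e))
  have h4 := no_four sq (by rw [hE]; rcases hs with rfl | rfl <;> decide)
    (ne_bot_of_prime_dvd this.out hE.symm.dvd)
    fun u u1 u2 => inf_eq_bot_of_not_dvd hS.isPGroup (h7 u u1 u2)
  have h5 := syl_mod hS
  have h6 := 𝐍(zpowers e).card_mul_index
  have h8 := hE ▸ card_dvd (le_norm_self (zpowers e))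
  have h3 := h1 3 (.inl rfl)
  have h9 := h1 5 (.inr rfl)
  obtain ⟨m, hm⟩ := h2
  rw [hm] at h3 h4 h6 h8 h9
  rw [hG] at h6
  generalize 𝐍(zpowers e).index = n at *
  have h10 : m ∣ 1463 := (show m.Coprime (2 * 2 * 3 * 5) from Nat.Coprime.mul_right
    (Nat.Coprime.mul_right (Nat.Coprime.mul_right (by simp [Nat.odd_iff]; omega)
      (by simp [Nat.odd_iff]; omega)) ((Nat.Prime.coprime_iff_not_dvd Nat.prime_three).2 (by omega)).symm)
    ((Nat.Prime.coprime_iff_not_dvd Nat.prime_five).2 (by omega)).symm).dvd_of_dvd_mul_left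
    (Dvd.intro n (by linarith))
  have h11 : m ∈ Nat.divisors 1463 := Nat.mem_divisors.2 ⟨h10, by norm_num⟩
  rw [show Nat.divisors 1463 = {1, 7, 11, 19, 77, 133, 209, 1463} by decide +kernel] at h11
  simp only [Finset.mem_insert, Finset.mem_singleton, Nat.ModEq] at h11 h5
  rcases hs with rfl | rfl <;> rcases h11 with rfl | rfl | rfl | rfl | rfl | rfl | rfl | rfl <;> omega

theorem syl_of_class [hp : Fact p.Prime] (hT : IsPGroup p T) (hb : ∀ P ≤ 𝐂[w], IsPGroup p P → ♯P ∣ p ^ 2)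
    {A : Set G} (hA : ∀ N : Subgroup G, IsPGroup p N → N ≤ 𝐍(T) → ∀ g ∈ N, g * w * g⁻¹ ∈ A)
    (hc : p * A.ncard < ♯T) : Syl p T ⊤ := by
  obtain ⟨U, hU, hTU⟩ := exists_syl_ge (le_top : T ≤ ⊤) hT
  refine (hTU.eq_or_lt.resolve_right fun e => ?_) ▸ hU
  have h1 := lt_inf_norm_of_nil hU.nil e
  have h2 := hU.isPGroup.to_le (inf_le_left : U ⊓ 𝐍(T) ≤ U)
  have h3 : 𝐂[w].relIndex (U ⊓ 𝐍(T)) ≤ A.ncard := by
    rw [← E8.ncard_cls]
    exact Set.ncard_le_ncard (by rintro _ ⟨g, hg, rfl⟩; exact hA _ h2 inf_le_right g hg)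
  have h4 := Nat.mul_le_mul (Nat.le_of_dvd (pow_pos hp.out.pos 2)
    (hb _ inf_le_left (h2.to_le inf_le_right))) h3
  rw [card_inf_mul_relIndex, ← card_mul_relIndex h1.le] at h4
  obtain ⟨j, hj⟩ := (isPiNum_singleton_iff hp.out (relIndex_pos _ _).ne').1
    ((piGrp_singleton h2).relIndex T)
  have h5 : j ≠ 0 := fun e => h1.not_ge (relIndex_eq_one.1 (by rw [hj, e, pow_zero]))
  have h6 : p ≤ T.relIndex (U ⊓ 𝐍(T)) := hj ▸ Nat.le_self_pow h5 p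
  nlinarith [hp.out.pos, Nat.mul_le_mul_left ♯T h6]

open scoped IsMulCommutative in
theorem trace (hP : IsElementaryAbelian 5 P) (hw : w ∈ 𝐍(P)) (w5 : w ^ 5 = 1)
    (h : ∀ y ∈ P, (y * w) ^ 5 = 1) : ♯P ≤ ♯(P ⊓ 𝐂[w] : Subgroup G) ^ 4 := by
  have := hP.1
  let f : P →* P := ((MulAut.conj w).toMonoidHom.comp P.subtype).codRestrict P
    fun y => conj_mem_of_norm hw y.2
  let c : P →* P := f / MonoidHom.id P
  have h1 : ∀ H : Subgroup P, ♯H ≤ ♯(P ⊓ 𝐂[w] : Subgroup G) * ♯(H.map c) := fun H => by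
    rw [Core.card_eq_card_inf_ker_mul H c]
    refine Nat.mul_le_mul_right _ (Nat.card_le_card_of_injective
      (fun y => (⟨y.1.1, y.1.2, mem_cent1_comm.1 (mem_cent1_iff_conj.2 (congrArg Subtype.val
        (div_eq_one.1 (MonoidHom.mem_ker.1 y.2.2))))⟩ : (P ⊓ 𝐂[w] : Subgroup G)))
      fun x y e => Subtype.ext (Subtype.ext (congrArg (·.1) e :)))
  have h2 : ∀ y, c (c (c (c y))) = 1 := fun y => by
    have h3 : y * f y * f (f y) * f (f (f y)) * f (f (f (f y))) = 1 := Subtype.ext (by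
      have := h y y.2
      rw [show ((y : G) * w) ^ 5 = y * (w * y * w⁻¹) * (w * (w * y * w⁻¹) * w⁻¹) *
        (w * (w * (w * y * w⁻¹) * w⁻¹) * w⁻¹) * (w * (w * (w * (w * y * w⁻¹) * w⁻¹) * w⁻¹) * w⁻¹) *
        w ^ 5 by simp only [pow_succ, pow_zero]; group, w5, mul_one] at this
      exact this)
    have h4 : ∀ x : P, x ^ 5 = 1 := fun x => Subtype.ext (hP.2 x x.2)
    have h5 : c (c (c (c y))) = y * f y * f (f y) * f (f (f y)) * f (f (f (f y))) *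
        (f (f y) / (f y * f (f (f y)))) ^ 5 := by
      simp only [c, MonoidHom.div_apply, MonoidHom.id_apply, map_div]
      generalize f (f (f (f y))) = y4
      generalize f (f (f y)) = y3
      generalize f (f y) = y2
      generalize f y = y1
      apply Additive.ofMul.injective
      simp only [ofMul_div, ofMul_mul, ofMul_pow]
      abel
    rw [h5, h3, h4, one_mul]
  have h3 : ((((⊤ : Subgroup P).map c).map c).map c).map c = ⊥ := eq_bot_iff.2 (by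
    rintro _ ⟨_, ⟨_, ⟨_, ⟨y, -, rfl⟩, rfl⟩, rfl⟩, rfl⟩; exact h2 y)
  have a1 := h1 ⊤
  have a2 := h1 (map c ⊤)
  have a3 := h1 (map c (map c ⊤))
  have a4 := h1 (map c (map c (map c ⊤)))
  rw [h3, card_bot, mul_one] at a4
  rw [card_top] at a1
  calc _ ≤ _ := a1
    _ ≤ _ := Nat.mul_le_mul_left _ (a2.trans (Nat.mul_le_mul_left _ (a3.trans (Nat.mul_le_mul_left _ a4))))
    _ = _ := by ring

end Cfsg.Agent.JR.Ind
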