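import Cfsg.Agent.Lib.JR.Ind1
import Cfsg.Agent.Lib.JR.Basic
import Cfsg.Agent.Lib.JR.Hyp2

/-!
# Package IND: the centralizer of a field automorphism `w` of prime order and `C(w) / ⟨w⟩`
-/

set_option autoImplicit false
set_option linter.unusedSectionVars false

namespace Cfsg.Agent.JR.Ind

open Subgroup Cfsg.Agent.OO Cfsg.Agent.Coprime Cfsg.Agent.R1 Cfsg.Agent.GW
open scoped commutatorElement Pointwise

universe u

variable {G : Type u} [Group G] [Finite G] {D E H L N P Q S T W : Subgroup G} {p q r k s : ℕ}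
  {a b d g t u v w x y z ρ : G}

theorem bd_of [hp : Fact p.Prime] (h : ¬ p ^ 3 ∣ ♯N) : ∀ P ≤ N, IsPGroup p P → ♯P ∣ p ^ 2 :=
  fun P hP hp => by
    obtain ⟨j, hj⟩ := IsPGroup.iff_card.1 hp
    exact hj ▸ pow_dvd_pow p (by_contra fun e => h ((pow_dvd_pow p (by omega)).trans (hj ▸ card_dvd hP)))

theorem relIndex_seven (h8 : ♯S = 8) (ht : t ∈ S) (t1 : t ≠ 1)
    (tr : ∀ s ∈ S, s ≠ 1 → ∃ g ∈ 𝐍(S), g * t * g⁻¹ = s) : 𝐂[t].relIndex 𝐍(S) = 7 := by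
  rw [← E8.ncard_cls, show {y | ∃ x ∈ 𝐍(S), x * t * x⁻¹ = y} = (S : Set G) \ {1}
    from Set.ext fun y => ⟨by rintro ⟨x, hx, rfl⟩; exact ⟨conj_mem_of_norm hx ht, by simpa using t1⟩,
      fun hy => tr y hy.1 hy.2⟩, Set.ncard_sdiff_singleton_of_mem S.one_mem, ← Nat.card_coe_set_eq]
  exact congrArg (· - 1) h8

/-- a frame with an element of prime order `s` of `W` -/
structure Cx (t : G) (H L W S P T : Subgroup G) (p q r k : ℕ) (w : G) (s : ℕ) : Prop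
    extends Fr t H L W S P T p q r k where
  hw : w ∈ W
  ord : orderOf w = s
  hs : s.Prime

namespace Cx

variable (h : Cx t H L W S P T p q r k w s)
include h

theorem cardZ : ♯(zpowers w) = s := by rw [Nat.card_zpowers, h.ord]
theorem ZW : zpowers w ≤ W := zpowers_le.2 h.hw
theorem ZH : zpowers w ≤ H := h.ZW.trans h.W_le
theorem oddZ : Odd ♯(zpowers w) := odd_of_le h.oddW h.ZW
theorem odd_s : Odd s := h.cardZ ▸ h.oddZ
theorem w1 : w ≠ 1 := fun e => h.hs.one_lt.ne' (by rw [← h.ord, e, orderOf_one])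
theorem LZ (hx : x ∈ L) (hz : x ∈ zpowers w) : x = 1 := mem_bot.1 (h.inf ▸ ⟨hx, h.ZW hz⟩)
theorem wL : w ∉ L := fun e => h.w1 (h.LZ e (mem_zpowers w))
theorem WC : W ≤ 𝐂[w] := (ab_of_isCyclic h.cycW).le_cent.trans (cent_le_cent1 h.hw)
theorem NC : 𝐍(S) ≤ 𝐂[w] := h.normS.trans (cent_le_cent1 h.hw)
theorem SC : S ≤ 𝐂[w] := (le_norm_self S).trans h.NC
theorem tC : t ∈ 𝐂[w] := h.SC h.tS

theorem invC (hu : u ∈ 𝐂[w]) (u1 : u ≠ 1) (u2 : u * u = 1) : ∃ c ∈ 𝐂[w], c * t * c⁻¹ = u := by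
  have := Fact.mk Nat.prime_two
  obtain ⟨g, hg, hg'⟩ := (h.syl.mono h.SC le_top).exists_conj_le (zpowers_le.2 hu) (KK.isPGroup_zp u2)
  obtain ⟨n, hn, e⟩ := h.trS _ (hg' (conj_mem_conj (mem_zpowers u))) (by simpa using u1)
  refine ⟨g⁻¹ * n, mul_mem (inv_mem hg) (h.NC hn), ?_⟩
  rw [mul_cj, e]; group

theorem normZ : 𝐍(zpowers w) = 𝐂[w] := by
  refine le_antisymm (fun g hg => ?_) (KK.cent_le_norm_zp w)
  obtain ⟨c, hc, e⟩ := h.invC (conj_mem_of_norm (KK.norm_zp_le w hg) h.tC) (by simpa using h.t1)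
    (conj_sq h.t2 g)
  have h1 : c⁻¹ * g ∈ 𝐂[t] := mem_cent1_iff_conj.2 (by rw [mul_cj, ← e]; group)
  have h2 := h.LZ (h.inv_mul_cj (h.W_le h.hw) h1) (mul_mem (inv_mem (mem_zpowers w))
    (conj_mem_of_norm (mul_mem (inv_mem (KK.cent_le_norm_zp w hc)) hg) (mem_zpowers w)))
  exact (mul_mem_cancel_left (inv_mem hc)).1 (mem_cent1_iff_conj.2 (inv_mul_eq_one.1 h2).symm)

theorem nrm (hx : x ∈ 𝐂[w]) : x ∈ 𝐍(zpowers w) := h.normZ ▸ hx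
theorem nrm' (hx : N ≤ 𝐂[w]) : N ≤ 𝐍(zpowers w) := h.normZ ▸ hx

theorem ns (hs : ¬ s ^ 2 ∣ ♯𝐂[w]) : False :=
  have := Fact.mk h.hs
  h.wL (h.le_L_of_syl (IsSylowIn.of_syl_norm le_top (syl_of_card 1 (le_inf le_top (le_norm_self _))
    (h.cardZ.trans (pow_one s).symm) (by rwa [top_inf_eq, h.normZ]))) h.ZH (mem_zpowers w))

theorem HC : H ⊓ 𝐂[w] = L ⊓ 𝐂[w] ⊔ W := by
  rw [← sup_inf_of_le_right (.inr (h.W_le.trans h.norm)) h.WC, h.sup]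

theorem sd : IsSdprod (L ⊓ 𝐂[w]) W (H ⊓ 𝐂[w]) :=
  ⟨h.HC.symm, le_norm_inf (h.W_le.trans h.norm) (le_norm_of_le h.WC),
    eq_bot_iff.2 ((inf_le_inf_right _ inf_le_left).trans h.inf.le)⟩

theorem card_CC : ♯(𝐂[w] ⊓ 𝐂[t] : Subgroup G) = 2 * (♯(L ⊓ 𝐂[w] : Subgroup G) * ♯W) := by
  rw [h.sd.card, ← card_mul_relIndex (le_inf inf_le_right (inf_le_left.trans h.H_le) :
    H ⊓ 𝐂[w] ≤ 𝐂[w] ⊓ 𝐂[t]), mul_comm,
    relIndex_eq_two_iff.2 ⟨t, mem_inf.2 ⟨h.tC, mem_cent1_self t⟩, fun b hb => ?_⟩]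
  by_cases e : b ∈ H
  · exact .inr ⟨⟨e, hb.1⟩, fun e' => h.tH ((mul_mem_cancel_left e).1 e'.1)⟩
  · exact .inl ⟨⟨((h.cent b).1 hb.2).resolve_left e, mul_mem hb.1 h.tC⟩, fun e' => e e'.1⟩

theorem le_W (hN : N ≤ 𝐂(S)) (ho : Odd ♯N) : N ≤ W := by
  have := Fact.mk Nat.prime_two
  have h1 : IsDprod W S 𝐂(S) := ⟨by rw [h.centS, sup_comm], le_cent_symm h.W_le_centS,
    inf_eq_bot_of_coprime_card (coprime_of_isPGroup h.syl.isPGroup (odd_iff.1 h.oddW)).symm⟩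
  exact le_of_coprime_relIndex hN h1.normal_left.norm
    (h1.relIndex_left ▸ (coprime_of_isPGroup h.syl.isPGroup (odd_iff.1 ho)).symm)

theorem le_centS (h1 : N ≤ 𝐂[t]) (h2 : N ≤ 𝐂(L ⊓ 𝐂[w])) : N ≤ 𝐂(S) := le_cent_symm fun x hx => by
  rcases h.mem_or (h.S_le hx) (h.sq x hx) with e | e
  · exact le_cent_symm h2 ⟨e, h.SC hx⟩
  · exact (mul_mem_cancel_right (le_cent1_iff.1 h1)).1
      (le_cent_symm h2 ⟨e, mul_mem (h.SC hx) h.tC⟩)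

/-! ### the quotient -/

theorem card_X : s * Nat.card (Coset (zpowers w)) = ♯𝐂[w] := by
  rw [← h.normZ, ← card_mul_card_quo (normalIn_norm _), quo_norm, card_top, h.cardZ]

theorem X_ab2 : Ab2 (Coset (zpowers w)) :=
  SE.ab2_of_surjective (SE.ab2_sub h.ab2 _) (cosetHom_surjective _)

theorem lift {π : Set ℕ} {x : Coset (zpowers w)} (hx : PiElt π x) :
    ∃ y ∈ 𝐂[w], PiElt π y ∧ coset (zpowers w) y = x := by
  obtain ⟨y, -, h1, h2⟩ := exists_piElt_coset_eq (top_quo (zpowers w) ▸ mem_top x) hx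
  exact ⟨y, h.normZ ▸ h1, h2⟩

theorem X_sq (x : Coset (zpowers w)) (hx : PiElt {2} x) : x * x = 1 := by
  obtain ⟨y, h1, h2, rfl⟩ := h.lift hx
  rw [← coset_mul (h.nrm h1) (h.nrm h1), h.sq_of_piElt h2, coset_one]

theorem X_t1 : coset (zpowers w) t ≠ 1 := fun e =>
  h.tH (h.ZH ((coset_eq_one_iff (h.nrm h.tC)).1 e))

theorem X_t2 : coset (zpowers w) t * coset (zpowers w) t = 1 := by
  rw [← coset_mul (h.nrm h.tC) (h.nrm h.tC), h.t2, coset_one]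

theorem X_conj (a : Coset (zpowers w)) (a1 : a ≠ 1) (a2 : a * a = 1) :
    ∃ g, g * coset (zpowers w) t * g⁻¹ = a := by
  obtain ⟨y, h1, h2, rfl⟩ := h.lift (piElt_two a2)
  obtain ⟨c, hc, rfl⟩ := h.invC h1 (fun e => a1 (by rw [e, coset_one])) (h.sq_of_piElt h2)
  exact ⟨_, (coset_conj (h.nrm hc) (h.nrm h.tC)).symm⟩

theorem X_cent : 𝐂[coset (zpowers w) t] = (𝐂[w] ⊓ 𝐂[t]) ⁒ zpowers w := by
  rw [← h.normZ, quo_inf_cent1 (le_norm_self _) (h.nrm h.tC)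
    (Nat.card_zpowers t ▸ coprime_zp h.oddZ h.t2), quo_norm, top_inf_eq]

theorem X_card_cent (a : Coset (zpowers w)) (a1 : a ≠ 1) (a2 : a * a = 1) :
    s * ♯𝐂[a] = 2 * (♯(L ⊓ 𝐂[w] : Subgroup G) * ♯W) := by
  obtain ⟨g, rfl⟩ := h.X_conj a a1 a2
  rw [cent1_conj, card_conj, h.X_cent, ← h.card_CC, ← h.cardZ, card_mul_card_quo
    ⟨zpowers_le.2 (mem_inf.2 ⟨mem_cent1_self w, h.H_le (h.W_le h.hw)⟩), h.nrm' inf_le_left⟩]

theorem X_or (g : Coset (zpowers w)) : g ∈ 𝐂[coset (zpowers w) t] ↔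
    g ∈ (H ⊓ 𝐂[w]) ⁒ zpowers w ∨ g * coset (zpowers w) t ∈ (H ⊓ 𝐂[w]) ⁒ zpowers w := by
  have h1 : (H ⊓ 𝐂[w]) ⁒ zpowers w ≤ 𝐂[coset (zpowers w) t] :=
    h.X_cent ▸ quo_mono _ (le_inf inf_le_right (inf_le_left.trans h.H_le))
  refine ⟨fun hg => ?_, fun e => e.elim (h1 ·) fun e =>
    (mul_mem_cancel_right (mem_cent1_self _)).1 (h1 e)⟩
  rw [h.X_cent] at hg
  obtain ⟨g, hg', hn, rfl⟩ := mem_quo.1 hg
  rw [← coset_mul hn (h.nrm h.tC)]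
  exact ((h.cent g).1 hg'.2).imp (fun e => coset_mem_quo _ ⟨e, hg'.1⟩)
    fun e => coset_mem_quo _ ⟨e, mul_mem hg'.1 h.tC⟩

theorem X_tH : coset (zpowers w) t ∉ (H ⊓ 𝐂[w]) ⁒ zpowers w := fun e =>
  h.tH ((coset_mem_quo_iff (h.nrm h.tC) (zpowers_le.2 (mem_inf.2 ⟨h.W_le h.hw, mem_cent1_self w⟩))).1 e).1

theorem cop : (♯(zpowers w)).Coprime ♯S :=
  have := Fact.mk Nat.prime_two
  (coprime_of_isPGroup h.syl.isPGroup (odd_iff.1 h.oddZ)).symm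

theorem X_syl : Syl 2 (S ⁒ zpowers w) ⊤ :=
  have := Fact.mk Nat.prime_two
  quo_norm (zpowers w) ▸ (h.syl.mono (h.nrm' h.SC) le_top).quo le_rfl

theorem X_card : ♯(S ⁒ zpowers w) = 8 := (card_quo_of_coprime (h.nrm' h.SC) h.cop).trans h.cardS

theorem X_sqS (x : Coset (zpowers w)) (hx : x ∈ S ⁒ zpowers w) : x * x = 1 :=
  have := Fact.mk Nat.prime_two
  h.X_sq x (h.X_syl.piGrp.piElt hx)

theorem X_normS : 𝐍(S ⁒ zpowers w) = 𝐍(S) ⁒ zpowers w :=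
  (quo_norm_of_coprime (h.nrm' h.SC) h.cop (.inr (sol_of_ab h.abS))).symm

theorem X_trS (x : Coset (zpowers w)) (hx : x ∈ S ⁒ zpowers w) (x1 : x ≠ 1) :
    ∃ g ∈ 𝐍(S ⁒ zpowers w), g * coset (zpowers w) t * g⁻¹ = x := by
  obtain ⟨x, hx', -, rfl⟩ := mem_quo.1 hx
  obtain ⟨g, hg, rfl⟩ := h.trS x hx' fun e => x1 (by rw [e, coset_one])
  exact ⟨_, coset_mem_norm _ hg, (coset_conj (h.nrm (h.NC hg)) (h.nrm h.tC)).symm⟩

theorem X_odd (h1 : ∀ N, N ⊴ 𝐂[w] → Odd ♯N → N ⊓ 𝐂[t] ≤ zpowers w)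
    (M : Subgroup (Coset (zpowers w))) (hM : M.Normal) (ho : Odd ♯M) : M = ⊥ := by
  have := Fact.mk Nat.prime_two
  have h2 : quoPre _ M ⊴ 𝐂[w] := h.normZ ▸ quoPre_normal (normalIn_norm _)
    (quo_norm (zpowers w) ▸ normalIn_top.2 hM)
  have h3 : Odd ♯(quoPre _ M) := card_quoPre M ▸ h.oddZ.mul ho
  refine quoPre_eq_iff.1 (le_antisymm (coprime_abelian_gen_cent1 h.abS (not_cyc h.sq (by rw [h.cardS]; norm_num))
    (h.SC.trans h2.norm) (coprime_of_isPGroup h.syl.isPGroup (odd_iff.1 h3)).symm fun a ha a1 => ?_)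
    (le_quoPre M))
  obtain ⟨g, hg, rfl⟩ := h.trS a ha a1
  rw [cent1_conj, ← h2.conj_eq (h.NC hg), ← conj_inf]
  exact conj_le_of_mem_norm (h.nrm (h.NC hg)) (h1 _ h2 h3)

theorem cardL : ♯((L ⊓ 𝐂[w]) ⁒ zpowers w) = ♯(L ⊓ 𝐂[w] : Subgroup G) :=
  card_quo_of_inf_eq_bot (h.nrm' inf_le_right) (eq_bot_iff.2 fun _ hx => h.LZ hx.2.1 hx.1)

/-- the application of MC -/
theorem mc_app (hs : s = 7 ∨ s = 11 ∨ s = 19) (hW : W = zpowers w) (hL : ¬ s ∣ ♯L)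
    (hX : ¬ s ^ 2 ∣ Nat.card (Coset (zpowers w))) {E : Subgroup (Coset (zpowers w))}
    {z : Coset (zpowers w)} (hE : ♯E = s) (hz : z ∈ 𝐍(E)) (hc : z ∉ 𝐂(E)) (ho : Odd (orderOf z)) :
    False := by
  have := Fact.mk h.hs
  have := h.simple
  obtain ⟨z, h1, h2, rfl⟩ := h.lift (π := ({2} : Set ℕ)ᶜ)
    ((isPiNum_compl_singleton Nat.prime_two).2 ho.not_two_dvd_nat)
  have h3 : ♯(quoPre _ E) = s ^ 2 := by rw [card_quoPre, h.cardZ, hE, sq]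
  refine mc G s w z (quoPre _ E) h.ab2 h.sq_of_four hs h.ord h.normZ.le
    (syl_of_card 2 (h.normZ ▸ quoPre_le_norm E) h3 fun e => hX (Nat.dvd_of_mul_dvd_mul_left h.hs.pos
      (by rwa [h.card_X, ← pow_succ'])))
    h3 h1 (quoPre_norm E ▸ mem_quoPre.2 ⟨h.nrm h1, hz⟩ : z ∈ 𝐍(zpowers w) ⊓ _).2
    (fun e => hc (quo_quoPre E ▸ quo_cent_le _ _ (coset_mem_quo _ e)))
    (Nat.not_even_iff_odd.1 fun e => (isPiNum_compl_singleton Nat.prime_two).1 h2 e.two_dvd)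
    (fun D a b hD a1 b1 ab a2 b2 e ha hb => ?_)
    ((smp_top (G := G)).perfect fun e => h.not_ab (ab_of_le e le_top))
  have key : ∀ u v : G, u ≠ 1 → u * u = 1 → v ∈ 𝐂[u] → v ∈ 𝐍(D) → D ⊓ 𝐂[u] ≤ 𝐂[v] :=
    fun u v u1 u2 hv hn => by
      obtain ⟨g, rfl⟩ := h.conj u u1 u2
      rw [← cent_zpowers v, ← OO.commutator_eq_bot_iff, ← le_bot_iff,
        ← inf_eq_bot_of_not_dvd (C := KK.Ld (g * t * g⁻¹)) hD
          (by rwa [KK.Ld_conj, card_conj, KK.fr_eq h.toFr])]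
      exact le_inf ((commutator_le_left' (zpowers_le.2 (mem_norm_inf hn (le_norm_self _ hv)))).trans
        inf_le_left) (commutator_mono inf_le_right (zpowers_le.2 hv))
  have hP := KK.pair_self a1 b1 ab a2 b2 (mem_cent1.2 e.symm)
  have h4 : D ≤ 𝐂[a] := hP.le_of_forall (S4_le.2 ⟨ha, hb⟩)
    (odd_of_isPGroup (by omega) hD) inf_le_right (key b a b1 b2 (mem_cent1.2 e) ha)
    (key _ a hP.mul_ne_one hP.mul_sq (mem_cent1_comm.1 (mul_mem (mem_cent1_self a)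
      (mem_cent1.2 e.symm))) ha)
  obtain ⟨g, rfl⟩ := h.conj a a1 a2
  obtain ⟨c, -, hc⟩ := ((syl_of_card 1 (h.ZH.trans h.H_le) (h.cardZ.trans (pow_one s).symm) (by
    rw [h.card_cent, h.card_H, hW, h.cardZ, ← mul_assoc, pow_succ, pow_one]
    exact fun e => ((Nat.Prime.dvd_mul h.hs).1 (Nat.dvd_of_mul_dvd_mul_right h.hs.pos e)).elim
      (by rcases hs with rfl | rfl | rfl <;> norm_num) hL)).conj g).exists_le_conj' (cent1_conj g t ▸ h4) hD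
  exact ⟨c * g, conj_conj c g _ ▸ hc⟩

end Cx

end Cfsg.Agent.JR.Ind
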