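import Cfsg.Agent.Lib.JR.KBase
import Cfsg.Agent.Lib.GW.Comp

/-!
# Package KL
-/

set_option autoImplicit false

namespace Cfsg.Agent.JR.KK

open Subgroup Cfsg.Agent.OO Cfsg.Agent.Coprime Cfsg.Agent.R1 Cfsg.Agent.GW
open scoped commutatorElement Pointwise

universe u

theorem ih (n : ℕ) : IH.{u} n := fun _ _ _ L _ k2 k3 k4 => by
  obtain ⟨F, _, _, -, k5, ⟨e⟩⟩ := R1.gw4 L (k2.isSimpleGroup fun e => k3 (e ▸ ab_bot)) k3 k4
  exact good_of_equiv (Nat.odd_iff.2 (by omega)) e k2 k3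

variable {G : Type u} [Group G] [Finite G] {L K N M J : Subgroup G} {p q r k : ℕ}
  {g t u v w s x y ρ : G}

theorem comp_le (h : Comp N J t s ρ) (hM : M ⊴ N) (ht : t ∈ M) : J ≤ M := by
  have k4 : J ⊓ M ≤ 𝐍(O N) := inf_le_left.trans h.norm
  have k5 : (J ⊓ M) ⁒ O N = J ⁒ O N := (h.good.smp _ ((hM.inf_left h.normal.le).quo _)).resolve_left
    (quo_ne_bot k4 fun e' => not_mem_of_odd (odd_O N) h.v4.t_ne h.v4.t_sq (e' ⟨h.v4.t_mem, ht⟩))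
  have := (quo_le_quo_iff_le_sup h.norm k4).1 k5.ge
  have e1 : IsCprod (J ⊓ M) (O N ⊓ J) J := ⟨by
    rw [← sup_inf_of_le_left (.inl k4) inf_le_left, inf_eq_right.2 this],
    inf_le_left.trans (le_cent_symm (inf_le_left.trans h.cent))⟩
  have e2 := e1.der_eq
  rw [ab_iff_der.1 (ab_iff_le_cent.2 (inf_le_right.trans (h.cent.trans (cent_anti inf_le_left)))),
    sup_bot_eq, h.perfect] at e2
  exact e2.le.trans ((der_le _).trans inf_le_right)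

theorem no_four (hL : LF L p q r k) (y2 : y * y ≠ 1) (hy : y ∈ L) (ht : t ∈ L ⊓ 𝐂[y]) (t1 : t ≠ 1)
    (t2 : t * t = 1) (hv : v ∈ L ⊓ 𝐂[y]) (v2 : v * v = 1) : v = 1 ∨ v = t := by
  obtain ⟨o1, -⟩ := par_cop hL.par
  obtain ⟨K, hK, e⟩ := exists_K hL ht.1 t1 (orderOf_eq_two t2 t1 ▸ Nat.coprime_two_left.2 o1)
    (orderOf_eq_two t2 t1 ▸ Nat.coprime_two_left.2 hL.par.1)
  have h1 : y ∈ K := by_contra fun e' =>
    y2 (e.inv y (tor_cent_inv e hK t1 t2 ▸ ⟨hy, mem_cent1_comm.1 ht.2⟩) e').1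
  exact eq_of_cyc e.cyc hK t1 t2 (tor_cent e h1 y2 ▸ hv) v2

/-- the centralizer of `x` has a component `A₅` -/
structure CA (t v x s ρ : G) (K J : Subgroup G) : Prop where
  s1 : s ≠ 1
  s2 : s * s = 1
  inv : ∀ y ∈ K, s * y * s⁻¹ = y⁻¹
  le : J ≤ Ld s
  normal : J ⊴ 𝐂[x]
  norm : 𝐍(𝐂[x]) ≤ 𝐍(J)
  v4 : V4 J t v ρ
  smp : Smp J
  card : ♯J = 60
  cent : ♯(J ⊓ 𝐂[t]) = 4
  prod : IsProd J (𝐂[x] ⊓ 𝐂[t] ⊓ 𝐂[v]) 𝐂[x]

theorem Cf.dich (c : Cf t K v k) (h : Gl G p q r k) (hx : x ∈ K) (ho : Odd (orderOf x))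
    (x1 : x ≠ 1) : 𝐂[x] ≤ 𝐍(S4 t v) ∨ ∃ s ρ J, CA t v x s ρ K J := by
  have x2 := ne_sq ho x1
  have hp := c.pairX h hx x2
  have hU := c.cent_le' (u := t) h hx ho x1 (t_mem_S4 t v) c.t1
  have hO : O 𝐂[x] ≤ 𝐂[t] ⊓ 𝐂[v] := hp.le_of_forall (hp.le.trans (O_norm _)) (odd_O _)
    ((inf_le_inf_right _ (Opi_le _ _)).trans hU)
    ((inf_le_inf_right _ (Opi_le _ _)).trans (c.cent_le' h hx ho x1 (s_mem_S4 t v) c.v1))
    ((inf_le_inf_right _ (Opi_le _ _)).trans (c.cent_le' h hx ho x1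
      (mul_mem (t_mem_S4 t v) (s_mem_S4 t v)) hp.mul_ne_one))
  refine or_iff_not_imp_left.2 fun hS => ?_
  obtain ⟨ρ₀, h4⟩ := hp.sdprod_or.resolve_left fun e => hS (e.sup_eq.ge.trans
    (sup_le (le_norm_of_le_cent (cent_S4 t v ▸ hO)) (le_norm_self _)))
  obtain ⟨J, ρ, hJ⟩ := h4.exists_comp (ih _) (Nat.lt_succ_self _) (hO.trans inf_le_left) hS
  have hpJ := hJ.v4.pair
  have hn : 𝐍(𝐂[x]) ≤ 𝐍(J) := fun g hg => by
    have e1 := hJ.normal.conj g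
    rw [conj_eq_of_mem_norm hg] at e1
    refine conj_eq_self_iff.1 (eq_of_le_of_card_le (comp_le hJ e1 (h4.le_of_normal e1 (fun e => ?_)
      (t_mem_S4 t v))) (card_conj _ _).le).symm
    exact not_mem_of_odd (card_conj g J ▸ e) c.t1 c.t2 hpJ.t_mem
  obtain ⟨s, -, s2, hs, hi⟩ := c.exists_s
  have hsX : s ∈ 𝐍(𝐂[x]) := norm_zp_le x (mem_norm_of_inv (hi x hx))
  have hsO : s ∈ 𝐍(O 𝐂[x]) := norm_le_norm_Opi _ _ hsX
  have hq := hJ.pair_quo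
  have hS4 := S4_quo (hJ.norm hpJ.t_mem) (hJ.norm hpJ.s_mem)
  obtain ⟨w', hw', e⟩ := Wal.rigid (g := coset (O 𝐂[x]) s) hJ.good.smp
    (fun e => hq.t_ne (mem_bot.1 ((hJ.good.perfect.symm.trans (ab_iff_der.1 e)).le hq.t_mem)))
    hq.syl hq.ab (fun w hw w1 => by
      rw [← hS4] at hw
      obtain ⟨u, hu, rfl⟩ := (mem_quo_of_le (hpJ.le.trans hJ.norm)).1 hw
      rw [← quo_cent1_of_odd hJ.norm (odd_O _) (hpJ.le hu) (h.sq u (hpJ.syl.piGrp.piElt hu))]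
      refine le_trans ?_ (hJ.good.cent_le hq)
      have e1 := (inf_le_inf_right _ hJ.normal.le).trans
        (c.cent_le' h hx ho x1 hu fun e => w1 (by rw [e, coset_one]))
      exact le_inf (le_inf (quo_mono _ inf_le_left) ((quo_mono _ (e1.trans inf_le_left)).trans
        (quo_cent1_le (hJ.norm hpJ.t_mem)))) ((quo_mono _ (e1.trans inf_le_right)).trans
        (quo_cent1_le (hJ.norm hpJ.s_mem))))
    (coset_mem_norm _ (hn hsX)) ((cent_S4 _ _).ge ⟨coset_mem_cent1 (hJ.norm hpJ.t_mem) hs.1,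
      coset_mem_cent1 (hJ.norm hpJ.s_mem) hs.2⟩)
  rw [← hS4] at hw'
  obtain ⟨w, hw, rfl⟩ := (mem_quo_of_le (hpJ.le.trans hJ.norm)).1 hw'
  have hwO := inv_mem (hJ.norm (hpJ.le hw))
  rw [← coset_inv, ← coset_mul hwO hsO, ← zpowers_le, ← quo_zpowers (mul_mem hwO hsO),
    quo_le_cent_iff (zpowers_le.2 (mul_mem hwO hsO)) hJ.norm] at e
  have e1 : ⁅⁅zpowers (w⁻¹ * s), J⁆, J⁆ = ⊥ :=
    OO.commutator_eq_bot_iff.2 (e.trans (le_cent_symm hJ.cent))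
  have e2 := three_subgroup (A := J) (H := J) (by rwa [commutator_comm J]) e1
  rw [show ⁅J, J⁆ = J from hJ.perfect, OO.commutator_eq_bot_iff, cent_zpowers] at e2
  have e3 : J ≤ Ld (w⁻¹ * s) := hJ.perfect.ge.trans (der_mono e2)
  have hi' : ∀ y ∈ K, w⁻¹ * s * y * (w⁻¹ * s)⁻¹ = y⁻¹ := fun y hy => by
    calc _ = w⁻¹ * (s * y * s⁻¹) * w⁻¹⁻¹ := by group
      _ = _ := by rw [hi y hy, mem_cent1_iff_conj.1 (inv_mem (c.S4_le (inv_mem hy) hw))]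
  have s1 : w⁻¹ * s ≠ 1 := fun e => x2 (sq_of_inv (e ▸ one_mem _) (hi' x hx))
  have s3 : w⁻¹ * s * (w⁻¹ * s) = 1 := by
    have e4 : Commute s w⁻¹ := mem_cent1.1 (cent_le_cent1 (inv_mem hw) (cent_S4 t v ▸ hs))
    rw [e4.mul_mul_mul_comm, s2, mul_one, ← mul_inv_rev, h.sq w (hpJ.syl.piGrp.piElt hw), inv_one]
  have e4 : O 𝐂[x] ⊓ J = ⊥ := eq_bot_iff.2 fun y hy => by_contra fun y1 => by
    have e5 := hO hy.1
    rcases no_four (h.lf _ s1 s3) (ne_sq (odd_of_mem (odd_O _) hy.1) y1) (e3 hy.2)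
      ⟨e3 hpJ.t_mem, mem_cent1_comm.1 e5.1⟩ c.t1 c.t2 ⟨e3 hpJ.s_mem, mem_cent1_comm.1 e5.2⟩ c.v2
      with e | e
    exacts [c.v1 e, hp.ne e.symm]
  have e5 : Smp J := fun D hD => (hJ.good.smp _ (hD.quo _)).imp
    (fun e => eq_bot_iff.2 (e4 ▸ le_inf ((quo_eq_bot_iff (hD.le.trans hJ.norm)).1 e) hD.le))
    fun e => by
      have := (quo_le_quo_iff_le_sup hJ.norm (hD.le.trans hJ.norm)).1 e.ge
      rw [← inf_eq_right.2 this, sup_inf_of_le_left (.inl (hD.le.trans hJ.norm)) hD.le, e4, sup_bot_eq]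
  have e8 : ¬ J ≤ 𝐍(S4 t v) := fun e => by
    rcases e5 _ ⟨hpJ.le, e⟩ with e' | e'
    · exact c.t1 (mem_bot.1 (e' ▸ t_mem_S4 t v))
    · exact c.t1 (mem_bot.1 ((hJ.perfect.symm.trans (ab_iff_der.1 (e' ▸ hpJ.ab))).le hpJ.t_mem))
  obtain ⟨e6, e7⟩ := card_eq_sixty charO hJ.v4 hJ.perfect (card_dvd_of_relIndex (M := J ⊓ 𝐍(S4 t v))
    (fun D hD hM => (e5 D hD).resolve_right fun e => e8 (e.ge.trans (hM.trans inf_le_right)))
    (relIndex_le_five charO hJ.v4 hJ.perfect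
      inf_le_left (le_inf inf_le_left (le_norm_of_le_cent (cent_S4 t v ▸ (inf_le_inf_right _
        hJ.normal.le).trans hU))) (hJ.v4.mono ⟨hpJ.t_mem, le_norm_self _ (t_mem_S4 t v)⟩
        ⟨hJ.v4.ρ_mem, hJ.v4.mem_norm⟩ inf_le_left)))
  exact ⟨_, ρ, J, s1, s3, hi', e3, hJ.normal, hn, hJ.v4, e5, e6, e7, hJ.isProd⟩

omit [Finite G] in
theorem not_five (h : LF L 3 q r k) : ¬ 5 ∣ ♯L := by
  obtain ⟨f, ⟨m, rfl⟩, hq⟩ := h.pow
  have e : q % 20 = 3 ∨ q % 20 = 7 := by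
    rw [hq]
    clear hq
    induction m with
    | zero => simp
    | succ m ih =>
      rw [show 2 * (m + 1) + 1 = 2 * m + 1 + 2 by ring, pow_add]
      generalize 3 ^ (2 * m + 1) = a at *
      omega
  obtain ⟨-, -, h1⟩ := h.par
  rw [h.card, Nat.prime_five.dvd_mul, Nat.prime_five.dvd_mul, Nat.prime_five.dvd_mul]
  omega

theorem Cf.odd_sq (c : Cf t K v k) (h : Gl G p q r k) (hx : x ∈ K) : Odd (orderOf (x * x)) := by
  refine (h.lf t c.t1 c.t2).par.2.1.of_dvd_nat (orderOf_dvd_of_pow_eq_one ?_)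
  rw [← pow_two, ← pow_mul, ← c.tor.card, ← orderOf_dvd_iff_pow_eq_one]
  exact orderOf_dvd_card hx

end Cfsg.Agent.JR.KK

namespace Cfsg.Agent.JR

open Subgroup Cfsg.Agent.OO KK

universe u

theorem kl : KL.{u} := by
  intro G _ _ t H L W S P T q r k h K hK v hv v1 v2 x hx x2
  have hG := gl_of_fr h
  have c : Cf t K v k := ⟨h.t1, h.t2, fr_eq h ▸ hK, hv, v1, v2⟩
  refine (cent1_le_of_mem_zpowers (mul_mem (mem_zpowers x) (mem_zpowers x))).trans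
    ((c.dich hG (mul_mem hx hx) (c.odd_sq hG hx) x2).resolve_right ?_)
  rintro ⟨s, ρ, J, hJ⟩
  exact not_five (hG.lf s hJ.s1 hJ.s2) (Dvd.dvd.trans (by rw [hJ.card]; decide) (card_dvd hJ.le))

end Cfsg.Agent.JR
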