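import Cfsg.Agent.Lib.JR.LA0

/-!
# Package LA: the Borel subgroup of a group of Ree type
-/

set_option autoImplicit false

namespace Cfsg.Agent.JR

open Subgroup Cfsg.Agent.OO Cfsg.Agent.Coprime Cfsg.Agent.R1 Cfsg.Agent.GW
open scoped commutatorElement Pointwise

universe u

namespace La

variable {G : Type u} [Group G] [Finite G] {t x g : G} {H L W S P T B K Y Z : Subgroup G}
  {q r k : ℕ} (h : Fr t H L W S P T 3 q r k)
include h

theorem le_T (hY : Y ≤ zpowers t ⊔ T) (ho : Odd ♯Y) : Y ≤ T := by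
  have h1 : T ≤ 𝐂[t] := h.tor.le.trans (h.le.trans (HC h))
  have h2 := le_H h (hY.trans (sup_le (zpowers_le.2 (mem_cent1_self t)) h1)) ho
  intro y hy
  obtain ⟨a, ha, b, hb, rfl⟩ := (mem_sup_norm_right (le_norm_of_le_cent (le_cent_symm
    (h1.trans (cent_zpowers t).ge)))).1 (hY hy)
  rcases (mem_zp h.t2).1 ha with rfl | rfl
  · rwa [one_mul]
  · exact absurd ((mul_mem_cancel_right (h.le (h.tor.le hb))).1 (h2 hy)) h.tH

theorem normD : P ⊔ T ⊔ W ≤ 𝐍(P) := sup_le (sup_le (le_norm_self P) h.TP) h.WP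

theorem DC : P ⊔ T ⊔ W ≤ 𝐂[t] :=
  (sup_le (sup_le (h.uni.le.trans h.le) (h.tor.le.trans h.le)) (WH h)).trans (HC h)

theorem blem (hx : x ∈ T) (hs : (orderOf x).Prime) (hc : 𝐂[x] ≤ zpowers t ⊔ T) (hY : Y0 t W P T)
    (ht : t ∈ B) (hB : P ⊔ T ⊔ W ≤ B) (hL : ¬ L ≤ B) : Op' 3 (O B) = ⊥ ∧
      B ≤ Op 3 B ⊔ (zpowers t ⊔ T ⊔ W) ∧ Op 3 B ⊓ 𝐂[t] = P := by
  have e := inf_H h hB hL
  have hs2 := sdp h ht (e ▸ oddD h)
  have hn := num h
  have h3T : ¬ 3 ∣ ♯T := by rw [cardT h]; omega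
  have hO : O B ⊴ B := Opi_normal _ B
  have hD : P ⊔ T ⊔ W ≤ O B := (hs2.hall_left (Op'_piGrp _ _) (piGrp_singleton
    (syl_t h ht (e ▸ oddD h)).isPGroup).compl_compl).le_of_normal_hall hO.norm hB (odd_iff.1 (oddD h))
  have k : ∀ X ≤ O B, X ⊓ 𝐂[t] ≤ P ⊔ T ⊔ W := fun X hX => e ▸ le_inf (inf_le_left.trans
    (hX.trans hO.le)) (le_H h inf_le_right (odd_of_le (odd_O B) (inf_le_left.trans hX)))
  have hP : P ≤ P ⊔ T ⊔ W := le_sup_of_le_left le_sup_left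
  have hT : T ≤ P ⊔ T ⊔ W := le_sup_of_le_left le_sup_right
  have h0 : Op' 3 (O B) = ⊥ := by
    have h1 := hO.Opi ({3} : Set ℕ)ᶜ
    have h2 := k _ (Opi_le ({3} : Set ℕ)ᶜ _)
    have h3 := coprime_of_isPGroup (pP h) ((Op'_piGrp 3 (O B)).inf_left 𝐂[t])
    refine hY _ (odd_of_le (odd_O B) (Opi_le _ _)) (not_dvd_Op' _) ?_
      ((sup_le (sup_le (sup_le (zpowers_le.2 ht) (hP.trans hB)) (hT.trans hB))
        (le_sup_right.trans hB)).trans h1.norm)
    refine eq_bot_iff.2 (inf_eq_bot_of_coprime_card h3 ▸ le_inf (h.centP ▸ le_inf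
      (h2.trans (e.ge.trans inf_le_right)) (le_cent_of_coprime (h2.trans (normD h)) (le_norm_inf
        ((hP.trans hB).trans h1.norm) (le_norm_of_le (hP.trans (DC h)))) h3.symm)) le_rfl)
  have hxT := le_T h (inf_le_right.trans hc) (odd_of_le (odd_O B) (inf_le_left : O B ⊓ 𝐂[x] ≤ _))
  have h1 := le_Op_sup (odd_O B) h0 (hO.norm ht) h.t2 (hD (hT hx)) hs (isCyclic_of_le' h.tor.cyc hxT)
    (hxT.trans (hT.trans (DC h))) fun e => h3T (e.trans (card_dvd hxT))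
  have e3 : Op 3 (O B) = Op 3 B := Op_Opi (by simp) B
  rw [e3] at h1
  replace h1 := h1.trans (sup_le_sup_left (k _ le_rfl) _)
  have hQ := Op_normal 3 B
  have hQO : Op 3 B ≤ O B := e3.ge.trans (Op_le _ _)
  have h2 : P ≤ Op 3 B := by
    have h3 : (Op 3 B ⊔ P) ⊴ O B := ⟨sup_le hQO (hP.trans hD), h1.trans (sup_le
      (le_norm_of_le le_sup_left) (le_norm_sup (hB.trans hQ.norm) (normD h)))⟩
    exact le_sup_right.trans ((le_Op h3 (isPGroup_sup (Op_isPGroup 3 B) (pP h)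
      (.inr ((hP.trans hB).trans hQ.norm)))).trans e3.le)
  refine ⟨h0, ?_, le_antisymm ?_ (le_inf h2 (hP.trans (DC h)))⟩
  · refine hs2.sup_eq.ge.trans ?_
    exact sup_le (h1.trans (sup_le le_sup_left (sup_le (sup_le (h2.trans le_sup_left)
      (le_sup_of_le_right (le_sup_of_le_left le_sup_right))) (le_sup_of_le_right le_sup_right))))
      (le_sup_of_le_right (le_sup_of_le_left le_sup_left))
  · have h3 := k _ hQO
    have h4 : Op 3 B ⊓ (T ⊔ W) ≤ 𝐂(T) := le_cent_of_coprime (inf_le_right.trans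
      (sup_le (le_norm_self T) h.WT)) (le_norm_inf ((hT.trans hB).trans hQ.norm)
        (le_norm_of_le le_sup_left)) (coprime_of_isPGroup ((Op_isPGroup _ _).to_le inf_le_left)
          ((piGrp_compl_singleton Nat.prime_three).2 h3T))
    have h5 := le_T h (h4.trans ((cent_le_cent1 hx).trans hc))
      (odd_of_isPGroup (by decide) ((Op_isPGroup 3 B).to_le inf_le_left))
    have h6 : Op 3 B ⊓ (T ⊔ W) = ⊥ := by_contra fun e => h3T ((dvd_card_of_isPGroup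
      ((Op_isPGroup _ _).to_le inf_le_left) e).trans (card_dvd h5))
    refine (le_inf h3 inf_le_left).trans ?_
    rw [sup_assoc, sup_inf_of_le_left (.inr (sup_le h.TP h.WP)) h2, inf_comm, h6, sup_bot_eq]

theorem der_top : der (⊤ : Subgroup G) = ⊤ := by
  have := h.simple
  refine (IsSimpleGroup.eq_bot_or_eq_top_of_normal _ (normalIn_top.1 (der_normal ⊤))).resolve_left
    fun e => P_ne h (eq_bot_iff.2 (h.uni.le.trans (h.perfect.ge.trans ((der_mono le_top).trans e.le))))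

end La

open La in
theorem la (gzl : GZL.{u}) : LA.{u} := by
  intro G _ _ t H L W S P T q r k h x hx hs hc hY
  have hn := num h
  have tP : t ∈ 𝐍(P) := cent_le_norm P (le_cent1_iff.1 (h.uni.le.trans (h.le.trans (HC h))))
  obtain ⟨Q, -, ⟨hQ, tQ, hD, hP⟩, hm⟩ := Finite.exists_le_maximal
    (p := fun X : Subgroup G => IsPGroup 3 X ∧ t ∈ 𝐍(X) ∧ P ⊔ T ⊔ W ≤ 𝐍(X) ∧ P ≤ X)
    ⟨pP h, tP, normD h, le_rfl⟩
  have Q0 : Q ≠ ⊥ := fun e => P_ne h (eq_bot_iff.2 (e ▸ hP))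
  have hE : zpowers t ⊔ T ⊔ W ≤ 𝐍(Q) := sup_le (sup_le (zpowers_le.2 tQ)
    ((le_sup_of_le_left le_sup_right).trans hD)) (le_sup_right.trans hD)
  have key : ∀ Z : Subgroup G, IsPGroup 3 Z → Z ≠ ⊥ → 𝐍(Q) ≤ 𝐍(Z) →
      𝐍(Z) ≤ Q ⊔ (zpowers t ⊔ T ⊔ W) := fun Z hZ h0 hle => by
    have h1 := (Op_normal 3 𝐍(Z)).norm
    have h2 := (le_norm_self Q).trans (hle.trans h1)
    refine (blem h hx hs hc hY (hle tQ) (hD.trans hle) (not_le_norm h hZ h0 (hle tQ))).2.1.trans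
      (sup_le_sup_right (le_sup_right.trans (hm ⟨isPGroup_sup hQ (Op_isPGroup _ _) (.inl h2),
        mem_norm_sup tQ (h1 (hle tQ)), le_norm_sup hD (hD.trans (hle.trans h1)),
        hP.trans le_sup_left⟩ le_sup_left)) _)
  have hN : 𝐍(Q) = Q ⊔ (zpowers t ⊔ T ⊔ W) :=
    le_antisymm (key Q hQ Q0 le_rfl) (sup_le (le_norm_self Q) hE)
  have nL := not_le_norm h hQ Q0 tQ
  obtain ⟨h0, -, h1⟩ := blem h hx hs hc hY tQ hD nL
  have h2 : Q ⊓ 𝐂[t] = P := le_antisymm (h1 ▸ inf_le_inf_right _ (le_Op (normalIn_norm Q) hQ))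
    (le_inf hP ((le_sup_of_le_left le_sup_left).trans (DC h)))
  have hs2 := sdp h tQ (inf_H h hD nL ▸ oddD h)
  have ho := odd_O 𝐍(Q)
  obtain ⟨R, hR, tR⟩ := coprime_Hall_exists {3} hs2.le_norm (coprime_zp ho h.t2) (sol_of_odd ho)
  replace hR := hR.syl
  have hQR : Q ≤ R := hR.le_of_norm (le_O (normalIn_norm Q) (odd_of_isPGroup (by decide) hQ)) hQ
    (.inl (hR.le.trans (Opi_le _ _)))
  have Z0 : ∀ X : Subgroup G, IsPGroup 3 X → X ≠ ⊥ → Zc (puig X) ≠ ⊥ := fun X hX h0 e =>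
    h0 (Pf.trivg_center_Puig_pgroup hX e)
  have h3 : 𝐍(Zc (puig R)) ≤ 𝐍(Q) := hN ▸ key _ (hR.isPGroup.to_le (ZL.ZL_le R))
    (Z0 R hR.isPGroup fun e => Q0 (eq_bot_iff.2 (e ▸ hQR))) (hs2.sup_eq.ge.trans (sup_le
      (ZL.center_normal ⟨sol_of_odd ho, .inr ⟨by decide, fun X _ => h.ab2 X⟩⟩ hR h0).norm
      (tR.trans (Pf.norm_le_norm_center_puig R))))
  have h4 : Syl 3 R 𝐍(Q) := hR.trans_hall (hs2.hall_left (Op'_piGrp _ _) (piGrp_singleton
    (abelem_isPGroup (abelem_zpowers ((pow_two t).trans h.t2)))).compl_compl) (by simp)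
  have h5 : Syl 3 R ⊤ := .of_syl_norm le_top (h4.mono (le_inf le_top (le_norm_self R))
    (inf_le_right.trans ((Pf.norm_le_norm_center_puig R).trans h3)))
  have hT : T ≤ 𝐍(Q) := (le_sup_of_le_left le_sup_right).trans hE
  have hW : W ≤ 𝐂[t] := (WH h).trans (HC h)
  have h6 : 𝐍(Q) ≤ 𝐍(Q ⊔ T) := hN ▸ sup_le (le_norm_of_le le_sup_left) (le_norm_sup hE (sup_le
    (sup_le (le_norm_of_le_cent (le_cent_symm ((h.tor.le.trans (h.le.trans (HC h))).trans
      (cent_zpowers t).ge))) (le_norm_self T)) h.WT))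
  have h7 : der 𝐍(Q) ≤ Q ⊔ T := by
    have h8 : zpowers t ⊔ W ≤ 𝐍(Q) := (sup_le_sup_right le_sup_left W).trans hE
    rw [← ab_quo_iff h6]
    refine ab_of_le (ab_quo (ab_sup (ab_of_isCyclic inferInstance) (ab_of_isCyclic h.cycW)
      (le_cent_symm (hW.trans (cent_zpowers t).ge))) (Q ⊔ T)) ?_
    rw [← quo_sup_self (h8.trans h6)]
    refine quo_mono _ (hN.le.trans (sup_le (le_sup_of_le_right le_sup_left) (sup_le (sup_le
      (le_sup_of_le_left le_sup_left) (le_sup_of_le_right le_sup_right))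
        (le_sup_of_le_left le_sup_right))))
  have h8 : R ≤ Q ⊔ T := by
    refine (le_inf le_rfl (le_top.trans (der_top h).ge)).trans (le_trans ?_ ((der_mono h3).trans h7))
    rw [focal_subgroup_gen h5, closure_le]
    rintro _ ⟨y, hy, g, -, h9, rfl⟩
    obtain ⟨n, hn, e⟩ := gzl G 3 R (zpowers y) g h.ab2 Nat.prime_three (by decide) h5
      (zpowers_le.2 hy) (by rwa [conj_zpowers, zpowers_le])
    rw [e y (mem_zpowers y)]
    simpa [commutatorElement_def, mul_assoc] using commutator_mem_commutator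
      (inv_mem ((le_norm_self R).trans (Pf.norm_le_norm_center_puig R) hy)) hn
  have h3T := (piGrp_compl_singleton Nat.prime_three).2 (show ¬ 3 ∣ ♯T by rw [cardT h]; omega)
  obtain rfl : R = Q := le_antisymm (((IsSdprod.of_coprime hT (coprime_of_isPGroup hQ h3T)).hall_left
    (piGrp_singleton hQ) h3T).syl.le_of_normal_syl (sup_le (le_norm_self Q) hT) h8 hR.isPGroup) hQR
  refine ⟨R, h5, h2, hN, h3, fun e => ?_⟩
  obtain ⟨w, hw, ho⟩ := cauchy Nat.prime_three e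
  have h9 : w ∈ L ⊓ W := ⟨h.uni.le (h2.le ⟨h5.mem_of_mem_norm trivial (le_sup_right.trans hE hw)
    (by rw [PiElt, ho]; exact (isPiNum_prime Nat.prime_three).2 rfl), hW hw⟩), hw⟩
  rw [h.inf, mem_bot] at h9
  simp [h9] at ho

end Cfsg.Agent.JR
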