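import Cfsg.Agent.Lib.JR.LF2
import Cfsg.Agent.Lib.SE.Act
import Cfsg.Agent.Lib.Core.InvOdd
import Cfsg.Agent.Lib.OO.Pf.BG7_Pre
import Cfsg.Agent.Lib.Coprime.RankTwo

/-!
# Groups of Ree type: the Sylow 3-subgroups are TI (package LB)
-/

set_option autoImplicit false
set_option linter.unusedSectionVars false

namespace Cfsg.Agent.JR

open Subgroup Cfsg.Agent.OO Cfsg.Agent.Coprime Cfsg.Agent.MN Cfsg.Agent.GW
open scoped commutatorElement Pointwise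

universe u

namespace LBx

variable {G : Type u} [Group G] [Finite G] {t v x y z : G} {H L W S P T Q A D X Y : Subgroup G}
  {q r k : ℕ}

/-- the signalizer `O_{3'}(O(C(y)))` -/
def th (y : G) : Subgroup G := Op' 3 (O 𝐂[y])

theorem th_conj (g y : G) : th (g * y * g⁻¹) = g •ᶜ th y :=
  (congrArg (Op' 3) ((congrArg O (cent1_conj g y)).trans (Opi_conj _ g _))).trans (Opi_conj _ g _)

theorem norm_th (y : G) : 𝐂[y] ≤ 𝐍(th y) := le_norm_Opi _ (le_norm_Opi _ (le_norm_self _))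

theorem th_le (y : G) : th y ≤ 𝐂[y] := (Opi_le _ _).trans (Opi_le _ _)

theorem odd_th (y : G) : Odd ♯(th y) := odd_of_le (odd_O _) (Opi_le _ _)

theorem odd3 (hD : IsPGroup 3 D) : Odd ♯D := odd_of_isPGroup (by decide) hD

theorem arith {n i j c m w : ℕ} (n1 : q + 1 = 4 * k) (n2 : 2 * r + 1 = q) (n3 : 0 < r) (h10 : 0 < w)
    (hq : q ^ 3 ≤ c) (h5 : j * q = c) (h1 : i ≤ 2 * r * (n - 1) + j) (hm : n - 1 = c * m) (h9 : 0 < n)
    (h4 : n ≠ 1) (h8 : 4 * q * r * k * w * 2 * i = c * (2 * r * w) * n) : c = q ^ 3 ∧ n = q ^ 3 + 1 := by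
  obtain rfl : n = c * m + 1 := by omega
  have h11 : i * (q * (q + 1)) = c * (c * m + 1) :=
    Nat.eq_of_mul_eq_mul_left (show 0 < 2 * r * w by positivity) (by rw [n1]; linarith)
  have h12 : c * (c * m + 1) ≤ c * (q + 1 + q * (q + 1) * (2 * r) * m) := by
    have := Nat.mul_le_mul_right (q * (q + 1)) h1
    rw [h11, hm] at this
    rw [← h5] at this ⊢
    linarith
  subst n2
  have h13 := Nat.le_of_mul_le_mul_left h12 (lt_of_lt_of_le (by positivity) hq)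
  obtain ⟨d, rfl⟩ := Nat.exists_eq_add_of_le hq
  obtain ⟨m, rfl⟩ : ∃ j, m = j + 1 := ⟨m - 1, by rcases m with _ | m <;> simp at h4 ⊢⟩
  have h14 : d * (m + 1) + (2 * r + 1) * m ≤ 0 := by linarith
  obtain rfl : d = 0 := by nlinarith
  obtain rfl : m = 0 := by nlinarith
  simp

variable (h : Fr t H L W S P T 3 q r k)
include h

theorem num : q + 1 = 4 * k ∧ 2 * r + 1 = q ∧ 27 ≤ q ∧ 3 ∣ q := by
  obtain ⟨f, ⟨j, rfl⟩, hq⟩ := h.pow
  have h5 := h.five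
  have h1 : q % 4 = 3 := by
    rw [hq, pow_succ, pow_mul, Nat.mul_mod, Nat.pow_mod]; simp
  have h2 : 27 ≤ q := by
    rcases j with _ | j
    · simp at hq; omega
    · exact hq ▸ Nat.pow_le_pow_right (n := 3) (by decide) (show 3 ≤ _ by omega)
  have h3 : 3 ∣ q := hq ▸ dvd_pow_self 3 (by omega)
  have := h.par.2.2
  omega

theorem sdp : IsSdprod L W H :=
  h.sup ▸ IsSdprod.of_sup ((le_sup_right.trans h.sup.le).trans h.norm) h.inf

theorem H_le : H ≤ 𝐂[t] := fun g hg => (h.cent g).2 (.inl hg)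

theorem mem_H (hy : y ∈ 𝐂[t]) (ho : Odd (orderOf y)) : y ∈ H := by
  refine ((h.cent y).1 hy).elim id fun e => absurd ?_ h.tH
  have := pow_mem e (orderOf y)
  obtain ⟨m, hm⟩ := ho
  rwa [(show Commute y t from mem_cent1.1 hy).mul_pow, pow_orderOf_eq_one, one_mul, hm, pow_succ,
    pow_mul, pow_two, h.t2, one_pow, one_mul] at this

theorem mem_L (hy : y ∈ H) (hc : (orderOf y).Coprime ♯W) : y ∈ L :=
  le_of_coprime_relIndex (zpowers_le.2 hy) h.norm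
    (by rwa [Nat.card_zpowers, (sdp h).relIndex_left]) (mem_zpowers y)

theorem mem_L2 (hy : y ∈ H) (h2 : y * y = 1) : y ∈ L :=
  mem_L h hy (((Nat.coprime_two_left.2 h.oddW)).coprime_dvd_left
    (orderOf_dvd_of_pow_eq_one (by rwa [pow_two])))

theorem P3 : IsPGroup 3 P := fun a => ⟨1, Subtype.ext (h.uni.elem.2 a a.2)⟩

theorem sylP : Syl 3 P L := by
  refine ⟨h.uni.le, P3 h, fun e => ?_⟩
  have h1 := card_mul_relIndex h.uni.le
  obtain ⟨n1, n2, n3, n4⟩ := num h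
  rw [h.uni.card, h.card, show 4 * q * r * k = q * (r * (4 * k)) by ring] at h1
  rw [Nat.eq_of_mul_eq_mul_left (by omega) h1, Nat.prime_three.dvd_mul] at e
  omega

theorem sq_of (hX : IsPGroup 2 X) (hv : v ∈ X) : v * v = 1 := by
  obtain ⟨g, -, e⟩ := h.syl.exists_conj_le le_top hX
  simpa [conj_mul] using h.sq _ (e (conj_mem_conj hv))

theorem nr (hy : y ∈ H) (ho : Odd (orderOf y)) (v2 : v * v = 1) (hv : v * y * v⁻¹ = y⁻¹) : y ∈ L := by
  have ht := mem_cent1_comm.1 (H_le h hy)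
  obtain ⟨U, hU, h1⟩ := exists_syl_ge (M := 𝐍(zpowers y))
    (zpowers_le.2 (cent_le_norm _ ((cent_zpowers y).ge ht))) (isP_inv h.t2)
  obtain ⟨g, hg, e⟩ := hU.exists_conj_le (zpowers_le.2 (conj_eq_self_iff.1 (by
    rw [conj_zpowers, hv, zpowers_inv]))) (isP_inv v2)
  have h2 := e (conj_mem_conj (mem_zpowers v))
  have h4 : g * v * g⁻¹ * y * (g * v * g⁻¹)⁻¹ = y⁻¹ := by
    obtain ⟨n, hn⟩ := mem_zpowers_iff.1 (conj_mem_of_norm' hg (mem_zpowers y))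
    calc _ = g * (v * (g⁻¹ * y * g) * v⁻¹) * g⁻¹ := by group
      _ = g * (g⁻¹ * y * g)⁻¹ * g⁻¹ := by rw [← hn, ← conj_zpow, hv, inv_zpow]
      _ = _ := by group
  have h5 := conj_sq v2 g
  generalize g * v * g⁻¹ = u at *
  have h6 := cent_le_cent1 (h1 (mem_zpowers t)) (Ab.le_cent (h.ab2 U hU.isPGroup) h2)
  obtain ⟨w, hw, w2, h7⟩ : ∃ w ∈ H, w * w = 1 ∧ w * y * w⁻¹ = y⁻¹ := by
    refine ((h.cent u).1 h6).elim (fun e => ⟨u, e, h5, h4⟩) fun e => ⟨_, e, ?_, ?_⟩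
    · rw [mul_assoc, ← mul_assoc t, ← mem_cent1.1 h6, mul_assoc, h.t2, mul_one, h5]
    · rw [← h4, show u * t * y * (u * t)⁻¹ = u * (t * y * t⁻¹) * u⁻¹ by group, mem_cent1_iff_conj.1 ht]
  have h8 := mem_L2 h hw w2
  have h9 := mul_mem (conj_mem_of_norm (h.norm hy) h8) (inv_mem h8)
  rw [show y * w * y⁻¹ * w⁻¹ = y * (w * y * w⁻¹)⁻¹ by group, h7, inv_inv, ← pow_two] at h9
  exact zpowers_le.2 h9 (mem_zpowers_pow_iff.2 (Nat.coprime_two_left.2 ho))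

variable (h3 : ¬ 3 ∣ ♯W)
include h3

theorem le_L (hD : IsPGroup 3 D) (hD' : D ≤ 𝐂[t]) : D ≤ L := fun _ hy =>
  mem_L h (mem_H h (hD' hy) (odd_of_mem (odd3 hD) hy)) (Nat.Coprime.coprime_dvd_left
    (OO.orderOf_dvd_card hy) (coprime_of_isPGroup hD ((piGrp_compl_singleton Nat.prime_three).2 h3)))

theorem core (hD : IsPGroup 3 D) (h0 : D ⊓ 𝐂[t] ≠ ⊥) (hv : v ∈ 𝐍(D)) (hc : v ∈ 𝐂[t])
    (v2 : v * v = 1) : v ∈ zpowers t := by
  obtain ⟨y, hy, y1⟩ := exists_mem_ne_one h0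
  have hD' : IsPGroup 3 (D ⊓ 𝐂[t] : Subgroup G) := hD.to_inf_left
  obtain ⟨g, hg, e⟩ := (sylP h).exists_le_conj' (le_L h h3 hD' inf_le_right) hD'
  have hu := L2.uni_conj h.uni hg
  have key : ∀ w ∈ H, w * w = 1 → w * y * w⁻¹ = v * y * v⁻¹ → w = 1 := fun w hw w2 e' => by
    have h1 := mem_L2 h hw w2
    have h2 := hu.ti w h1 y (e hy) y1 (e (e' ▸ conj_mem_of_norm
      (mem_norm_inf hv (le_norm_self _ hc)) hy))
    refine eq_one_of_odd_of_sq (odd_of_mem (Q := L ⊓ 𝐍(g •ᶜ P)) ?_ ⟨h1, h2⟩) w2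
    obtain ⟨n1, n2, n3, n4⟩ := num h
    have h4 := hu.card_norm
    rw [show q - 1 = 2 * r by omega, mul_left_comm] at h4
    rw [Nat.eq_of_mul_eq_mul_left two_pos h4]
    exact Odd.mul ⟨r, n2.symm⟩ h.par.1
  rw [mem_zp h.t2]
  refine ((h.cent v).1 hc).imp (fun e => key v e v2 rfl) fun e => ?_
  have := key _ e (by
    rw [mul_assoc, ← mul_assoc t, ← mem_cent1.1 hc, mul_assoc, h.t2, mul_one, v2]) (by
    rw [show v * t * y * (v * t)⁻¹ = v * (t * y * t⁻¹) * v⁻¹ by group,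
      mem_cent1_iff_conj.1 (mem_cent1_comm.1 hy.2)])
  rw [eq_inv_of_mul_eq_one_left this, inv_eq h.t2]

theorem cyc (hD : IsPGroup 3 D) (h0 : D ≠ ⊥) (hX : X ≤ 𝐍(D)) (h2 : IsPGroup 2 X) : IsCyclic X := by
  by_contra hc
  obtain ⟨a, ha, a1, e⟩ := exists_inf_centralizer_ne_bot (h.ab2 X h2) hc hX
    (coprime_of_isPGroup_ne h2 hD (by decide)) h0
  obtain ⟨g, rfl⟩ := h.conj a a1 (sq_of h h2 ha)
  refine hc (isCyclic_of_le' (B := zpowers (g * t * g⁻¹)) inferInstance fun v hv => ?_)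
  rw [← conj_zpowers, mem_conj]
  refine core h h3 (D := g⁻¹ •ᶜ D) (isPGroup_conj.2 hD) (fun e' => e ?_) ?_ ?_ ?_
  · rw [cent1_conj, ← conj_inv_conj g D, ← conj_inf, e', conj_bot]
  · rw [norm_conj, mem_conj]; simpa [mul_assoc] using hX hv
  · rw [← mem_conj, ← cent1_conj]
    exact cent_le_cent1 ha (Ab.le_cent (h.ab2 X h2) hv)
  · simpa using conj_sq (sq_of h h2 hv) g⁻¹

theorem le_O3 (hD : IsPGroup 3 D) (h0 : D ≠ ⊥) (hX : X ≤ 𝐍(D)) (hY : Y ≤ X) (ho : Odd ♯Y) :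
    Y ≤ O X := by
  obtain ⟨U, hU⟩ := exists_syl 2 X
  have h1 := cyclic_pdiv_normal_complement hU (cyc h h3 hD h0 (hU.le.trans hX) hU.isPGroup)
    fun _ e _ => e.two_le
  exact (h1.hall_left (Op'_piGrp 2 _) hU.piGrp.compl_compl).le_of_normal_hall h1.normal.norm hY
    (odd_iff.1 ho)

theorem le_OC (hz : IsPGroup 3 (zpowers z)) (z1 : z ≠ 1) (hY : Y ≤ 𝐂[z]) (ho : Odd ♯Y) :
    Y ≤ O 𝐂[z] :=
  le_O3 h h3 hz (zp_ne z1) (cent_zpowers z ▸ cent_le_norm _) hY ho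

theorem bal (hy : IsPGroup 3 (zpowers y)) (hz : IsPGroup 3 (zpowers z)) (z1 : z ≠ 1)
    (hc : y ∈ 𝐂[z]) : th y ⊓ 𝐂[z] ≤ th z := by
  refine le_trans (le_Opi ⟨le_inf (le_OC h h3 hz z1 inf_le_right (odd_of_le (odd_th y) inf_le_left))
    (inf_le_left.trans ((th_le y).trans (cent_zpowers y).ge)), le_norm_inf ?_ ?_⟩
    ((Op'_piGrp 3 _).inf_left _)) (p'core_cent_pgroup (R := zpowers y)
      (le_OC h h3 hz z1 (zpowers_le.2 hc) (odd3 hy)) hy (sol_of_odd (odd_O _)))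
  · exact inf_le_right.trans ((cent_zpowers y).le.trans (norm_th y))
  · exact inf_le_left.trans ((Opi_le _ _).trans (le_norm_self _))

theorem th_le_of (hy : IsPGroup 3 (zpowers y)) (hA : IsPGroup 3 A) (ha : Ab A) (hc : ¬ IsCyclic A)
    (hAy : A ≤ 𝐂[y]) (hX : ∀ a ∈ A, a ≠ 1 → th a ≤ X) : th y ≤ X :=
  coprime_abelian_gen_cent1 ha hc (hAy.trans (norm_th y))
    (coprime_of_isPGroup hA (Op'_piGrp 3 _)).symm fun a ha a1 =>
      (bal h h3 hy (hA.to_le (zpowers_le.2 ha)) a1 (mem_cent1_comm.1 (hAy ha))).trans (hX a ha a1)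

theorem th_inf (hy : y ∈ P) (y1 : y ≠ 1) : th y ⊓ 𝐂[t] = ⊥ := by
  have hP : P ≤ 𝐂[y] := (h.uni.cent y hy y1).ge.trans inf_le_right
  have hH : th y ⊓ 𝐂[t] ≤ H := fun a ha => mem_H h ha.2 (odd_of_mem (odd_th y) ha.1)
  have h0 : th y ⊓ 𝐂[t] ⊓ P = ⊥ :=
    (((Op'_piGrp 3 _).inf_left _).inf_eq_bot' (piGrp_singleton (P3 h)))
  refine le_bot_iff.1 (le_trans (le_inf le_rfl ((le_inf hH ?_).trans h.centP.le)) h0.le)
  rw [← OO.commutator_eq_bot_iff, ← le_bot_iff, ← h0]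
  have h1 := commutator_le_left' (le_norm_inf (hP.trans (norm_th y))
    (le_norm_of_le (h.uni.le.trans (h.le.trans (H_le h)))))
  exact le_inf h1 ((le_inf ((commutator_mono le_rfl h.uni.le).trans (commutator_le_right'
    (hH.trans h.norm))) (h1.trans (inf_le_left.trans (th_le y)))).trans (h.uni.cent y hy y1).le)

theorem not_cyc (hA : A ≤ P) (hc : IsCyclic (P ⁒ A)) : ¬ IsCyclic A := fun hc' => by
  have hn := le_norm_of_ab h.uni.elem.1 hA
  have h1 := PGrp.card_le_of_isCyclic_of_pow_eq_one (p := 3) (E := A) fun a =>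
    Subtype.ext (h.uni.elem.2 a (hA a.2))
  have h2 := PGrp.card_le_of_isCyclic_of_pow_eq_one (p := 3) (E := (P ⁒ A : Subgroup _)) fun a => by
    obtain ⟨b, hb, e⟩ := (mem_quo_of_le hn).1 a.2
    exact Subtype.ext (by
      rw [SubmonoidClass.coe_pow, ← e, ← coset_pow (hn hb), h.uni.elem.2 b hb, coset_one]; rfl)
  have h4 := card_mul_card_quo ⟨hA, hn⟩
  have h5 := Nat.mul_le_mul h1 h2
  have := num h
  rw [h4, h.uni.card] at h5
  omega

theorem th_P (hY : Y0 t W P T) (hy : y ∈ P) (y1 : y ≠ 1) : th y = ⊥ := by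
  have ht : ∀ a ∈ P, t ∈ 𝐍(th a) := fun a ha =>
    norm_th a (mem_cent1_comm.1 (H_le h (h.le (h.uni.le ha))))
  have hP : ∀ a ∈ P, P ≤ 𝐂[a] := fun a ha => (Ab.le_cent h.uni.elem.1).trans (cent_le_cent1 ha)
  have hz : ∀ a ∈ P, IsPGroup 3 (zpowers a) := fun a ha => (P3 h).to_le (zpowers_le.2 ha)
  have h1 : ∀ a ∈ P, ∀ b ∈ P, th a ≤ 𝐂(th b) := fun a ha b hb =>
    coprime_abelian_gen_cent h.uni.elem.1 ((hP a ha).trans (norm_th a))
      (coprime_of_isPGroup (P3 h) (Op'_piGrp 3 _)).symm fun B hB hc => le_cent_symm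
      (th_le_of h h3 (hz b hb) ((P3 h).to_le hB) (ab_of_le h.uni.elem.1 hB) (not_cyc h h3 hB hc)
        (hB.trans (hP b hb)) fun c hc c1 => le_cent_mono
          (ab_of_inf_eq_bot h.t2 (ht c (hB hc)) (th_inf h h3 (hB hc) c1)).le_cent le_rfl
          ((inf_le_inf_left _ (cent_le_cent1 hc)).trans
            (bal h h3 (hz a ha) (hz c (hB hc)) c1 (hP c (hB hc) ha))))
  obtain ⟨Y, hY'⟩ : ∃ Y, Y = sSup (th '' {a | a ∈ P ∧ a ≠ 1}) := ⟨_, rfl⟩
  have h2 : ∀ {X}, Y ≤ X ↔ ∀ a ∈ P, a ≠ 1 → th a ≤ X := by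
    simp only [hY', sSup_le_iff, Set.forall_mem_image, Set.mem_ofPred_eq, and_imp, implies_true]
  have h4 : Ab Y := ab_iff_le_cent.2 (h2.2 fun a ha _ => le_cent_symm (h2.2 fun b hb _ => h1 b hb a ha))
  have h5 : ∀ π, (∀ a, PiGrp π (th a)) → PiGrp π Y := fun π hπ => (Opi_piGrp π Y).of_le
    (h2.2 fun a ha a1 => le_Opi (normalIn_of_ab h4 (h2.1 le_rfl a ha a1)) (hπ a))
  have h6 := odd_iff.2 (h5 _ fun a => odd_iff.1 (odd_th a))
  have h7 : 𝐍(P) ≤ 𝐍(Y) := hY' ▸ le_norm_sSup (by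
    rintro g hg _ ⟨a, ha, rfl⟩
    exact ⟨_, ⟨conj_mem_of_norm hg ha.1, conj_ne_one.2 ha.2⟩, th_conj g a⟩)
  have h8 : t ∈ 𝐍(P) := cent_le_norm _ (le_cent1_iff.1 (h.uni.le.trans (h.le.trans (H_le h))))
  refine le_bot_iff.1 ((h2.1 le_rfl y hy y1).trans (hY Y h6
    ((piGrp_compl_singleton Nat.prime_three).1 (h5 _ fun a => Op'_piGrp 3 _)) ?_ (le_trans (sup_le
      (sup_le (sup_le (zpowers_le.2 h8) (le_norm_self _)) h.TP) h.WP) h7)).le)
  have h9 : Y ≤ ⁅Y, zpowers t⁆ := h2.2 fun a ha a1 => by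
    rw [← commutator_eq_of_inf_eq_bot h.t2 (ht a ha) (odd_th a) (th_inf h h3 ha a1)]
    exact commutator_mono (h2.1 le_rfl a ha a1) le_rfl
  rw [← le_bot_iff, ← coprime_abel_cent_TI (zpowers_le.2 (h7 h8)) (coprime_zp h6 h.t2) h4, cent_zpowers]
  exact inf_le_inf_right _ h9

omit h3 in
theorem K_le : zpowers t ⊔ T ⊔ W ≤ 𝐂[t] :=
  sup_le (sup_le (zpowers_le.2 (mem_cent1_self t)) (h.tor.le.trans (h.le.trans (H_le h))))
    ((sdp h).right_le.trans (H_le h))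

omit h3 in
theorem card_tT : ♯(zpowers t ⊔ T : Subgroup G) = 2 * r := by
  have h1 := num h
  have h2 : ♯T = r := h.tor.card.trans (by omega)
  rw [card_sup_of_inf_eq_bot (.inr (le_norm_of_le_cent ((h.tor.le.trans (h.le.trans (H_le h))).trans
    (cent_zpowers t).ge))) (inf_eq_bot_of_coprime_card (coprime_zp (h2 ▸ h.par.1) h.t2).symm),
    Nat.card_zpowers, orderOf_eq_two h.t2 h.t1, h2]

omit h3 in
theorem card_K : ♯(zpowers t ⊔ T ⊔ W : Subgroup G) = 2 * r * ♯W := by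
  have hW := (sdp h).right_le
  rw [card_sup_of_inf_eq_bot (.inr (le_norm_sup (le_norm_of_le_cent ((hW.trans (H_le h)).trans
    (cent_zpowers t).ge)) h.WT)), card_tT h]
  refine le_bot_iff.1 fun g hg => h.inf.le ⟨?_, hg.2⟩
  obtain ⟨a, ha, b, hb, rfl⟩ := (mem_sup_norm_left (le_norm_of_le_cent
    ((h.tor.le.trans (h.le.trans (H_le h))).trans (cent_zpowers t).ge))).1 hg.1
  rcases (mem_zp h.t2).1 ha with rfl | rfl
  · exact mul_mem (one_mem _) (h.tor.le hb)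
  · exact absurd ((mul_mem_cancel_right (h.le (h.tor.le hb))).1 (hW hg.2)) h.tH

omit h3
variable (hB : Bor t W P T Q)
include hB

theorem P_le : P ≤ Q := hB.inf.ge.trans inf_le_left

theorem Q_ne : Q ≠ ⊥ := fun e => by
  have h1 := card_le (P_le h hB)
  have := num h
  rw [e, card_bot, h.uni.card] at h1
  omega

theorem K3 : PiGrp ({3} : Set ℕ)ᶜ (zpowers t ⊔ T ⊔ W : Subgroup G) := by
  rw [piGrp_compl_singleton Nat.prime_three, card_K h, Nat.prime_three.dvd_mul]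
  have := num h
  have := hB.three
  omega

theorem sdpN : IsSdprod Q (zpowers t ⊔ T ⊔ W) 𝐍(Q) :=
  hB.norm ▸ IsSdprod.of_sup (le_sup_right.trans hB.norm.ge) (hB.syl.piGrp.inf_eq_bot (K3 h hB))

variable (hx : x ∈ T) (hp : (orderOf x).Prime) (hC : 𝐂[x] ≤ zpowers t ⊔ T) (hY : Y0 t W P T)
include hx hp hC hY

theorem th_Q (hy : y ∈ Q) : th y = ⊥ := by
  have hQ := hB.syl.isPGroup
  have hZ : IsPGroup 3 (Zc Q) := hQ.to_le (Zc_le _)
  refine le_bot_iff.1 (th_le_of h hB.three (hQ.to_le (zpowers_le.2 hy)) hZ (Zc_ab _) (fun hc => ?_)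
    ((Zc_le_cent _).trans (cent_le_cent1 hy)) fun a ha _ => th_le_of h hB.three
      (hZ.to_le (zpowers_le.2 ha)) (P3 h) h.uni.elem.1 (fun hc => ?_)
      ((P_le h hB).trans (le_cent1_iff.2 (Zc_le_cent _ ha))) fun b hb b1 => (th_P h hB.three hY hb b1).le)
  · obtain ⟨z, hz, z3⟩ := cauchy Nat.prime_three (dvd_card_of_isPGroup hZ (Zc_ne_bot hB.syl.nil (Q_ne h hB)))
    have h1 : ♯(zpowers z) = 3 := by rw [Nat.card_zpowers, z3]
    have h2 : x ∈ 𝐍(zpowers z) := norm_le_norm_of_isCyclic hc (zpowers_le.2 hz) (norm_le_norm_Zc _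
      ((sdpN h hB).right_le (mem_sup_left (mem_sup_right hx))))
    have := Fact.mk hp
    have h4 := card_modEq_one_of_fpf (isP_zp rfl) h2
      (le_bot_iff.1 ((inf_le_inf (zpowers_le.2 (Zc_le _ hz)) (hC.trans le_sup_left)).trans
        (sdpN h hB).inf_eq.le))
    have h5 : Odd (orderOf x) := odd_of_mem (by
      have := num h
      rw [h.tor.card, show (q - 1) / 2 = r by omega]; exact h.par.1) hx
    rw [h1] at h4
    rw [(Nat.prime_dvd_prime_iff_eq hp Nat.prime_two).1 ((Nat.modEq_iff_dvd' (by decide)).1 h4.symm)] at h5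
    exact absurd h5 (by decide)
  · have h1 := PGrp.card_le_of_isCyclic_of_pow_eq_one (p := 3) (E := P) fun a =>
      Subtype.ext (h.uni.elem.2 a a.2)
    have := num h
    rw [h.uni.card] at h1
    omega

theorem norm_le (hD : D ≤ Q) (h0 : D ≠ ⊥) : 𝐍(D) ≤ 𝐍(Q) := by
  have hQ := hB.syl.isPGroup
  induction' hn : ♯Q - ♯(Q ⊓ 𝐍(D) : Subgroup G) using Nat.strong_induction_on with n ih generalizing D
  obtain ⟨R, hR⟩ : ∃ R, R = Q ⊓ 𝐍(D) := ⟨_, rfl⟩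
  have hRQ : R ≤ Q := hR ▸ inf_le_left
  have hDR : D ≤ R := hR ▸ le_inf hD (le_norm_self _)
  have hR3 := hQ.to_le hRQ
  have hD3 := hQ.to_le hD
  have h1 : 𝐍(Zc (puig R)) ≤ 𝐍(Q) := by
    rcases hRQ.eq_or_lt with e | e
    · exact e ▸ hB.zl
    refine ih _ ?_ (((Zc_le _).trans (puig_le _)).trans hRQ)
      (fun e' => h0 (le_bot_iff.1 (hDR.trans (trivg_center_Puig_pgroup hR3 e').le))) rfl
    have h2 := card_lt ((lt_inf_norm_of_nil hB.syl.nil e).trans_le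
      (inf_le_inf_left _ (norm_le_norm_center_puig R)))
    have h4 := card_le (inf_le_left : Q ⊓ 𝐍(Zc (puig R)) ≤ Q)
    rw [← hR] at hn
    omega
  have h2 : Syl 3 R 𝐍(D) := syl_of_max (hR ▸ inf_le_right) hR3 fun U h4 h5 h6 =>
    (eq_of_nil_of_inf_norm_le (nil_of_isPGroup h6) h4 (hR ▸ le_inf (hB.syl.le_of_norm le_top
      h6.to_inf_left (.inr (inf_le_right.trans ((norm_le_norm_center_puig _).trans (hR ▸ h1)))))
        (inf_le_left.trans h5))).symm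
  have h4 := le_O3 h hB.three hD3 h0 le_rfl h2.le (odd3 hR3)
  have h5 := h2.mono h4 (Opi_le _ _)
  have h6 : Op' 3 (O 𝐍(D)) = ⊥ := by
    obtain ⟨y, hy, y1⟩ := exists_mem_ne_one (Zc_ne_bot (nil_of_isPGroup hD3) h0)
    have hz : IsPGroup 3 (zpowers y) := hD3.to_le (zpowers_le.2 (Zc_le _ hy))
    have h7 : Op' 3 (O 𝐍(D)) ≤ 𝐂(D) := Opi_le_cent_of_normal
      ⟨hDR.trans h4, Opi_le _ _⟩ (piGrp_singleton hD3).compl_compl
    rw [← le_bot_iff, ← th_Q h hB hx hp hC hY (hD (Zc_le _ hy))]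
    refine le_trans (le_Opi ⟨le_inf (le_OC h hB.three hz y1 (h7.trans (cent_le_cent1 (Zc_le _ hy)))
      (odd_of_le (odd_O _) (Opi_le _ _))) (h7.trans (cent_le_norm _)), inf_le_right.trans
        (le_norm_Opi _ (le_norm_Opi _ (le_norm_self _)))⟩ (Op'_piGrp 3 _))
      (Pf.B7.op'_norm_le (sol_of_odd (odd_O _)) (le_OC h hB.three hz y1 (le_cent1_iff.2 (Zc_le_cent _ hy))
        (odd3 hD3)) hD3)
  rw [← (h5.frattini (Opi_normal _ _)).sup_eq]
  exact (sup_le (Puig_center_normal (odd_O _) (sol_of_odd (odd_O _)) h5 h6).norm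
    (inf_le_right.trans (norm_le_norm_center_puig _))).trans h1

theorem ti : TI Q := fun g hg => by
  have h1 : 𝐍(Q ⊓ g •ᶜ Q) ≤ 𝐍(Q) := norm_le h hB hx hp hC hY inf_le_left hg
  have h2 := hB.syl.conj_of_mem (mem_top g)
  have h4 := eq_of_nil_of_inf_norm_le h2.nil inf_le_right (le_inf (hB.syl.le_of_norm le_top
    h2.isPGroup.to_inf_left (.inr (inf_le_right.trans h1))) inf_le_left)
  exact mem_norm_of_conj_le (inf_eq_right.1 h4)

omit hx hp hC hY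

omit hB in
theorem mem_tT (hy : y ∈ zpowers t ⊔ T ⊔ W) (v2 : v * v = 1) (hv : v * y * v⁻¹ = y⁻¹) :
    y ∈ zpowers t ⊔ T := by
  have h1 : T ⊔ W ≤ H := sup_le (h.tor.le.trans h.le) (sdp h).right_le
  rw [sup_assoc] at hy
  obtain ⟨a, ha, c, hc, rfl⟩ := (mem_sup_norm_left (le_norm_of_le_cent
    ((h1.trans (H_le h)).trans (cent_zpowers t).ge))).1 hy
  have h2 : Odd (orderOf c) := odd_of_mem (Odd.of_dvd_nat (by
    have := num h
    rw [h.tor.card, show (q - 1) / 2 = r by omega]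
    exact h.par.1.mul h.oddW) (card_sup_dvd (.inr h.WT))) hc
  have h4 : (a * c) ^ 2 = c ^ 2 := by
    have : Commute a c := ((cent_zpowers t).ge (H_le h (h1 hc))) a ha
    rcases (mem_zp h.t2).1 ha with rfl | rfl
    · rw [one_mul]
    · rw [this.mul_pow, pow_two, h.t2, one_mul]
  have h5 := nr h (pow_mem (h1 hc) 2) (Odd.of_dvd_nat h2 (orderOf_pow_dvd 2)) v2
    (by rw [← h4, ← conj_pow, hv, inv_pow])
  have h6 : c ∈ (T ⊔ W) ⊓ L :=
    ⟨hc, zpowers_le.2 h5 (mem_zpowers_pow_iff.2 (Nat.coprime_two_left.2 h2))⟩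
  rw [sup_inf_of_le_left (.inr h.WT) h.tor.le, inf_comm, h.inf, sup_bot_eq] at h6
  exact mul_mem (mem_sup_left ha) (mem_sup_right h6)

theorem exists_conj (hv : v ∈ 𝐍(Q)) (v1 : v ≠ 1) (v2 : v * v = 1) : ∃ g ∈ 𝐍(Q), g * t * g⁻¹ = v := by
  obtain ⟨U, hU, h1⟩ := exists_syl_ge (M := 𝐍(Q))
    (le_sup_left.trans (le_sup_left.trans (sdpN h hB).right_le)) (isP_inv h.t2)
  have := cyc h hB.three hB.syl.isPGroup (Q_ne h hB) hU.le hU.isPGroup
  have h2 := PGrp.card_le_of_isCyclic_of_pow_eq_one (p := 2) (E := U) fun a =>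
    Subtype.ext ((pow_two a.1).trans (sq_of h hU.isPGroup a.2))
  obtain rfl := eq_of_le_of_card_le h1 (by rwa [Nat.card_zpowers, orderOf_eq_two h.t2 h.t1])
  obtain ⟨g, hg, e⟩ := hU.exists_conj_le (zpowers_le.2 hv) (isP_inv v2)
  refine ⟨g⁻¹, inv_mem hg, ?_⟩
  rw [← ((mem_zp h.t2).1 (e (conj_mem_conj (mem_zpowers v)))).resolve_left (conj_ne_one.2 v1)]
  group

theorem fibre (hT : TI Q) (hv : v ∉ 𝐍(Q)) (v2 : v * v = 1) {B : Set G}
    (hA : ∀ a ∈ B, a * a = 1 ∧ v⁻¹ * a ∈ 𝐍(Q)) : B.ncard ≤ 2 * r := by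
  obtain ⟨g, -, e⟩ := (sdpN h hB).exists_le_conj (L := 𝐍(Q) ⊓ v •ᶜ 𝐍(Q))
    (coprime_of_isPGroup hB.syl.isPGroup (K3 h hB)) inf_le_left
    (coprime_of_isPGroup hB.syl.isPGroup ((piGrp_compl_singleton Nat.prime_three).2 fun e => by
      obtain ⟨y, hy, y3⟩ := cauchy Nat.prime_three e
      have h1 := isPGroup_zpowers_iff.1 (isP_zp y3)
      refine hv (hT v fun e' => ne_one_of_prime (y3 ▸ Nat.prime_three) (mem_bot.1 (e'.le
        ⟨hB.syl.mem_of_mem_norm trivial hy.1 h1, (hB.syl.conj_of_mem (mem_top v)).mem_of_mem_norm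
          trivial (norm_conj v Q ▸ hy.2) h1⟩))))) (.inl hB.syl.sol)
  rw [← card_tT h, ← SetLike.coe_sort_coe, Nat.card_coe_set_eq]
  refine Set.ncard_le_ncard_of_injOn (fun a => g⁻¹ * (v⁻¹ * a) * g) (fun a ha => ?_)
    fun a _ b _ e => by simpa using e
  obtain ⟨a2, h1⟩ := hA a ha
  have h2 : v⁻¹ * (v⁻¹ * a) * v = (v⁻¹ * a)⁻¹ := by
    rw [inv_eq v2, ← mul_assoc, v2, one_mul, mul_inv_rev, inv_eq v2, inv_eq a2]
  refine mem_tT h (mem_conj.1 (e ⟨h1, mem_conj.2 (h2 ▸ inv_mem h1)⟩)) (v := g⁻¹ * v⁻¹ * g)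
    (by simpa [inv_eq v2] using conj_sq v2 g⁻¹) ?_
  calc _ = g⁻¹ * (v⁻¹ * (v⁻¹ * a) * v) * g := by group
    _ = _ := by rw [h2]; group

theorem count (hT : TI Q) (hq : q ^ 3 ≤ ♯Q) : ♯Q = q ^ 3 ∧ 𝐍(Q).index = q ^ 3 + 1 := by
  obtain ⟨n1, n2, n3, -⟩ := num h
  have h1 := Set.ncard_le_ncard_sdiff_add_ncard ((fun x => x * t * x⁻¹) '' (⊤ : Subgroup G))
    (t := (fun x => x * t * x⁻¹) '' 𝐍(Q))
  have h0 : ∀ a ∈ (fun x => x * t * x⁻¹) '' (⊤ : Subgroup G) \ (fun x => x * t * x⁻¹) '' 𝐍(Q),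
      a * a = 1 ∧ a ∉ 𝐍(Q) := by
    rintro _ ⟨⟨g, -, rfl⟩, hg⟩
    exact ⟨conj_sq h.t2 g, fun e => hg (exists_conj h hB e (conj_ne_one.2 h.t1) (conj_sq h.t2 g))⟩
  have h2 := Core.InvOdd.ncard_le_mul (fun a : G => (a : G ⧸ 𝐍(Q))) (t := {((1 : G) : G ⧸ 𝐍(Q))}ᶜ)
    (Set.toFinite _) (Set.toFinite _) (fun a ha e => (h0 a ha).2 (by
      simpa using QuotientGroup.eq.1 e)) (2 * r) fun b _ => by
      rcases Set.eq_empty_or_nonempty {a | a ∈ (fun x => x * t * x⁻¹) '' (⊤ : Subgroup G) \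
        (fun x => x * t * x⁻¹) '' 𝐍(Q) ∧ (a : G ⧸ 𝐍(Q)) = b} with e | ⟨v, hv⟩
      · rw [e, Set.ncard_empty]; exact Nat.zero_le _
      · exact fibre h hB hT (h0 v hv.1).2 (h0 v hv.1).1 fun a ha =>
          ⟨(h0 a ha.1).1, QuotientGroup.eq.1 (hv.2.trans ha.2.symm)⟩
  obtain ⟨m, hm⟩ := SE.dvd_ncard_of_free (E := Q) (S := {((1 : G) : G ⧸ 𝐍(Q))}ᶜ) (fun a ha w hw e => by
    induction w using QuotientGroup.induction_on with | H g =>
    have := (QuotientGroup.eq (a := a * g) (b := 1)).1 e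
    rw [mul_one, inv_mem_iff, mul_mem_cancel_left (le_norm_self _ ha)] at this
    exact hw (QuotientGroup.eq.2 (by simpa using this))) fun a ha w hw e => by
    induction w using QuotientGroup.induction_on with | H g =>
    have h3 : a⁻¹ ∈ g •ᶜ 𝐍(Q) := mem_conj.2 (by
      simpa [mul_assoc] using (QuotientGroup.eq (a := a * g) (b := g)).1 e)
    by_contra a1
    exact hw (QuotientGroup.eq.2 (by simpa using hT g fun e' => a1 (mem_bot.1 (e'.le ⟨ha,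
      (hB.syl.conj_of_mem (mem_top g)).mem_of_mem_norm trivial (norm_conj g Q ▸ inv_mem_iff.1 h3)
      (hB.syl.piGrp.piElt ha)⟩))))
  have h3 : ({((1 : G) : G ⧸ 𝐍(Q))}ᶜ : Set _).ncard = 𝐍(Q).index - 1 := by
    rw [Set.ncard_compl, Set.ncard_singleton]; rfl
  have h4 : 𝐍(Q).index ≠ 1 := fun e => by
    have := h.simple
    refine (normalizer_eq_top_iff.1 (index_eq_one.1 e)).eq_bot_or_eq_top.elim (Q_ne h hB) fun e' => ?_
    exact h.t1 (eq_one_of_odd_of_sq (odd_of_mem (odd3 hB.syl.isPGroup) (e'.ge trivial)) h.t2)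
  have h5 : 𝐂[t].relIndex 𝐍(Q) * q = ♯Q := by
    rw [← h.uni.card, ← hB.inf, inf_comm, mul_comm, ← card_inf_mul_relIndex 𝐂[t] Q, hB.norm, sup_comm,
      relIndex_sup_of_le (K_le h) (sdpN h hB).right_le]
  have h6 : H.relIndex 𝐂[t] = 2 := relIndex_eq_two_iff.2 ⟨t, mem_cent1_self t, fun b hb =>
    ((h.cent b).1 hb).elim (fun e => .inr ⟨e, fun e' => h.tH ((mul_mem_cancel_left e).1 e')⟩)
      fun e => .inl ⟨e, fun e' => h.tH ((mul_mem_cancel_left e').1 e)⟩⟩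
  have h7 := card_mul_relIndex (H_le h)
  have h8 := 𝐂[t].card_mul_index.trans 𝐍(Q).card_mul_index.symm
  rw [← h7, h6, ← (sdp h).card, h.card, ← (sdpN h hB).card, card_K h] at h8
  rw [ncard_conj, ncard_conj, relIndex_top_right] at h1
  have h9 := Nat.pos_of_ne_zero (index_ne_zero_of_finite (H := 𝐍(Q)))
  have h10 := card_pos' W
  rw [h3] at h2 hm
  exact arith n1 n2 (by omega) h10 hq h5 (h1.trans (Nat.add_le_add_right h2 _)) hm h9 h4 h8

end LBx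

theorem lb : LB.{u} := fun _ _ _ _ _ _ _ _ _ _ _ _ _ _ h _ hx hp hC hY hB =>
  ⟨LBx.ti h hB hx hp hC hY, LBx.count h hB (LBx.ti h hB hx hp hC hY)⟩

end Cfsg.Agent.JR
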