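import Cfsg.Agent.Lib.JR.Ind2
import Cfsg.Agent.Lib.JR.LF2
import Cfsg.Agent.Lib.JR.LA
import Cfsg.Agent.Lib.JR.LB
import Cfsg.Agent.Lib.JR.IV
import Cfsg.Agent.Lib.JR.KL
import Cfsg.Agent.Lib.JR.GZL

/-!
# Package IND: the cases
-/

set_option autoImplicit false
set_option linter.unusedSectionVars false

namespace Cfsg.Agent.JR.Ind

open Subgroup Cfsg.Agent.OO Cfsg.Agent.Coprime Cfsg.Agent.R1 Cfsg.Agent.GW
open scoped commutatorElement Pointwise MatrixGroups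

universe u

variable {G : Type u} [Group G] [Finite G] {D E H J L N P Q S T W : Subgroup G} {p q r k s : ℕ}
  {a b d g t u v w x y z ρ : G}

/-- the conclusion in the Ree case -/
def Ree (t : G) (H L : Subgroup G) (q : ℕ) : Prop := ∃ k : ℕ, 1 ≤ k ∧ q = 3 ^ (2 * k + 1) ∧
  ¬ 3 ∣ L.relIndex H ∧ ∃ Q : Subgroup G, Syl 3 Q ⊤ ∧ ♯Q = q ^ 3 ∧ t ∈ 𝐍(Q) ∧
    ⁅𝐍(Q), zpowers t⁆ ≤ Q ∧ TI Q ∧ 𝐍(Q).index = q ^ 3 + 1

theorem cent_le (h : Fr t H L W S P T 3 q r k) (hx : x ∈ T) (hp : (orderOf x).Prime)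
    (hW : ¬ orderOf x ∣ ♯W) (hc : H ⊓ 𝐂[x] = T) : 𝐂[x] ≤ zpowers t ⊔ T := fun g hg => by
  have h1 := iv kl G t H L W S P T q r k h x hx hp hW hc
  rcases (h.cent g).1 (h1 hg) with e | e
  · exact mem_sup_right (hc.le ⟨e, hg⟩)
  · exact (mul_mem_cancel_right (mem_sup_left (mem_zpowers t))).1 (mem_sup_right (hc.le
      ⟨e, mul_mem hg (mem_cent1_comm.1 (h.L_le (h.tor.le hx)))⟩))

theorem ree (h : Fr t H L W S P T 3 q r k) (hx : x ∈ T) (hp : (orderOf x).Prime)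
    (hc : 𝐂[x] ≤ zpowers t ⊔ T) (hY : Y0 t W P T) (hQ : ∀ Q, Bor t W P T Q → TI Q → q ^ 3 ≤ ♯Q) :
    Ree t H L q := by
  obtain ⟨Q, hB⟩ := la gzl G t H L W S P T q r k h x hx hp hc hY
  obtain ⟨h1, h2⟩ := lb G t H L W S P T Q q r k h x hx hp hc hY hB
  obtain ⟨f, ⟨j, rfl⟩, e⟩ := h.pow
  refine ⟨j, Nat.pos_of_ne_zero fun e' => ?_, e, h.relIndex ▸ hB.three, Q, hB.syl, (h2 (hQ Q hB h1)).1,
    hB.norm.ge (mem_sup_right (mem_sup_left (mem_sup_left (mem_zpowers t)))), ?_, h1,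
    (h2 (hQ Q hB h1)).2⟩
  · have := h.five
    simp [e, e'] at this
  have h3 : zpowers t ≤ 𝐍(Q) := (le_sup_of_le_right (le_sup_of_le_left le_sup_left)).trans hB.norm.ge
  conv_lhs => rw [hB.norm]
  refine commutator_sup_le hB.norm.ge (commutator_le_left' h3) ((OO.commutator_eq_bot_iff.2 ?_).trans_le bot_le)
  rw [cent_zpowers]
  exact sup_le (sup_le (zpowers_le.2 (mem_cent1_self t)) (h.tor.le.trans h.L_le)) (h.W_le.trans h.H_le)

theorem card_syl [hp : Fact p.Prime] {n m : ℕ} (h : Syl p P J) (e : ♯J = p ^ n * m) (hm : ¬ p ∣ m) :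
    ♯P = p ^ n := by
  rw [h.card_eq_partn]
  exact partn_eq_of_mul (isPiNum_singleton_pow hp.out n) ((isPiNum_compl_singleton hp.out).2 hm)
    (card_pos' J).ne' e.symm

theorem syl_sub (h : Syl p P J) : Syl p (P.subgroupOf J) ⊤ :=
  ⟨le_top, isPGroup_subgroupOf h.isPGroup J, by rw [relIndex_top_right]; exact h.not_dvd⟩

theorem der_eq (h : IsSimpleGroup J) (hn : ¬ Ab J) : der J = J := by
  rw [der_eq_map, show commutator J = ⊤ from (smp_top (G := J)).perfect fun e => hn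
    ⟨⟨fun a b => ab_iff.1 e a (mem_top a) b (mem_top b)⟩⟩, map_subtype_top]

namespace Cx

section three

variable (h : Cx t H L W S P T 3 q r k w s) (hx : x ∈ T) (hp : (orderOf x).Prime)
  (hH : H ⊓ 𝐂[x] = T) (hc : 𝐂[x] ≤ zpowers t ⊔ T)
include h hx hp hH hc

omit hc in
theorem frob : IsFrob (zpowers x ⊔ zpowers w) (zpowers x) (zpowers w) :=
  (semiregular_prime (h.cardZ ▸ h.hs) (inf_eq_bot_of_prime (by rwa [Nat.card_zpowers]) fun e =>
    h.wL (h.tor.le (hH.le ⟨h.W_le h.hw,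
      mem_cent1_comm.1 (cent_zpowers w ▸ e (mem_zpowers x))⟩)))).isFrob
    (h.ZW.trans (h.WT.trans (norm_le_norm_of_isCyclic h.tor.cyc (zpowers_le.2 hx))))
    (ne_bot_of_prime_dvd hp (Nat.card_zpowers x).symm.dvd) (ne_bot_of_prime_dvd h.hs h.cardZ.symm.dvd)

omit hp hc in
theorem Px : P ⊓ 𝐂[x] = ⊥ := eq_bot_iff.2 ((le_inf inf_le_left ((inf_le_inf_right _
  (h.uni.le.trans h.le)).trans hH.le)).trans (inf_eq_bot_of_coprime_card (La.copPT h.toFr)).le)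

omit hx hp hH in
theorem xt : 𝐂[x] ≤ 𝐂[t] :=
  hc.trans (sup_le (zpowers_le.2 (mem_cent1_self t)) (h.tor.le.trans h.L_le))

theorem y0 (hd : ∀ d ∈ 𝐂[w], Odd (orderOf d) → ¬ 3 ∣ orderOf d → t * d * t⁻¹ = d⁻¹ → d ∈ 𝐂(P) →
    d * d ∈ zpowers w) : Y0 t W P T := fun Y ho h3 ht hn => by
  have := Fact.mk Nat.prime_three
  have hx' := zpowers_le.2 hx
  have h1 : Y ⊓ 𝐂(zpowers x) = ⊥ := by
    rw [cent_zpowers]; exact eq_bot_iff.2 ((inf_le_inf_left _ (h.xt hc)).trans ht.le)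
  have n1 : zpowers x ≤ 𝐍(Y) := hx'.trans ((le_sup_of_le_left le_sup_right).trans hn)
  have n2 : P ≤ 𝐍(Y) := (le_sup_of_le_left (le_sup_of_le_left le_sup_right)).trans hn
  have n3 : zpowers w ≤ 𝐍(Y) := h.ZW.trans (le_sup_right.trans hn)
  have n4 : t ∈ 𝐍(Y) := hn (mem_sup_left (mem_sup_left (mem_sup_left (mem_zpowers t))))
  have hp' : (♯(zpowers x)).Prime := by rwa [Nat.card_zpowers]
  have c1 := regular_norm_coprime n1 (semiregular_prime hp' h1)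
  have f1 := (semiregular_prime hp' (cent_zpowers x ▸ h.Px hx hH)).isFrob (hx'.trans h.TP)
    (La.P_ne h.toFr) (ne_bot_of_prime_dvd hp' dvd_rfl)
  have h2 := (Frobenius_Wielandt_fixpoint f1 (sup_le n2 n1) (f1.sdprod.card ▸ Nat.Coprime.mul_right
    (coprime_of_isPGroup (La.pP h.toFr) ((piGrp_compl_singleton Nat.prime_three).2 h3)).symm c1)
    (sol_of_odd ho)).2.1 h1
  have h4 : Y ⊓ 𝐂(zpowers w) = ⊥ := eq_bot_iff.2 fun d hd' => by
    rw [cent_zpowers] at hd'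
    exact eq_one_of_odd_of_sq (odd_of_mem ho hd'.1) (mem_bot.1 (ht.le ⟨mul_mem hd'.1 hd'.1,
      h.H_le (h.ZH (hd d hd'.2 (odd_of_mem ho hd'.1) (fun e => h3 (e.trans (orderOf_dvd_card hd'.1)))
        (conj_eq_inv h.t2 n4 ht hd'.1) (le_cent_symm h2 hd'.1)))⟩))
  have f2 := h.frob hx hp hH
  have h5 := (Frobenius_Wielandt_fixpoint f2 (sup_le n1 n3) (f2.sdprod.card ▸ Nat.Coprime.mul_right c1
    (regular_norm_coprime n3 (semiregular_prime (h.cardZ ▸ h.hs) h4))) (sol_of_odd ho)).2.1 h4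
  exact eq_bot_iff.2 ((le_inf le_rfl (le_cent_symm h5)).trans h1.le)

theorem le_card {j : ℕ} (hq : q = (3 ^ j) ^ s) (hm : (3 ^ j) ^ 3 ∣ ♯𝐂[w]) (hB : Bor t W P T Q)
    (ti : TI Q) : q ^ 3 ≤ ♯Q := by
  have := Fact.mk Nat.prime_three
  have f2 := h.frob hx hp hH
  have hP : P ≤ Q := hB.inf.ge.trans inf_le_left
  have h1 := (Frobenius_Wielandt_fixpoint f2 (sup_le ((zpowers_le.2 hx).trans
    ((le_sup_of_le_right (le_sup_of_le_left le_sup_right)).trans hB.norm.ge))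
    (h.ZW.trans ((le_sup_of_le_right le_sup_right).trans hB.norm.ge)))
    (coprime_of_isPGroup hB.syl.isPGroup ((piGrp_compl_singleton Nat.prime_three).2 (by
      rw [← f2.sdprod.card, Nat.prime_three.dvd_mul, not_or]
      exact ⟨fun e => h.not_dvd_r (e.trans (La.cardT h.toFr ▸ card_dvd (zpowers_le.2 hx))),
        fun e => hB.three (e.trans (card_dvd h.ZW))⟩))) hB.syl.sol).2.2 (by
    rw [cent_zpowers]
    exact eq_bot_iff.2 ((le_inf ((inf_le_inf_left _ (h.xt hc)).trans hB.inf.le) inf_le_right).trans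
      (h.Px hx hH).le))
  obtain ⟨ρ, hρ, r1⟩ := h.exρ rfl
  obtain ⟨R, hR, h2⟩ := exists_syl_ge (inf_le_right : Q ⊓ 𝐂[w] ≤ _) (hB.syl.isPGroup.to_le inf_le_left)
  obtain ⟨g, -, hg⟩ := hB.syl.exists_le_conj' le_top hR.isPGroup
  rw [conj_eq_of_mem_norm (ti g fun e => r1 (mem_bot.1 (e.le ⟨hP hρ.1, hg (h2 ⟨hP hρ.1, h.NC hρ.2⟩)⟩)))]
    at hg
  have h3 : (3 ^ j) ^ 3 ≤ ♯(Q ⊓ 𝐂[w] : Subgroup G) := (Nat.le_of_dvd (card_pos' R) (by
    rw [hR.card_eq_partn]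
    exact dvd_partn (card_pos' _).ne' hm (((isPiNum_singleton_pow Nat.prime_three j).pow 3)))).trans
    (card_le (le_inf hg hR.le))
  rw [h1, cent_zpowers, h.cardZ, hq, ← pow_mul, mul_comm s, pow_mul]
  exact Nat.pow_le_pow_left h3 s

end three

variable (h : Cx t H L W S P T p q r k w s)
include h

theorem prime_case {l : ℕ} (hl : l.Prime) (hq : q = l ^ s) : p = l ∧ W = zpowers w := by
  obtain rfl : p = l := (Nat.prime_dvd_prime_iff_eq h.prime hl).1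
    (h.prime.dvd_of_dvd_pow (hq ▸ h.dvd_q))
  exact ⟨rfl, (eq_of_le_of_card_le h.ZW (h.cardZ ▸ Nat.le_of_dvd h.hs.pos (h.cardW s hq))).symm⟩

theorem X_trans {J : Subgroup (Coset (zpowers w))} (hJ : J.Normal) (hs : IsSimpleGroup J) (hn : ¬ Ab J)
    (hi : ∀ a, a * a = 1 → a ∈ J) (a : Coset (zpowers w)) (a1 : a ≠ 1) (a2 : a * a = 1) :
    ∃ g ∈ J, g * coset (zpowers w) t * g⁻¹ = a :=
  have := Fact.mk Nat.prime_two
  trans_normal le_normalizer_of_normal (h.X_syl.mono (fun a ha => hi a (h.X_sqS a ha)) le_top)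
    h.X_card h.X_sqS (coset_mem_quo _ h.tS) h.X_t1 h.X_trS (der_eq hs hn) (hi a a2) a1 a2

theorem X_prod {J : Subgroup (Coset (zpowers w))} (hJ : J.Normal) (hs : IsSimpleGroup J) (hn : ¬ Ab J)
    (hi : ∀ a, a * a = 1 → a ∈ J) : IsProd J 𝐂[coset (zpowers w) t] ⊤ :=
  IsProd.of_forall le_top le_top fun g _ => by
    obtain ⟨j, hj, e⟩ := h.X_trans hJ hs hn hi (g * coset (zpowers w) t * g⁻¹)
      (by simpa using h.X_t1) (conj_sq h.X_t2 g)
    exact ⟨j, hj, j⁻¹ * g, mem_cent1_iff_conj.2 (by rw [mul_cj, ← e]; group), by group⟩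

theorem X_conj' (a b : Coset (zpowers w)) (a1 : a ≠ 1) (a2 : a * a = 1) (b1 : b ≠ 1) (b2 : b * b = 1) :
    ∃ g, g * a * g⁻¹ = b := by
  obtain ⟨g, rfl⟩ := h.X_conj a a1 a2
  obtain ⟨g', rfl⟩ := h.X_conj b b1 b2
  exact ⟨g' * g⁻¹, by group⟩

section flat

variable (hW : W = zpowers w)
include hW

theorem X_cN : ♯𝐍(S ⁒ zpowers w) = 168 := by
  have := card_mul_card_quo (⟨h.ZW.trans (h.W_le_centS.trans (cent_le_norm S)), h.nrm' h.NC⟩ :
    zpowers w ⊴ 𝐍(S))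
  rw [h.card_normS, ← h.X_normS, hW, mul_comm] at this
  exact Nat.eq_of_mul_eq_mul_right (card_pos' _) this

theorem X_cc (a : Coset (zpowers w)) (a1 : a ≠ 1) (a2 : a * a = 1) :
    ♯𝐂[a] = 2 * ♯(L ⊓ 𝐂[w] : Subgroup G) := by
  have := h.X_card_cent a a1 a2
  rw [hW, h.cardZ, ← mul_assoc, mul_comm] at this
  exact Nat.eq_of_mul_eq_mul_right h.hs.pos this

theorem X_seven (h7 : ¬ 7 ∣ ♯(L ⊓ 𝐂[w] : Subgroup G)) : ∃ (E : Subgroup (Coset (zpowers w)))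
    (z : Coset (zpowers w)), ♯E = 7 ∧ z ∈ 𝐍(E) ∧ z ∉ 𝐂(E) ∧ orderOf z = 3 :=
  seven h.X_card h.X_sqS (h.X_cN hW) (by
    rw [← quo_cent (h.nrm' h.SC) h.cop (.inr (sol_of_ab h.abS)), h.centS, hW, quo_sup_self (h.nrm' h.SC)])
    fun u u1 u2 => by rw [h.X_cc hW u u1 u2]; omega

theorem small (h12 : ♯(L ⊓ 𝐂[w] : Subgroup G) = 12) :
    Nat.card (Coset (zpowers w)) = 168 ∧ 𝐂[w] ≤ 𝐍(S) ∨ Nat.card (Coset (zpowers w)) = 1512 := by
  have := Fact.mk Nat.prime_two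
  have h1 : 𝐂[w] ⊓ 𝐂[t] ≤ 𝐍(S) := by
    have h1 := card_inf_mul_relIndex 𝐂[t] 𝐍(S)
    rw [relIndex_seven h.cardS h.tS h.t1 h.trS, h.card_normS] at h1
    exact (eq_of_le_of_card_le (le_inf (inf_le_right.trans h.NC) inf_le_left : 𝐂[t] ⊓ 𝐍(S) ≤ _)
      (by rw [h.card_CC, h12]; omega)).ge.trans inf_le_right
  have hO := h.X_odd fun N hN ho => hW ▸ h.le_W (le_cent_of_coprime
    ((inf_le_inf_right _ hN.le).trans h1) (le_norm_inf (h.SC.trans hN.norm) (le_norm_of_le h.S_le))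
    (coprime_of_isPGroup h.syl.isPGroup (odd_iff.1 (odd_of_le ho inf_le_left))).symm)
    (odd_of_le ho inf_le_left)
  have hS := h.X_syl
  rcases SE.sol_or_simple h.X_ab2 hO h.X_conj' with hs | ⟨J, hJ, hs, hn, hi⟩
  · have h2 : S ⁒ zpowers w = Op 2 ⊤ := le_antisymm ((le_inf le_top ((ab_of_sq h.X_sqS).le_cent.trans
      (cent_anti (Op_le_syl hS)))).trans (cent_Op_le_of_Op'_eq_bot inferInstance
        (hO _ (normalIn_top.1 (Opi_normal _ _)) (odd_O _)))) (Op_le_syl hS)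
    have h3 : 𝐍(S ⁒ zpowers w) = ⊤ := top_le_iff.1 (h2 ▸ (Op_normal 2 ⊤).norm)
    refine .inl ⟨by rw [← h.X_cN hW, h3, card_top], ?_⟩
    rw [← quo_le_quo_iff (h.nrm' le_rfl) (h.ZW.trans (h.W_le_centS.trans (cent_le_norm S))),
      ← h.X_normS, h3]
    exact le_top
  have hSJ : S ⁒ zpowers w ≤ J := fun a ha => hi a (h.X_sqS a ha)
  have h2 : ∀ a ∈ S ⁒ zpowers w, a ≠ 1 → 𝐂[a] ≤ 𝐍(S ⁒ zpowers w) := fun a ha a1 => by
    obtain ⟨g, hg, rfl⟩ := h.X_trS a ha a1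
    rw [cent1_conj, h.X_cent]
    exact conj_le_of_mem hg (h.X_normS ▸ quo_mono _ h1)
  have h3 : ♯J = 504 := t3 J ((S ⁒ zpowers w).subgroupOf J) hs
    (fun e => hn (ab_iff.2 fun a ha b hb => congrArg Subtype.val (e.1.1 ⟨a, ha⟩ ⟨b, hb⟩)))
    (syl_sub (hS.mono hSJ le_top)) ((Core.card_subgroupOf_of_le hSJ).trans h.X_card)
    (fun a ha => Subtype.ext (h.X_sqS _ ha)) fun a ha a1 => by
      have a1' : (a : Coset (zpowers w)) ≠ 1 := fun e => a1 (Subtype.ext e)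
      have h4 : 𝐂[a] ≤ 𝐂[(a : Coset (zpowers w))].subgroupOf J := fun g hg =>
        mem_cent1.2 (congrArg Subtype.val (mem_cent1.1 hg))
      refine ⟨fun g hg => ?_, (card_dvd h4).trans ((card_subgroupOf_dvd _ _).trans ?_)⟩
      · rw [← subgroupOf_normalizer_eq hSJ]
        exact h2 a ha a1' (h4 hg)
      · rw [h.X_cc hW a a1' (h.X_sqS _ ha), h12]
  have h4 := (h.X_prod hJ hs hn hi).card
  have h5 := card_dvd (inf_le_right : J ⊓ 𝐂[coset (zpowers w) t] ≤ _)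
  have h6 := card_dvd (le_inf hSJ ((ab_of_sq h.X_sqS).le_cent.trans (cent_le_cent1
    (coset_mem_quo (zpowers w) h.tS))))
  rw [h.X_cc hW _ h.X_t1 h.X_t2, h12] at h4 h5
  rw [h3, card_top] at h4
  rw [h.X_card] at h6
  have h7 : ♯(J ⊓ 𝐂[coset (zpowers w) t] : Subgroup _) ≠ 24 := fun e => by
    obtain rfl : J = ⊤ := eq_of_le_of_card_le le_top (by rw [card_top]; rw [e] at h4; omega)
    have : IsSimpleGroup (Coset (zpowers w)) := topEquiv.symm.isSimpleGroup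
    have h8 := 𝐍(S ⁒ zpowers w).card_mul_index
    rw [h.X_cN hW, ← card_top, h3] at h8
    have h9 := SE.card_dvd_factorial this (Y := 𝐍(S ⁒ zpowers w)) fun e => by simp [e] at h8
    rw [← card_top, h3, show 𝐍(S ⁒ zpowers w).index = 3 by omega] at h9
    norm_num [Nat.factorial] at h9
  have := Nat.le_of_dvd (by norm_num) h5
  generalize ♯(J ⊓ 𝐂[coset (zpowers w) t] : Subgroup _) = n at *
  interval_cases n <;> omega

theorem small_y (h12 : ♯(L ⊓ 𝐂[w] : Subgroup G) = 12) (h3 : p = 3) (hd : d ∈ 𝐂[w])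
    (ho : Odd (orderOf d)) (d3 : ¬ 3 ∣ orderOf d) (e : t * d * t⁻¹ = d⁻¹) (hP : d ∈ 𝐂(P)) :
    d * d ∈ zpowers w := by
  have := Fact.mk Nat.prime_two
  rcases h.small hW h12 with ⟨-, h1⟩ | h1
  · have h2 : d * d ∈ S := by
      have := mul_mem (conj_mem_of_norm (h1 hd) h.tS) (inv_mem h.tS)
      rwa [show d * t * d⁻¹ * t⁻¹ = d * (t * d * t⁻¹)⁻¹ by group, e, inv_inv] at this
    rw [eq_one_of_odd_of_sq (ho.of_dvd_nat (by rw [← sq]; exact orderOf_pow_dvd 2)) (h.sq _ h2)]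
    exact one_mem _
  obtain ⟨E, z, h2, h4, h5, h6⟩ := h.X_seven hW (by omega)
  obtain ⟨ρ, hρ, r1⟩ := h.exρ h3
  have h7 := orderOf_coset_dvd (zpowers w) d
  have h8 : orderOf (coset (zpowers w) d) ∣ 7 := (show Nat.Coprime _ (2 ^ 3 * 3 ^ 3) from
    Nat.Coprime.mul_right (Nat.Coprime.pow_right _ (Nat.coprime_two_right.2 (ho.of_dvd_nat h7)))
      (Nat.Coprime.pow_right _ ((Nat.Prime.coprime_iff_not_dvd Nat.prime_three).2
        fun e => d3 (e.trans h7)).symm)).dvd_of_dvd_mul_left ((_root_.orderOf_dvd_natCard _).trans h1.dvd)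
  rcases (Nat.dvd_prime (by norm_num)).1 h8 with h9 | h9
  · have := (coset_eq_one_iff (h.nrm hd)).1 (orderOf_eq_one_iff.1 h9)
    exact mul_mem this this
  have hρ' := h.nrm (h.NC hρ.2)
  refine (c7 h1 h.X_sq (fun u u1 u2 => by rw [h.X_cc hW u u1 u2]; omega) h2 h4 h5 h6 h9 h.X_t1 h.X_t2
    (by rw [← coset_conj (h.nrm h.tC) (h.nrm hd), e, coset_inv]) (ρ := coset _ ρ)
    (fun e => r1 (h.LZ (h.uni.le hρ.1) ((coset_eq_one_iff hρ').1 e)))
    (by rw [← coset_pow hρ', ← h3, h.uni.elem.2 ρ hρ.1, coset_one])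
    (quo_cent1_le (h.nrm hd) (coset_mem_quo _ (le_cent1_iff.2 hP hρ.1)))).elim

theorem three (hq : q = 125) (hX : Nat.card (Coset (zpowers w)) = 175560) (hs : s = 3) : False := by
  have := Fact.mk Nat.prime_three
  obtain ⟨r3, k1⟩ : r = 63 ∧ k = 31 := by have := h.par.2.2; omega
  have hL : ♯L = 976500 := by rw [h.card, hq, r3, k1]
  have hb := bd_of (p := 3) (N := 𝐂[w]) (by rw [← h.card_X, hX, hs]; norm_num)
  obtain ⟨R, hR, hZ⟩ := exists_syl_ge h.ZH (isPGroup_of_card_prime_pow (p := 3) (n := 1) (h.cardZ.trans hs))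
  have h1 := hR.inf_normal h.normal
  obtain ⟨y, hy, ho⟩ := cauchy (H := L) Nat.prime_three (by omega)
  obtain ⟨U, hU, e | e | e⟩ := h.part y hy fun e => by simp [e] at ho
  · have := orderOf_dvd_card hU
    rw [e.card, ho, hq] at this
    norm_num at this
  swap
  · have := orderOf_dvd_card hU
    rw [e.card, ho, k1] at this
    norm_num at this
  obtain ⟨V, hV⟩ := exists_syl 3 U
  have c9 : ♯V = 3 ^ 2 := card_syl hV (m := 7) (by rw [e.card, r3]; rfl) (by norm_num)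
  obtain ⟨g, -, hg⟩ := (syl_of_card 2 (hV.le.trans e.le) c9 (by rw [hL]; norm_num)).exists_conj' h1
  obtain ⟨x, hx⟩ := exists_zpowers_eq (hg ▸ isCyclic_conj.2 (isCyclic_of_le' e.cyc hV.le))
  have c27 : ♯R = 27 := card_syl hR (n := 3) (m := 108500)
    (by rw [h.card_H, hL, hW, h.cardZ, hs]; rfl) (by norm_num)
  have h2 := Ohm1_extremal_odd hR.isPGroup (c27 ▸ by decide) (fun e => by
    have := hb R ((ab_of_isCyclic e).le_cent.trans (cent_le_cent1 (zpowers_le.1 hZ))) hR.isPGroup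
    rw [c27] at this
    norm_num at this) (hx.le (mem_zpowers x)).1 (by
      have := card_mul_relIndex (hx.le.trans inf_le_left)
      rw [c27, hx, hg, card_conj, c9, ← hg, ← hx] at this
      omega)
  have w3 : w ^ 3 = 1 := hs ▸ h.ord ▸ pow_orderOf_eq_one w
  refine h.wL (h.le_L_of_syl (syl_of_class hR.isPGroup hb (A := (Ohm 3 R : Set G) \ {1})
    (fun N _ hN g hg => ⟨conj_mem_of_norm (le_norm_Ohm 3 hN hg) (mem_Ohm (zpowers_le.1 hZ) w3),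
      by simpa using h.w1⟩) ?_) hR.le (zpowers_le.1 hZ))
  rw [Set.ncard_sdiff_singleton_of_mem (one_mem _), ← Nat.card_coe_set_eq, c27]
  exact h2.2.2 ▸ by norm_num

theorem five' (hq : q = 5 ^ 5) (hp : p = 5) (h60 : ♯(L ⊓ 𝐂[w] : Subgroup G) = 60)
    (hX : Nat.card (Coset (zpowers w)) = 175560) (hs : s = 5) : False := by
  have := Fact.mk Nat.prime_five
  subst hp
  have hb := bd_of (p := 5) (N := 𝐂[w]) (by rw [← h.card_X, hX, hs]; norm_num)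
  have hn := h.WP h.hw
  have h1 : IsSdprod P (zpowers w) (P ⊔ zpowers w) := IsSdprod.of_sup (zpowers_le.2 hn)
    (eq_bot_iff.2 fun x hx => h.LZ (h.uni.le hx.1) hx.2)
  have h2 : ♯(P ⊔ zpowers w : Subgroup G) = 5 ^ 6 := by rw [← h1.card, h.uni.card, h.cardZ, hq, hs]; rfl
  have h3 : P ⊔ zpowers w ≤ H := sup_le (h.uni.le.trans h.le) h.ZH
  have h4 : (P ⊔ zpowers w) ⊓ L ≤ P := by
    rw [sup_inf_of_le_left (.inr h1.le_norm) h.uni.le]
    exact sup_le le_rfl fun x hx => h.LZ hx.2 hx.1 ▸ one_mem _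
  have w5 : w ^ 5 = 1 := hs ▸ h.ord ▸ pow_orderOf_eq_one w
  have hw := h1.right_le (mem_zpowers w)
  refine h.wL (h.le_L_of_syl (syl_of_class (isPGroup_of_card_prime_pow h2) hb
    (A := (· * w) '' {y | y ∈ P ∧ (y * w) ^ 5 = 1}) (fun N _ hN g hg => ⟨g * w * g⁻¹ * w⁻¹, ⟨?_, ?_⟩,
      by simp⟩) ?_) h3 hw)
  · have h5 := conj_mem_of_norm (hN hg) hw
    have := conj_mem_of_norm hn (h4 ⟨Subgroup.mul_mem _ (inv_mem hw) h5, h.delta (h3 hw) (h3 h5)⟩)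
    rwa [mul_inv_cancel_left] at this
  · rw [inv_mul_cancel_right, conj_pow, w5]; group
  rw [Set.ncard_image_of_injective _ (mul_left_injective w), h2, pow_succ' 5 5, ← hq, ← h.uni.card]
  refine Nat.mul_lt_mul_of_pos_left (Set.ncard_lt_ncard (s := _) (t := (P : Set G))
    ⟨fun y hy => hy.1, fun e => ?_⟩) (by norm_num)
  have h5 := trace h.uni.elem hn w5 fun y hy => (e hy).2
  obtain ⟨j, hj⟩ := IsPGroup.iff_card.1 ((abelem_isPGroup h.uni.elem).to_le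
    (inf_le_left : P ⊓ 𝐂[w] ≤ P))
  have h6 := card_dvd (inf_le_inf_right 𝐂[w] h.uni.le)
  rw [h60, hj] at h6
  have h7 : j ≤ 1 := by_contra fun e => absurd ((pow_dvd_pow 5 (show 2 ≤ j by omega)).trans h6)
    (by norm_num)
  rw [h.uni.card, hq, hj, ← pow_mul, Nat.pow_le_pow_iff_right (by norm_num)] at h5
  omega

end flat

section big

variable {F : Type} [Field F] [Fintype F] (e : (L ⊓ 𝐂[w] : Subgroup G) ≃* PSL(2, F))
  (hf : W ⊓ 𝐂(L ⊓ 𝐂[w]) ≤ zpowers w) (h5 : 5 ≤ Fintype.card F)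
  (hm : Fintype.card F % 8 = 3 ∨ Fintype.card F % 8 = 5)
include e hf h5 hm

omit hf h5 hm in
theorem X_iso : Nonempty (((L ⊓ 𝐂[w]) ⁒ zpowers w : Subgroup _) ≃* PSL(2, F)) :=
  ⟨(quoEquivOfInf (h.nrm' inf_le_right) (eq_bot_iff.2 fun _ hx => h.LZ hx.2.1 hx.1)).symm.trans e⟩

theorem big : ∃ (J : Subgroup (Coset (zpowers w))) (ht : coset (zpowers w) t ∈ J), J.Normal ∧
    (L ⊓ 𝐂[w]) ⁒ zpowers w ≤ J ∧ IsProd J 𝐂[coset (zpowers w) t] ⊤ ∧
    JRs (⟨_, ht⟩ : J) (((H ⊓ 𝐂[w]) ⁒ zpowers w).subgroupOf J)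
      (((L ⊓ 𝐂[w]) ⁒ zpowers w).subgroupOf J) F := by
  obtain ⟨p0, r0, k0, l0⟩ := lf2 G _ F h5 hm ⟨e⟩
  obtain ⟨p1, r1, k1, l1⟩ := lf2 _ _ F h5 hm (h.X_iso e)
  have hO := h.X_odd fun N hN ho => by
    have h1 := odd_of_le ho (inf_le_left : N ⊓ 𝐂[t] ≤ N)
    have h2 : L ⊓ 𝐂[w] ≤ 𝐍(N ⊓ 𝐂[t]) := le_norm_inf (inf_le_right.trans hN.norm)
      (le_norm_of_le (inf_le_left.trans h.L_le))
    have h3 := le_cent_of_inf_eq_bot ((le_inf (h.half.le_of_odd inf_le_right h1)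
      (inf_le_left.trans hN.le)).trans h.sd.normal.norm) h2
      (inf_comm _ (N ⊓ 𝐂[t]) ▸ (l0.smp _ (normalIn_inf_of_norm h2)).resolve_right fun e => by
        have := odd_of_le h1 (e.ge.trans inf_le_right)
        rw [l0.card, Nat.odd_iff] at this
        rw [mul_assoc, mul_assoc] at this
        omega)
    exact (le_inf (h.le_W (h.le_centS inf_le_right h3) h1) h3).trans hf
  obtain ⟨J, hJ, hs, hn, hi⟩ := (SE.sol_or_simple h.X_ab2 hO h.X_conj').resolve_left fun e =>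
    (der_lt inferInstance l1.ne_bot).ne l1.perfect
  have hLJ : (L ⊓ 𝐂[w]) ⁒ zpowers w ≤ J := inf_eq_left.1
    ((l1.smp _ (normalIn_inf_of_norm le_normalizer_of_normal)).resolve_left fun e => by
      obtain ⟨a, ha, a1, a2⟩ := SE.exists_inv (H := (L ⊓ 𝐂[w]) ⁒ zpowers w)
        (by rw [l1.card, mul_assoc, mul_assoc]; omega)
      exact a1 (mem_bot.1 (e.le ⟨ha, hi a a2⟩)))
  have hN := h.sd.normal.quo (zpowers w)
  refine ⟨J, hi _ h.X_t2, hJ, hLJ, h.X_prod hJ hs hn hi, hs, fun e => h.X_t1 (congrArg Subtype.val e),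
    Subtype.ext h.X_t2, fun a a1 a2 => ?_, fun g => ?_, h.X_tH, subgroupOf_mono _ hN.le, ?_, ?_, ?_,
    h5, hm, (h.X_iso e).map (subgroupOfEquivOfLe hLJ).trans⟩
  · obtain ⟨g, hg, e⟩ := h.X_trans hJ hs hn hi a (fun e => a1 (Subtype.ext e)) (congrArg Subtype.val a2)
    exact (isConj_iff.2 ⟨⟨g, hg⟩, Subtype.ext e⟩).symm
  · exact Subtype.ext_iff.trans (mem_cent1.symm.trans (h.X_or g))
  · rw [← subgroupOf_normalizer_eq hLJ]
    exact subgroupOf_mono _ hN.norm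
  · rw [← inf_subgroupOf_right ((H ⊓ 𝐂[w]) ⁒ zpowers w), relIndex_subgroupOf inf_le_right]
    exact h.oddW.of_dvd_nat (((relIndex_dvd_of_le_norm inf_le_left hN.norm).trans
      (relIndex_quo_dvd h.sd.left_le (h.nrm' inf_le_right))).trans h.sd.relIndex_left.dvd)
  refine eq_bot_iff.2 fun g hg => ?_
  obtain ⟨y, hy, hn', e'⟩ := mem_quo.1 hg.1
  have h1 : y ∈ 𝐂(L ⊓ 𝐂[w]) := mem_cent_iff.2 fun l hl => by
    have h2 : (⟨_, hLJ (coset_mem_quo _ hl)⟩ : J) * g = g * ⟨_, hLJ (coset_mem_quo _ hl)⟩ :=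
      mem_cent_iff.1 hg.2 _ (coset_mem_quo _ hl)
    have h3 := congrArg Subtype.val h2
    rw [coe_mul, coe_mul, show (g : Coset (zpowers w)) = coset _ y from e'.symm] at h3
    exact commutatorElement_eq_one_iff_mul_comm.1 (h.LZ (h.normal.commutator_le
      (commutator_mem_commutator hl.1 hy.1)) ((coset_commute_iff (h.nrm hl.2) hn').1 h3))
  have h2 : H ⊓ 𝐂[w] ⊓ 𝐂(L ⊓ 𝐂[w]) ≤ W := h.le_W (h.le_centS (inf_le_left.trans
    (inf_le_left.trans h.H_le)) inf_le_right) (odd_of_forall fun a ha a2 => mem_bot.1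
      (((l0.smp _ (Zc_normal _)).resolve_right fun e => l0.not_ab (Zc_eq_self_iff.1 e)).le
        ⟨⟨h.mem_L ha.1.1 a2, ha.1.2⟩, ha.2⟩))
  exact Subtype.ext (e'.symm.trans (coset_eq_one (hf ⟨h2 ⟨hy, h1⟩, h1⟩)))

end big

end Cx

end Cfsg.Agent.JR.Ind
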