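import Cfsg.Agent.Lib.JR.KL

/-!
# Package KF: tools
-/

set_option autoImplicit false

namespace Cfsg.Agent.JR.KK

open Subgroup Cfsg.Agent.OO Cfsg.Agent.Coprime Cfsg.Agent.R1 Cfsg.Agent.GW
open scoped commutatorElement Pointwise

universe u

variable {G : Type u} [Group G] [Finite G] {L K N M J X Y Q : Subgroup G} {p q r k l : ℕ}
  {c g t u v w s x y z j ρ : G}

theorem sd (h : Gl G p q r k) (ht : t ∈ X) (t2 : t * t = 1)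
    (h1 : ∀ w ∈ X ⊓ 𝐂[t], w * w = 1 → w = 1 ∨ w = t) : IsSdprod (O X) (zpowers t) X := by
  have := Fact.mk Nat.prime_two
  refine cyclic_pdiv_normal_complement (syl_of_max (zpowers_le.2 ht) (isPGroup_zp t2)
    fun U h2 h3 h4 => le_antisymm (fun w hw => (mem_zp t2).2 (h1 w ⟨h3 hw, mem_cent1.2 (ab_iff.1
      (h.ab2 U h4) w hw t (h2 (mem_zpowers t)))⟩ (h.sq w ((piGrp_singleton h4).piElt hw)))) h2)
    inferInstance fun q hq _ => hq.two_le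

theorem le_O_of_sd (h : IsSdprod (O X) (zpowers t) X) (t2 : t * t = 1) (hQ : Q ≤ X) (ho : Odd ♯Q) :
    Q ≤ O X :=
  le_of_coprime_relIndex hQ (O_norm X) (h.relIndex_left ▸ coprime_zp ho t2)

theorem mem_Ld1 (h : Gl1 G p q r k) (u1 : u ≠ 1) (u2 : u * u = 1) (hx : x ∈ 𝐂[u])
    (ho : Odd (orderOf x)) : x ∈ Ld u := (h.full u u1 u2 x hx).elim id fun e => by
  have := mul_mem e e
  rw [(show Commute x u from mem_cent1.1 hx).symm.mul_mul_mul_comm, u2, mul_one] at this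
  exact mem_of_sq_mem ho this

/-- the centralizer of an element with an odd order centralizer in `L` -/
theorem sd_cent (h : Gl1 G p q r k) (t1 : t ≠ 1) (t2 : t * t = 1) (hy : y ∈ 𝐂[t])
    (hY : Ld t ⊓ 𝐂[y] = Y) (ho : Odd ♯Y) :
    (∀ Q ≤ 𝐂[y], Odd ♯Q → Q ≤ O 𝐂[y]) ∧ O 𝐂[y] ⊓ 𝐂[t] = Y := by
  have ht := mem_cent1_comm.1 hy
  have h1 := sd h.toGl ht t2 fun w hw w2 => (h.two t t1 t2 w hw.2 w2).imp
    (fun e => eq_one_of_odd_of_sq (odd_of_mem ho (hY ▸ ⟨e, hw.1⟩)) w2) fun e => by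
      have := eq_one_of_odd_of_sq (odd_of_mem ho (hY.le ⟨e, mul_mem hw.1 ht⟩)) (by
        rw [(show Commute w t from mem_cent1.1 hw.2).symm.mul_mul_mul_comm, w2, t2, mul_one])
      rw [mul_eq_one_iff_eq_inv.1 this, inv_eq t2]
  refine ⟨fun Q hQ => le_O_of_sd h1 t2 hQ, le_antisymm (fun w hw => hY ▸
    ⟨mem_Ld1 h t1 t2 hw.2 (odd_of_mem (odd_O _) hw.1), Opi_le _ _ hw.1⟩) (le_inf
      (le_O_of_sd h1 t2 (hY.ge.trans inf_le_right) ho) (hY.ge.trans (inf_le_left.trans (Ld_le t))))⟩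

theorem Cf.pm (f : Cf t K v k) (h : Gl1 G p q r k) (hc : c ∈ 𝐂[t] ⊓ 𝐂[v]) :
    (c ∈ K ∨ c * t ∈ K) ∨ (c * c = 1 ∧ ∀ y ∈ K, c * y * c⁻¹ = y⁻¹) := by
  have h1 : ∀ c ∈ Ld t ⊓ 𝐂[v], c ∉ K → c * c = 1 ∧ ∀ y ∈ K, c * y * c⁻¹ = y⁻¹ := fun c hc =>
    f.tor.inv c (tor_cent_inv f.tor f.vK f.v1 f.v2 ▸ hc)
  refine or_iff_not_imp_left.2 fun e => ?_
  rcases h.full t f.t1 f.t2 c hc.1 with e' | e'
  · exact h1 c ⟨e', hc.2⟩ fun e' => e (.inl e')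
  obtain ⟨e1, e2⟩ := h1 _ ⟨e', mul_mem hc.2 (mem_cent1_comm.1 (f.le f.vK))⟩ fun e' => e (.inr e')
  rw [(show Commute c t from mem_cent1.1 hc.1).symm.mul_mul_mul_comm, f.t2, mul_one] at e1
  refine ⟨e1, fun y hy => ?_⟩
  calc _ = c * (t * y * t⁻¹) * c⁻¹ := by rw [mem_cent1_iff_conj.1 (mem_cent1_comm.1 (f.le hy))]
    _ = _ := by rw [← e2 y hy]; group

theorem Cf.pm' (f : Cf t K v k) (h : Gl1 G p q r k) (hc : c ∈ 𝐂[t] ⊓ 𝐂[v]) (hy : y ∈ K) :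
    c * y * c⁻¹ = y ∨ c * y * c⁻¹ = y⁻¹ := by
  refine (f.pm h hc).imp (fun e => mem_cent1_iff_conj.1 ?_) fun e => e.2 y hy
  have h1 : K ≤ 𝐂[y] := le_cent1_iff.2 ((tor_ab f.tor).le_cent hy)
  exact e.elim (h1 ·) fun e => (mul_mem_cancel_right (mem_cent1_comm.1 (f.le hy))).1 (h1 e)

theorem Cf.mem_K (f : Cf t K v k) (h : Gl1 G p q r k) (hc : c ∈ 𝐂[t] ⊓ 𝐂[v])
    (ho : Odd (orderOf c)) : c ∈ K := by
  by_contra e
  exact e ((eq_one_of_odd_of_sq ho (f.tor.inv c (tor_cent_inv f.tor f.vK f.v1 f.v2 ▸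
    ⟨mem_Ld1 h f.t1 f.t2 hc.1 ho, hc.2⟩) e).1) ▸ one_mem _)

theorem Cf.norm_S4 (f : Cf t K v k) (h : Gl G p q r k) (ρt : ρ * t * ρ⁻¹ = v)
    (ρv : ρ * v * ρ⁻¹ = t * v) (hg : g ∈ 𝐍(S4 t v)) :
    ∃ w ∈ zpowers ρ, w⁻¹ * g ∈ 𝐂[t] ⊓ 𝐂[v] := by
  have hp := f.pair h
  have h0 : ρ ∈ 𝐍(S4 t v) := mem_norm_of_conj_le (by
    rw [conj_S4, ρt, ρv]; exact GW.S4_le.2 ⟨hp.s_mem, mul_mem hp.t_mem hp.s_mem⟩)
  have h1 : ∀ w ∈ zpowers ρ, w * t * w⁻¹ = g * t * g⁻¹ → w⁻¹ * g ∈ 𝐂[t] ⊓ 𝐂[v] := fun w hw e => by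
    have e1 : w⁻¹ * g ∈ 𝐂[t] := mem_cent1_iff_conj.2 (by
      calc _ = w⁻¹ * (g * t * g⁻¹) * w := by group
        _ = _ := by rw [← e]; group)
    refine ⟨e1, mem_cent1_iff_conj.2 ?_⟩
    have e2 := conj_mem_of_norm (Ld_norm t e1) (f.tor.le f.vK)
    rcases hp.mem_S4.1 (conj_mem_of_norm (mul_mem (inv_mem (zpowers_le.2 h0 hw)) hg) hp.s_mem)
      with e3 | e3 | e3 | e3
    · exact absurd e3 (conj_ne_one.2 f.v1)
    · exact absurd (e3 ▸ e2) (h.nmem t f.t1 f.t2)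
    · exact e3
    · exact absurd ((mul_mem_cancel_right (f.tor.le f.vK)).1 (e3 ▸ e2)) (h.nmem t f.t1 f.t2)
  rcases hp.mem_S4.1 (conj_mem_of_norm hg hp.t_mem) with e | e | e | e
  · exact absurd e (conj_ne_one.2 f.t1)
  · exact ⟨1, one_mem _, h1 1 (one_mem _) (by rw [e]; group)⟩
  · exact ⟨ρ, mem_zpowers ρ, h1 ρ (mem_zpowers ρ) (ρt.trans e.symm)⟩
  · refine ⟨_, mul_mem (mem_zpowers ρ) (mem_zpowers ρ), h1 _ (mul_mem (mem_zpowers ρ)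
      (mem_zpowers ρ)) ?_⟩
    rw [e, ← ρv, ← ρt]; group

theorem uf (t1 : t ≠ 1) (t2 : t * t = 1) (j1 : j ≠ 1) (j2 : j * j = 1) (ne : t ≠ j) (hj : j ∈ 𝐂[t])
    (ho : Odd ♯Q) (ht : t ∈ 𝐍(Q)) (hj' : j ∈ 𝐍(Q)) (hl : l.Prime) (h1 : l ∣ ♯Q)
    (h2 : ¬ l ∣ ♯(Q ⊓ 𝐂[t])) :
    ∃ z ∈ Q, orderOf z = l ∧ t * z * t⁻¹ = z⁻¹ ∧ (z ∈ 𝐂[j] ∨ z ∈ 𝐂[t * j]) := by
  have := Fact.mk hl
  have hp := pair_self t1 j1 ne t2 j2 hj
  obtain ⟨D, hD, hn⟩ := exists_invariant_sylow l (GW.S4_le.2 ⟨ht, hj'⟩) (hp.coprime ho).symm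
    (.inr (sol_of_odd ho))
  have h3 : D ⊓ 𝐂[t] = ⊥ := by_contra fun e => h2 ((dvd_card_of_isPGroup
    (hD.isPGroup.to_inf_left) e).trans (card_dvd (inf_le_inf_right _ hD.le)))
  have h4 : ∀ u, D ⊓ 𝐂[u] ≠ ⊥ → ∃ z ∈ Q, orderOf z = l ∧ t * z * t⁻¹ = z⁻¹ ∧ z ∈ 𝐂[u] :=
    fun u e => by
      obtain ⟨z, hz, e'⟩ := cauchy hl (dvd_card_of_isPGroup (hD.isPGroup.to_inf_left) e)
      exact ⟨z, hD.le hz.1, e', conj_eq_inv t2 (hn hp.t_mem) h3 hz.1, hz.2⟩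
  by_cases e : D ⊓ 𝐂[j] = ⊥
  · obtain ⟨z, hz, e1, e2, e3⟩ := h4 (t * j) fun e' => hD.ne_bot h1
      (eq_bot_iff.2 (hp.le_of_forall hn (odd_of_le ho hD.le) h3.le e.le e'.le))
    exact ⟨z, hz, e1, e2, .inr e3⟩
  · obtain ⟨z, hz, e1, e2, e3⟩ := h4 j e
    exact ⟨z, hz, e1, e2, .inl e3⟩

theorem wl (ho : Odd ♯Q) (s1 : s ≠ 1) (s2 : s * s = 1) (hs : s ∈ 𝐍(Q)) (hl : l.Prime) (hx : x ∈ Q)
    (hxl : orderOf x = l) (hi : s * x * s⁻¹ = x⁻¹) (hC : ¬ l ∣ ♯(Q ⊓ 𝐂[s]))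
    (hab : Ab (Q ⊓ 𝐍(zpowers x))) (hcyc : ∀ D ≤ Q ⊓ 𝐂[x], IsPGroup l D → IsCyclic D) :
    ♯(Q ⊓ 𝐂[x] ⊓ 𝐂[s]) ^ 2 * ♯Q = ♯(Q ⊓ 𝐂[s]) ^ 2 * ♯(Q ⊓ 𝐂[x]) := by
  have := Fact.mk hl
  have hxs := zpowers_le.2 (mem_norm_of_inv hi)
  have cx : ♯(zpowers x) = l := by rw [Nat.card_zpowers, hxl]
  have cs : ♯(zpowers s) = 2 := by rw [Nat.card_zpowers, orderOf_eq_two s2 s1]
  obtain ⟨D, hD, hn, hxD⟩ := exists_invariant_sylow_ge (p := l) (zpowers_le.2 hs)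
    (coprime_zp ho s2).symm (.inr (sol_of_odd ho)) (zpowers_le.2 hx)
    (isPGroup_of_card_prime_pow (n := 1) (by rw [cx, pow_one])) hxs
  have h3 : D ⊓ 𝐂[s] = ⊥ := by_contra fun e => hC ((dvd_card_of_isPGroup
    (hD.isPGroup.to_inf_left) e).trans (card_dvd (inf_le_inf_right _ hD.le)))
  have h4 : D ≤ 𝐂[x] := le_cent1_iff.2
    ((ab_of_inf_eq_bot s2 (hn (mem_zpowers s)) h3).le_cent (hxD (mem_zpowers x)))
  have h5 := Burnside_normal_complement hD (le_cent_mono hab.le_cent (inf_le_inf_left _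
    (norm_le_norm_of_isCyclic (hcyc D (le_inf hD.le h4) hD.isPGroup) hxD))
    (le_inf hD.le (h4.trans (cent_le_norm_zp x))))
  obtain ⟨M, hM⟩ : ∃ M, M = Op' l Q := ⟨_, rfl⟩
  have hMl : ¬ l ∣ ♯M := hM ▸ not_dvd_Op' Q
  have hMn : 𝐍(Q) ≤ 𝐍(M) := hM ▸ norm_le_norm_Opi _ _
  rw [← hM] at h5
  have h6 : Semiregular (zpowers x) (zpowers s) := semiregular_prime (cs ▸ Nat.prime_two)
    (cent_zpowers s ▸ eq_bot_iff.2 (h3 ▸ inf_le_inf_right _ hxD))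
  have h7 := (Frobenius_Wielandt_fixpoint (M := M) (h6.isFrob hxs
    (ne_bot_of_prime_dvd hl cx.symm.dvd) (ne_bot_of_prime_dvd Nat.prime_two cs.symm.dvd))
    (sup_le (zpowers_le.2 (h5.normal.norm hx)) (zpowers_le.2 (hMn hs)))
    (Nat.Coprime.coprime_dvd_right (card_sup_dvd (.inr hxs)) (Nat.Coprime.mul_right
      (cx ▸ (hl.coprime_iff_not_dvd.2 hMl).symm) (coprime_zp (odd_of_le ho h5.left_le) s2)))
    (sol_of_odd (odd_of_le ho h5.left_le))).1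
  have h8 : M ⊓ 𝐂[s] = Q ⊓ 𝐂[s] := le_antisymm (inf_le_inf_right _ h5.left_le) (le_inf
    (le_of_coprime_relIndex inf_le_left h5.normal.norm (h5.relIndex_left ▸ (coprime_of_isPGroup
      hD.isPGroup ((piGrp_compl_singleton hl).2 hC)).symm)) inf_le_right)
  rw [cs, cent_sup, cent_zpowers, cent_zpowers, inf_comm 𝐂[x], ← inf_assoc, h8] at h7
  rw [inf_right_comm, ← (h5.inf_of_right_le h4).card, ← h5.card, ← mul_assoc, h7, mul_assoc]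

theorem r3 (h : Gl1 G 3 q r k) (u1 : u ≠ 1) (u2 : u * u = 1) (hz : z ∈ 𝐂[u]) (z3 : orderOf z = 3)
    (hs : s ∈ 𝐂[u]) (s2 : s * s = 1) (e : s * z * s⁻¹ = z⁻¹) : False := by
  have hL := h.lf u u1 u2
  have zo : Odd (orderOf z) := by rw [z3]; decide
  have z1 : z ≠ 1 := fun e => by simp [e] at z3
  obtain ⟨o1, c1, -, c2, -⟩ := par_cop hL.par
  obtain ⟨f, -, hq⟩ := hL.pow
  have q3 : 3 ∣ q := by
    rw [hq]
    exact dvd_pow_self 3 fun e => by have := hL.five; rw [hq, e] at this; omega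
  obtain ⟨P, hP, e1 | e1 | e1⟩ := hL.part z (mem_Ld1 h u1 u2 hz zo) z1
  · have h1 : Odd ♯(Ld u ⊓ 𝐍(P)) := by
      have h2 := e1.card_norm
      obtain ⟨-, -, h3 | h3⟩ := hL.par
      · obtain ⟨m, hm⟩ := hL.pow.choose_spec.1
        have h4 := hL.pow.choose_spec.2
        rw [hm, pow_succ, pow_mul] at h4
        have : (3 ^ 2) ^ m % 4 = 1 := by rw [Nat.pow_mod]; simp
        omega
      · rw [show q - 1 = 2 * r by omega, mul_left_comm] at h2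
        exact (Nat.eq_of_mul_eq_mul_left two_pos h2) ▸ o1.mul hL.par.1
    have h2 : ∀ s ∈ Ld u, s * s = 1 → s * z * s⁻¹ ≠ z⁻¹ := fun s hs s2 e => ne_sq zo z1
      (sq_of_inv (eq_one_of_odd_of_sq (odd_of_mem h1 ⟨hs, e1.ti s hs z hP z1 (e ▸ inv_mem hP)⟩) s2
        ▸ one_mem _) e)
    rcases h.two u u1 u2 s hs s2 with e2 | e2
    · exact h2 s e2 s2 e
    · refine h2 _ e2 ?_ ?_
      · rw [(show Commute s u from mem_cent1.1 hs).symm.mul_mul_mul_comm, s2, u2, mul_one]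
      · calc _ = s * (u * z * u⁻¹) * s⁻¹ := by group
          _ = _ := by rw [mem_cent1_iff_conj.1 (mem_cent1_comm.1 hz), e]
  · have := orderOf_dvd_card hP
    rw [z3, e1.card] at this
    exact absurd (Nat.dvd_gcd q3 this) (by rw [c2]; decide)
  · have := orderOf_dvd_card hP
    rw [z3, e1.card] at this
    exact absurd (Nat.dvd_gcd q3 (show 3 ∣ k by omega)) (by rw [c1]; decide)

end Cfsg.Agent.JR.KK
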