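import Cfsg.Agent.Lib.JR.KF1

/-!
# Package KF: no component `A₅`
-/

set_option autoImplicit false

namespace Cfsg.Agent.JR.KK

open Subgroup Cfsg.Agent.OO Cfsg.Agent.Coprime Cfsg.Agent.R1 Cfsg.Agent.GW
open scoped commutatorElement Pointwise

universe u

variable {G : Type u} [Group G] [Finite G] {L K N M J X Y Q : Subgroup G} {p q r k l : ℕ}
  {a c g t u v w s x y z j ρ : G}

omit [Finite G] in
theorem sq_cent (e : g * y * g⁻¹ = y ∨ g * y * g⁻¹ = y⁻¹) : g * g ∈ 𝐂[y] := by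
  rw [mem_cent1_iff_conj, show g * g * y * (g * g)⁻¹ = g * (g * y * g⁻¹) * g⁻¹ by group]
  rcases e with e | e
  · rw [e, e]
  · rw [e, ← conj_inv, e, inv_inv]

theorem eq_one_of_inv (ho : Odd (orderOf y)) (h : s ∈ 𝐂[y]) (e : s * y * s⁻¹ = y⁻¹) : y = 1 :=
  eq_one_of_odd_of_sq ho (sq_of_inv h e)

theorem swap (hab : Ab2 G) (x3 : orderOf x = 3) (a3 : orderOf a = 3) (hc : a ∈ 𝐂[x]) (s2 : s * s = 1)
    (sx : s * x * s⁻¹ = x⁻¹) (sa : s ∈ 𝐂[a]) (hg : g ∈ 𝐍(zpowers x ⊔ zpowers a))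
    (e : g •ᶜ zpowers a = zpowers x) : False := by
  have := Fact.mk Nat.prime_two
  obtain ⟨A, hA⟩ : ∃ A, A = zpowers x := ⟨_, rfl⟩
  obtain ⟨B, hB⟩ : ∃ B, B = zpowers a := ⟨_, rfl⟩
  have cA : ♯A = 3 := by rw [hA, Nat.card_zpowers, x3]
  have cB : ♯B = 3 := by rw [hB, Nat.card_zpowers, a3]
  have oA : Odd ♯A := by rw [cA]; decide
  have oB : Odd ♯B := by rw [cB]; decide
  have sA : s ∈ 𝐍(A) := hA ▸ mem_norm_of_inv sx
  have sB : B ≤ 𝐂[s] := hB ▸ zpowers_le.2 (mem_cent1_comm.1 sa)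
  have BA : B ≤ 𝐂(A) := by rw [hA, hB, cent_zpowers]; exact zpowers_le.2 hc
  have x1 : ¬ A ≤ 𝐂[s] := fun e => by
    rw [eq_one_of_inv (x3 ▸ by decide) (mem_cent1_comm.1 (e (hA ▸ mem_zpowers x))) sx] at x3
    simp at x3
  have iA := fun y (hy : y ∈ A) =>
    conj_eq_inv s2 sA (inf_eq_bot_of_prime (cA ▸ Nat.prime_three) x1) hy
  rw [← hA, ← hB] at hg e
  have h1 : ∀ d ∈ A ⊔ B, (s * d * s⁻¹ = d → d ∈ B) ∧ (s * d * s⁻¹ = d⁻¹ → d ∈ A) := fun d hd => by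
    obtain ⟨y, hy, b, hb, rfl⟩ := (mem_sup_norm_left (le_norm_of_le_cent BA)).1 hd
    have e1 := mem_cent1_comm.1 (sB hb)
    refine ⟨fun e => ?_, fun e => ?_⟩
    · rw [eq_one_of_inv (odd_of_mem oA hy) (mem_cent1_comm.1 ((mul_mem_cancel_right (sB hb)).1
        (mem_cent1_comm.1 (mem_cent1_iff_conj.2 e)))) (iA y hy), one_mul]
      exact hb
    · rw [← conj_mul, iA y hy, mem_cent_iff.1 (BA hb) y hy, mul_inv_rev, mul_right_inj] at e
      rw [eq_one_of_inv (odd_of_mem oB hb) e1 e, mul_one]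
      exact hy
  have h2 : ∀ D ≤ A ⊔ B, ♯D = 3 → s ∈ 𝐍(D) → D = A ∨ D = B := fun D hD cD hs => by
    by_cases e : D ≤ 𝐂[s]
    · exact .inr (eq_of_le_of_card_le (fun d hd => (h1 d (hD hd)).1 (mem_cent1_iff_conj.1
        (mem_cent1_comm.1 (e hd)))) (by omega))
    · exact .inl (eq_of_le_of_card_le (fun d hd => (h1 d (hD hd)).2 (conj_eq_inv s2 hs
        (inf_eq_bot_of_prime (cD ▸ Nat.prime_three) e) hd)) (by omega))
  have AB : A ≠ B := fun e => x1 (e ▸ sB)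
  obtain ⟨V, hV, sV⟩ := exists_syl_ge (M := 𝐍(A ⊔ B)) (zpowers_le.2 (mem_norm_sup sA
    (cent_le_norm _ (le_cent1_iff.1 sB)))) (isPGroup_zp s2)
  replace sV := sV (mem_zpowers s)
  have h3 : ∀ w ∈ V, ∀ d, s * (w * d * w⁻¹) * s⁻¹ = w * (s * d * s⁻¹) * w⁻¹ := fun w hw d => by
    calc _ = s * w * d * (s * w)⁻¹ := by group
      _ = _ := by rw [ab_iff.1 (hab V hV.isPGroup) s sV w hw]; group
  have VA : V ≤ 𝐍(A) := le_norm_iff.2 fun w hw d hd =>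
    (h1 _ (conj_mem_of_norm (hV.le hw) (mem_sup_left hd))).2 (by rw [h3 w hw, iA d hd, conj_inv])
  have VB : V ≤ 𝐍(B) := le_norm_iff.2 fun w hw d hd =>
    (h1 _ (conj_mem_of_norm (hV.le hw) (mem_sup_right hd))).1
      (by rw [h3 w hw, mem_cent1_iff_conj.1 (mem_cent1_comm.1 (sB hd))])
  obtain ⟨c, hc, e1⟩ := (hV.mono (le_inf hV.le VA) inf_le_left).exists_conj_le (Q := g •ᶜ V)
    (le_inf (conj_le_of_mem hg hV.le) (e ▸ conj_le_norm_conj.2 VB)) (isPGroup_conj.2 hV.isPGroup)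
  rw [conj_conj] at e1
  have nV := mem_norm_of_conj_le e1
  have nE := mul_mem hc.1 hg
  have nB : (c * g) •ᶜ B = A := by rw [← conj_conj, e, conj_eq_of_mem_norm hc.2]
  generalize c * g = n at nV nE nB
  have nA : n •ᶜ A = B := (h2 _ (conj_le_of_mem_norm nE le_sup_left) (by rw [card_conj, cA])
    (conj_le_norm_conj.2 VA ((conj_eq_of_mem_norm nV).ge sV))).resolve_left fun e =>
      AB (conj_inj.1 (e.trans nB.symm))
  have n2 : n * n ∈ 𝐍(B) := conj_eq_self_iff.1 (by rw [← conj_conj, nB, nA])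
  refine AB (nB.symm.trans (conj_eq_of_mem_norm (mem_of_constt_mem (π := {2})
    (VB (hV.mem_of_mem_norm (constt_mem _ nE) (constt_mem _ nV) (piElt_constt _ n))) ?_)))
  refine mem_of_sq_mem (Nat.card_zpowers (constt {2}ᶜ n) ▸ odd_iff.2
    (piGrp_zpowers.2 (piElt_constt _ n))) ?_
  rw [← constt_mul_of_commute _ (Commute.refl n)]
  exact constt_mem _ n2

theorem Cf.sdK (f : Cf t K v k) (h : Gl G p q r k) : IsSdprod (O K) (zpowers v) K :=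
  sd h f.vK f.v2 fun _ hw => eq_of_cyc f.tor.cyc f.vK f.v1 f.v2 hw.1

theorem Cf.cardO (f : Cf t K v k) (h : Gl G p q r k) : ♯(O K) = k := by
  have := (f.sdK h).card
  rw [Nat.card_zpowers, orderOf_eq_two f.v2 f.v1, f.tor.card] at this
  omega

theorem Cf.memO (f : Cf t K v k) (h : Gl G p q r k) (hy : y ∈ K) (ho : Odd (orderOf y)) : y ∈ O K :=
  zpowers_le.1 (le_O_of_sd (f.sdK h) f.v2 (zpowers_le.2 hy) (Nat.card_zpowers y ▸ ho))

omit [Finite G] in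
theorem Cf.le_cent (f : Cf t K v k) (hy : y ∈ K) : K ≤ 𝐂[y] :=
  le_cent1_iff.2 ((tor_ab f.tor).le_cent hy)

namespace CA

variable (d : CA t v x s ρ K J)
include d

theorem not_le : ¬ J ≤ 𝐍(S4 t v) := fun e => by
  have h1 := d.v4.pair.card
  rcases d.smp _ ⟨d.v4.pair.le, e⟩ with e' | e'
  · rw [e', card_bot] at h1; omega
  · rw [e', d.card] at h1; omega

omit [Finite G] in
theorem le_s : J ≤ 𝐂[s] := d.le.trans (Ld_le s)

theorem exists_a : ∃ a ∈ J, orderOf a = 3 ∧ Syl 3 (zpowers a) J ∧ J ⊓ 𝐂[a] = zpowers a ∧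
    ∃ j ∈ J, j * j = 1 ∧ j * a * j⁻¹ = a⁻¹ := by
  have := Fact.mk Nat.prime_three
  obtain ⟨a, ha, a3⟩ := cauchy Nat.prime_three (d.card ▸ by decide : 3 ∣ ♯J)
  have ca : ♯(zpowers a) = 3 := by rw [Nat.card_zpowers, a3]
  have h1 : Syl 3 (zpowers a) J := ⟨zpowers_le.2 ha, isPGroup_of_card_prime_pow (n := 1) ca, by
    have := card_mul_relIndex (zpowers_le.2 ha)
    rw [ca, d.card] at this
    omega⟩
  have h2 : Odd ♯(J ⊓ 𝐂[a]) := odd_of_forall fun w hw w2 => by_contra fun w1 => by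
    obtain ⟨g, hg, rfl⟩ := d.v4.exists_conj hw.1 w1 w2
    have := orderOf_dvd_card (show a ∈ J ⊓ _ from ⟨ha, mem_cent1_comm.1 hw.2⟩)
    rw [card_inf_cent_conj hg, d.cent, a3] at this
    omega
  have h3 : zpowers a ≤ J ⊓ 𝐂[a] := zpowers_le.2 ⟨ha, mem_cent1_self a⟩
  have h4 : J ⊓ 𝐂[a] = zpowers a := (eq_of_le_of_card_le h3 (by
    have e1 := card_dvd h3
    have e2 := card_mul_relIndex (inf_le_left : J ⊓ 𝐂[a] ≤ J)
    have e3 := SE.card_dvd_factorial (Y := (J ⊓ 𝐂[a]).subgroupOf J) (d.smp.isSimpleGroup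
      fun e => by have := d.card; rw [e, card_bot] at this; omega) fun e => by
        rw [inf_eq_left.2 ((subgroupOf_eq_top.1 e).trans inf_le_right), d.card] at h2
        exact absurd h2 (by decide)
    rw [d.card] at e2 e3
    change 60 ∣ ((J ⊓ 𝐂[a]).relIndex J).factorial at e3
    rw [ca] at e1 ⊢
    generalize (J ⊓ 𝐂[a]).relIndex J = m at *
    generalize ♯(J ⊓ 𝐂[a]) = c at *
    have e4 : c ≤ 60 := Nat.le_of_dvd (by decide) ⟨m, e2.symm⟩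
    have e5 : c ∣ 60 := ⟨m, e2.symm⟩
    have e6 : c = 3 ∨ c = 15 := by
      rw [Nat.odd_iff] at h2
      interval_cases c <;> omega
    rcases e6 with rfl | rfl
    · rfl
    · rw [show m = 4 by omega] at e3
      exact absurd e3 (by decide))).symm
  refine ⟨a, ha, a3, h1, h4, ?_⟩
  obtain ⟨g, hg, g1⟩ := SetLike.not_le_iff_exists.1 fun e : J ⊓ 𝐍(zpowers a) ≤ 𝐂(zpowers a) => by
    have e1 := Burnside_normal_complement h1 e
    have e2 := e1.card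
    rcases d.smp _ e1.normal with e3 | e3 <;> rw [e3, ca, d.card] at e2
    · rw [card_bot] at e2; omega
    · omega
  rw [cent_zpowers] at g1
  have e1 : g * a * g⁻¹ = a⁻¹ := by
    classical
    obtain ⟨i, hi, e⟩ := (mem_zpowers_iff_mem_range_orderOf.trans Finset.mem_image).1
      (conj_mem_of_norm hg.2 (mem_zpowers a))
    rw [a3, Finset.mem_range] at hi
    interval_cases i
    · rw [pow_zero, eq_comm, conj_eq_one_iff] at e
      simp [e] at a3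
    · exact absurd (mem_cent1_iff_conj.2 (by rw [← e, pow_one])) g1
    · rw [← e, eq_inv_iff_mul_eq_one, ← pow_succ]
      exact orderOf_dvd_iff_pow_eq_one.1 a3.dvd
  have e2 := sq_cent (.inr e1)
  refine ⟨g * (g * g), mul_mem hg.1 (mul_mem hg.1 hg.1), ?_, ?_⟩
  · have := orderOf_dvd_card (h4.le ⟨mul_mem hg.1 hg.1, e2⟩)
    rw [ca, orderOf_dvd_iff_pow_eq_one] at this
    rw [← this, pow_three]; group
  · calc _ = g * (g * g * a * (g * g)⁻¹) * g⁻¹ := by group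
      _ = _ := by rw [mem_cent1_iff_conj.1 e2, e1]

variable (f : Cf t K v k) (hx : x ∈ K)
include f hx

theorem centK (hy : y ∈ K) (ho : Odd (orderOf y)) : J ≤ 𝐂[y] := fun b hb => by
  have h1 := mem_cent1_iff_conj.1 (mem_cent1_comm.1 (d.le_s (d.normal.conj_mem (f.le_cent hx hy) hb)))
  rw [← conj_mul, ← conj_mul, ← conj_inv, d.inv y hy,
    mem_cent1_iff_conj.1 (mem_cent1_comm.1 (d.le_s hb)), inv_inv] at h1
  refine mem_cent1_comm.1 (mem_of_sq_mem ho (mem_cent1_iff_conj.2 ?_))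
  calc _ = y * (y * b * y⁻¹) * y⁻¹ := by group
    _ = _ := by rw [← h1]; group

theorem trans (h : Gl G p q r k) (hy : y ∈ K) (ho : Odd (orderOf y)) (y1 : y ≠ 1) :
    ∃ s ρ J, CA t v y s ρ K J :=
  (f.dich h hy ho y1).resolve_left fun e => d.not_le ((d.centK f hx hy ho).trans e)

theorem na (h : Gl1 G p q r k) (hg : g ∈ 𝐍(zpowers x)) (go : Odd (orderOf g)) (hy : y ∈ K)
    (ho : Odd (orderOf y)) : g ∈ 𝐂[y] := by
  have := Fact.mk Nat.prime_two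
  obtain ⟨b, hb, n, hn, rfl⟩ := (d.v4.pair.syl.frattini (normalIn_norm J)).mem_iff.1
    (d.norm (norm_zp_le x hg))
  obtain ⟨w, hw, hc⟩ := f.norm_S4 h.toGl d.v4.ρt d.v4.ρs hn.2
  have h1 := d.centK f hx hy ho (mul_mem hb (zpowers_le.2 d.v4.ρ_mem hw))
  have h2 : b * n * y * (b * n)⁻¹ = b * w * (w⁻¹ * n * y * (w⁻¹ * n)⁻¹) * (b * w)⁻¹ := by group
  refine mem_of_sq_mem go (sq_cent ((f.pm' h hc hy).imp (fun e => ?_) fun e => ?_))
  · rw [h2, e, mem_cent1_iff_conj.1 h1]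
  · rw [h2, e, ← conj_inv, mem_cent1_iff_conj.1 h1]

theorem dec (h : Gl1 G p q r k) (x2 : x * x ≠ 1) (hg : g ∈ 𝐂[x]) : ∃ b ∈ J, ∃ y ∈ O K, b * y = g := by
  have h1 : ∀ c ∈ K, ∃ b ∈ J, ∃ y ∈ O K, b * y = c := fun c hc => by
    obtain ⟨b, hb, y, hy, e⟩ := (f.sdK h.toGl).mem_iff'.1 hc
    exact ⟨b, zpowers_le.2 d.v4.pair.s_mem hb, y, hy, e⟩
  obtain ⟨b, hb, c, hc, rfl⟩ := d.prod.mem_iff.1 hg
  rcases f.pm h ⟨hc.1.2, hc.2⟩ with (e | e) | e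
  · obtain ⟨b', hb', y, hy, rfl⟩ := h1 c e
    exact ⟨_, mul_mem hb hb', y, hy, mul_assoc _ _ _⟩
  · rw [mem_cent1.1 hc.1.2] at e
    obtain ⟨b', hb', y, hy, e'⟩ := h1 _ e
    refine ⟨_, mul_mem hb (mul_mem d.v4.t_mem hb'), y, hy, ?_⟩
    rw [mul_assoc, mul_assoc, e', ← mul_assoc t, f.t2, one_mul]
  · exact absurd (sq_of_inv hc.1.1 (e.2 x hx)) x2

theorem false3 (h : Gl1 G p q r k) (x3 : orderOf x = 3) : False := by
  have := Fact.mk Nat.prime_three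
  have xo : Odd (orderOf x) := by rw [x3]; decide
  have x1 : x ≠ 1 := fun e => by simp [e] at x3
  obtain ⟨a, ha, a3, hS, -⟩ := d.exists_a
  have hL := h.lf s d.s1 d.s2
  obtain ⟨-, c1, c2, -⟩ := par_cop hL.par
  have k3 : orderOf a ∣ k := by
    have := orderOf_dvd_card hx
    rw [x3, f.tor.card] at this
    rw [a3]
    omega
  obtain ⟨K', hK', e1⟩ := exists_K hL (d.le ha) (fun e => by simp [e] at a3)
    (c1.symm.coprime_dvd_left k3) (c2.symm.coprime_dvd_left k3)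
  obtain ⟨g₀, rfl⟩ := h.conj t s f.t1 f.t2 d.s1 d.s2
  obtain ⟨g₁, -, e2⟩ := hL.conjK _ _ e1 (Ld_conj g₀ t ▸ tor_conj f.tor g₀)
  rw [eq_comm, conj_eq_iff_eq_inv_conj, conj_conj] at e2
  have e3 : (g₀⁻¹ * g₁) •ᶜ zpowers a = zpowers x := eq_of_isCyclic_of_card_eq f.tor.cyc
    (e2 ▸ conj_mono _ (zpowers_le.2 hK')) (zpowers_le.2 hx)
    (by rw [card_conj, Nat.card_zpowers, Nat.card_zpowers, a3, x3])
  generalize g₀⁻¹ * g₁ = g at e3
  have ax := d.normal.le ha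
  have hE : IsElementaryAbelian 3 (zpowers x ⊔ zpowers a) := abelem_sup
    (abelem_zpowers (x3 ▸ pow_orderOf_eq_one x)) (abelem_zpowers (a3 ▸ pow_orderOf_eq_one a))
    (cent_zpowers a ▸ zpowers_le.2 (mem_cent1_comm.1 ax))
  obtain ⟨R, hR, hER⟩ := exists_syl_ge (M := 𝐂[x])
    (sup_le (zpowers_le.2 (mem_cent1_self x)) (zpowers_le.2 ax)) (abelem_isPGroup hE)
  obtain ⟨c, hc, e4⟩ := hR.exists_conj_le (Q := g •ᶜ (zpowers x ⊔ zpowers a)) (by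
    have := (conj_le_cent_conj (g := g)).2 ((abelem_le_cent hE).trans (cent_anti le_sup_right))
    rwa [e3, cent_zpowers] at this) (isPGroup_conj.2 (abelem_isPGroup hE))
  rw [conj_conj] at e4
  refine swap h.ab2 x3 a3 ax d.s2 (d.inv x hx) (mem_cent1_comm.1 (d.le_s ha)) (g := c * g)
    (mem_norm_of_conj_le fun e he => ?_)
    (by rw [← conj_conj, e3, conj_eq_of_mem_norm (cent_le_norm_zp x hc)])
  have e5 := (abelem_conj.2 hE).2 e he
  replace he := e4 he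
  obtain ⟨b, hb, y, hy, rfl⟩ := d.dec f hx h (ne_sq xo x1) (hR.le he)
  have yo := odd_of_mem (odd_O K) hy
  have yK := Opi_le _ _ hy
  rw [(show Commute b y from mem_cent1.1 (d.centK f hx yK yo hb)).mul_pow,
    mul_eq_one_iff_inv_eq] at e5
  have e6 : y ^ 3 = 1 := eq_one_of_inv (odd_of_mem (odd_O K) (pow_mem hy 3))
    (mem_cent1_comm.1 (d.le_s (e5 ▸ inv_mem (pow_mem hb 3)))) (d.inv _ (pow_mem yK 3))
  have e7 : y ∈ zpowers x := zpowers_le.1 (le_of_isCyclic_of_card_dvd f.tor.cyc (zpowers_le.2 yK)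
    (zpowers_le.2 hx) (by rw [Nat.card_zpowers, Nat.card_zpowers, x3]; exact orderOf_dvd_of_pow_eq_one e6))
  refine mul_mem (mem_sup_right ((hS.hall.eq_of_le (K := J ⊓ R) (le_inf hS.le (le_sup_right.trans hER))
    inf_le_left (hR.piGrp.inf_right _)).le ⟨hb, ?_⟩)) (mem_sup_left e7)
  exact (mul_mem_cancel_right (hER (mem_sup_left e7))).1 he

theorem false (h : Gl1 G p q r k) (hl : (orderOf x).Prime) (xo : Odd (orderOf x)) : False := by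
  have := Fact.mk hl
  have x1 : x ≠ 1 := fun e => hl.one_lt.ne' (by rw [e, orderOf_one])
  have cK := f.cardO h.toGl
  by_cases k3 : 3 ∣ k
  · obtain ⟨y, hy, y3⟩ := cauchy Nat.prime_three (cK ▸ k3)
    obtain ⟨s, ρ, J, d'⟩ := d.trans f hx h.toGl (Opi_le _ _ hy) (odd_of_mem (odd_O K) hy)
      fun e => by simp [e] at y3
    exact d'.false3 f (Opi_le _ _ hy) h y3
  obtain ⟨a, ha, a3, -, hJ, -⟩ := d.exists_a
  have a1 : a ≠ 1 := fun e => by simp [e] at a3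
  have ao : Odd (orderOf a) := by rw [a3]; decide
  have ca : ♯(zpowers a) = 3 := by rw [Nat.card_zpowers, a3]
  have hL := h.lf s d.s1 d.s2
  obtain ⟨-, -, c2, -, b1, b2⟩ := par_cop hL.par
  obtain ⟨R, hR, e1 | e1 | e1⟩ := hL.part a (d.le ha) a1
  · have := orderOf_dvd_card hR
    obtain ⟨m, -, hq⟩ := hL.pow
    rw [a3, e1.card, hq] at this
    obtain rfl := (Nat.prime_dvd_prime_iff_eq Nat.prime_three hL.prime).1
      (Nat.prime_three.dvd_of_dvd_pow this)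
    exact not_five hL (Dvd.dvd.trans (by rw [d.card]; decide) (card_dvd d.le))
  swap
  · have := orderOf_dvd_card hR
    rw [a3, e1.card] at this
    omega
  have r3 : 3 ∣ r := a3 ▸ e1.card ▸ orderOf_dvd_card hR
  obtain ⟨h1, h2⟩ := sd_cent h d.s1 d.s2 (d.le_s ha) (tor_cent e1 hR (ne_sq ao a1))
    (e1.card ▸ hL.par.1)
  obtain ⟨Q, hQ⟩ : ∃ Q, Q = O 𝐂[a] := ⟨_, rfl⟩
  have Qo : Odd ♯Q := hQ ▸ odd_O _
  have Qa : Q ≤ 𝐂[a] := hQ ▸ Opi_le _ _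
  have Qs : s ∈ 𝐍(Q) := hQ ▸ O_norm _ (mem_cent1_comm.1 (d.le_s ha))
  rw [← hQ] at h1 h2
  have hK : O K ≤ K := Opi_le _ _
  have Ka : O K ≤ 𝐂[a] := fun y hy =>
    mem_cent1_comm.1 (d.centK f hx (hK hy) (odd_of_mem (odd_O K) hy) ha)
  have KQ := h1 _ Ka (odd_O K)
  have aQ : a ∈ Q := (h2.ge hR).1
  have xK := f.memO h.toGl hx xo
  have lk : orderOf x ∣ k := cK ▸ orderOf_dvd_card xK
  have hD : IsDprod (zpowers a) (O K) (zpowers a ⊔ O K) := .of_coprime (cent_zpowers a ▸ Ka)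
    (ca ▸ cK ▸ (Nat.Prime.coprime_iff_not_dvd Nat.prime_three).2 k3)
  have h3 : Q ⊓ 𝐂[x] = zpowers a ⊔ O K := le_antisymm (fun g hg => by
    obtain ⟨b, hb, y, hy, rfl⟩ := d.dec f hx h (ne_sq xo x1) hg.2
    exact mul_mem (mem_sup_left (hJ.le ⟨hb, (mul_mem_cancel_right (Ka hy)).1 (Qa hg.1)⟩))
      (mem_sup_right hy))
    (sup_le (zpowers_le.2 ⟨aQ, d.normal.le ha⟩) (le_inf KQ (hK.trans (f.le_cent hx))))
  have h4 : Q ⊓ 𝐂[x] ⊓ 𝐂[s] = zpowers a := le_antisymm (fun g hg => by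
    obtain ⟨b, hb, y, hy, rfl⟩ := hD.mem_iff.1 (h3.le hg.1)
    rwa [eq_one_of_inv (odd_of_mem (odd_O K) hy) (mem_cent1_comm.1 ((mul_mem_cancel_left
      (zpowers_le.2 (d.le_s ha) hb)).1 hg.2)) (d.inv y (hK hy)), mul_one])
    (zpowers_le.2 ⟨⟨aQ, d.normal.le ha⟩, d.le_s ha⟩)
  have h5 : ∀ z ∈ O K, z ≠ 1 → Q ⊓ 𝐍(zpowers z) ≤ Q ⊓ 𝐂[x] := fun z hz z1 g hg => by
    obtain ⟨s, ρ, J, d'⟩ := d.trans f hx h.toGl (hK hz) (odd_of_mem (odd_O K) hz) z1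
    exact ⟨hg.1, d'.na f (hK hz) h hg.2 (odd_of_mem Qo hg.1) hx xo⟩
  have h6 := wl Qo d.s1 d.s2 Qs hl (KQ xK) rfl (d.inv x hx)
    (by rw [h2, e1.card]; exact hl.coprime_iff_not_dvd.1 (c2.symm.coprime_dvd_left lk))
    (ab_of_le (h3 ▸ hD.ab (ab_of_isCyclic inferInstance) (ab_of_le (tor_ab f.tor) hK)) (h5 x xK x1))
    fun D hD' hp => isCyclic_of_le' f.tor.cyc ((le_of_coprime_relIndex (h3 ▸ hD')
      hD.normal_right.norm (hD.relIndex_right ▸ coprime_of_isPGroup hp ((piGrp_compl_singleton hl).2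
        fun e => k3 ((Nat.prime_dvd_prime_iff_eq hl Nat.prime_three).1 (ca ▸ e) ▸ lk)))).trans hK)
  rw [h4, h2, h3, ← hD.card, ca, cK, e1.card] at h6
  have RQ : R ≤ Q := h2.ge.trans inf_le_left
  have h7 := Nat.card_le_card_of_injective
    (fun w : O K × ((R : Set G) \ zpowers a : Set G) × O K =>
      (⟨w.1 * w.2.1 * w.2.2, mul_mem (mul_mem (KQ w.1.2) (RQ w.2.1.2.1)) (KQ w.2.2.2)⟩ : Q)) <| by
    rintro ⟨⟨z₁, hz₁⟩, ⟨c₁, hc₁⟩, ⟨w₁, hw₁⟩⟩ ⟨⟨z₂, hz₂⟩, ⟨c₂, hc₂⟩, ⟨w₂, hw₂⟩⟩ e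
    have e2 : z₁ * c₁ * w₁ = z₂ * c₂ * w₂ := congrArg Subtype.val e
    have hz := mul_mem (inv_mem hz₁) hz₂
    have hw := mul_mem hw₂ (inv_mem hw₁)
    have e3 : c₁ = z₁⁻¹ * z₂ * c₂ * (w₂ * w₁⁻¹) := by
      calc _ = z₁⁻¹ * (z₁ * c₁ * w₁) * w₁⁻¹ := by group
        _ = _ := by rw [e2]; group
    have e4 : z₁⁻¹ * z₂ = 1 ∧ w₂ * w₁⁻¹ = 1 := by
      generalize z₁⁻¹ * z₂ = z at hz e3
      generalize w₂ * w₁⁻¹ = w at hw e3
      have e4 := mem_cent1_iff_conj.1 (mem_cent1_comm.1 (h2.ge hc₁.1).2)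
      rw [e3, ← conj_mul, ← conj_mul, d.inv z (hK hz), d.inv w (hK hw),
        mem_cent1_iff_conj.1 (mem_cent1_comm.1 (h2.ge hc₂.1).2)] at e4
      have e5 : c₂⁻¹ * (z * z) * c₂⁻¹⁻¹ = (w * w)⁻¹ := by
        calc _ = c₂⁻¹ * z * (z * c₂ * w) * w⁻¹ := by group
          _ = _ := by rw [← e4]; group
      have e6 : z * z = 1 := by_contra fun e6 => hc₂.2 (h4.le ⟨h5 _ (mul_mem hz hz) e6 ⟨RQ hc₂.1,
        (inv_mem_iff (H := 𝐍(zpowers (z * z)))).1 (conj_eq_self_iff.1 (eq_of_isCyclic_of_card_eq f.tor.cyc (by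
          rw [conj_zpowers, e5]; exact zpowers_le.2 (hK (inv_mem (mul_mem hw hw))))
          (zpowers_le.2 (hK (mul_mem hz hz))) (card_conj _ _)))⟩, (h2.ge hc₂.1).2⟩)
      rw [e6, mul_one, mul_inv_cancel, eq_comm, inv_eq_one] at e5
      exact ⟨eq_one_of_odd_of_sq (odd_of_mem (odd_O K) hz) e6,
        eq_one_of_odd_of_sq (odd_of_mem (odd_O K) hw) e5⟩
    rw [e4.1, e4.2, one_mul, mul_one] at e3
    obtain rfl := inv_mul_eq_one.1 e4.1
    obtain rfl := mul_inv_eq_one.1 e4.2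
    subst e3
    rfl
  rw [Nat.card_prod, Nat.card_prod, cK, Nat.card_coe_set_eq, Set.ncard_sdiff (zpowers_le.2 hR),
    ← Nat.card_coe_set_eq, ← Nat.card_coe_set_eq] at h7
  change k * ((♯R - ♯(zpowers a)) * k) ≤ _ at h7
  rw [ca, e1.card] at h7
  have k1 : 1 < k := hl.one_lt.trans_le (Nat.le_of_dvd hL.par.2.1.pos lk)
  have k2 := Nat.odd_iff.1 hL.par.2.1
  have r2 := Nat.odd_iff.1 hL.par.1
  obtain ⟨m, rfl⟩ : ∃ m, r = m + 3 := ⟨r - 3, by omega⟩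
  rw [Nat.add_sub_cancel] at h7
  have h8 : 3 * k * m ≤ (m + 3) ^ 2 := Nat.le_of_mul_le_mul_right (c := 3 * k) (by nlinarith) (by omega)
  rcases (by omega : m + 2 = 2 * k ∧ 7 ≤ k ∨ m + 4 = 2 * k ∧ 5 ≤ k) with e | e <;> nlinarith [e.1, e.2]

end CA

theorem Cf.exists_prime (f : Cf t K v k) (h : Gl G p q r k) (hx : x ∈ K) (x2 : x * x ≠ 1) :
    ∃ y ∈ K, (orderOf y).Prime ∧ Odd (orderOf y) ∧ 𝐂[x] ≤ 𝐂[y] := by
  obtain ⟨y, hy, e⟩ := exists_prime_order_mem (zpowers_ne_bot.2 x2)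
  have h1 := zpowers_le.2 (mul_mem (mem_zpowers x) (mem_zpowers x)) hy
  exact ⟨y, zpowers_le.2 hx h1, e, odd_of_mem (Nat.card_zpowers (x * x) ▸ f.odd_sq h hx) hy,
    cent1_le_of_mem_zpowers h1⟩

theorem Cf.cent_le_norm (f : Cf t K v k) (h : Gl1 G p q r k) (hx : x ∈ K) (x2 : x * x ≠ 1) :
    𝐂[x] ≤ 𝐍(S4 t v) := by
  obtain ⟨y, hy, e1, e2, e3⟩ := f.exists_prime h.toGl hx x2
  refine e3.trans ((f.dich h.toGl hy e2 fun e => e1.one_lt.ne' (by rw [e, orderOf_one])).resolve_right ?_)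
  rintro ⟨s, ρ, J, d⟩
  exact d.false f hy h e1 e2

end Cfsg.Agent.JR.KK
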