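import Cfsg.Agent.Lib.JR.Hyp
import Cfsg.Agent.Lib.OO.BG3

/-!
# Overgroups of the Borel subgroup of `C(t)` in characteristic three
-/

set_option autoImplicit false

namespace Cfsg.Agent.JR.La

open Subgroup Cfsg.Agent.OO Cfsg.Agent.Coprime Cfsg.Agent.R1 Cfsg.Agent.GW
open scoped commutatorElement Pointwise

universe u

variable {G : Type u} [Group G] [Finite G] {t x g : G} {H L W S P T B K Y Z : Subgroup G}
  {q r k : ℕ}

theorem le_cent_of_cyc {s : ℕ} [hs : Fact s.Prime] (hx : x ^ s = 1) (hK : IsPGroup s K)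
    (hxK : x ∈ K) (hc : IsCyclic ↥(K ⊓ 𝐂[x])) : K ≤ 𝐂[x] := by
  by_cases x1 : x = 1
  · rw [x1, cent1_one]; exact le_top
  have h0 : K ≠ ⊥ := fun e => x1 (mem_bot.1 (e ▸ hxK))
  obtain ⟨z, hz, ho⟩ := cauchy hs.out (dvd_card_of_isPGroup (hK.to_le (Zc_le K))
    (Zc_ne_bot (nil_of_isPGroup hK) h0))
  have h1 : zpowers z ≤ K ⊓ 𝐂[x] :=
    zpowers_le.2 ⟨Zc_le K hz, cent_le_cent1 hxK (Zc_le_cent K hz)⟩
  have h2 : zpowers x ≤ K ⊓ 𝐂[x] := zpowers_le.2 ⟨hxK, mem_cent1_self x⟩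
  have e : zpowers x = zpowers z := eq_of_isCyclic_of_card_eq hc h2 h1 (by
    rw [Nat.card_zpowers, Nat.card_zpowers, ho, orderOf_eq_prime hx x1])
  rw [← cent_zpowers, e]
  exact le_cent_symm (zpowers_le.2 (Zc_le_cent K hz))

theorem le_Op_sup {p : ℕ} [hp : Fact p.Prime] (ho : Odd ♯K) (h0 : Op' p K = ⊥) (hn : t ∈ 𝐍(K))
    (t2 : t * t = 1) (hx : x ∈ K) (hs : (orderOf x).Prime) (hc : IsCyclic ↥(K ⊓ 𝐂[x]))
    (ht : K ⊓ 𝐂[x] ≤ 𝐂[t]) (h3 : ¬ p ∣ ♯(K ⊓ 𝐂[x] : Subgroup G)) : K ≤ Op p K ⊔ K ⊓ 𝐂[t] := by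
  have := Fact.mk hs
  have hsol := sol_of_odd ho
  have hxx : zpowers x ≤ K := zpowers_le.2 hx
  have sp : p ≠ orderOf x := fun e => h3 (e ▸ orderOf_dvd_card ⟨hx, mem_cent1_self x⟩)
  have hQ := Op_normal p K
  have hQK : Op p K ≤ Op' (orderOf x) K := Op_le_Op' sp K
  have hN := Opi_normal ({orderOf x} : Set ℕ)ᶜ K
  have cop : (♯(Op' (orderOf x) K)).Coprime ♯(zpowers x) := by
    rw [Nat.card_zpowers]; exact ((Nat.Prime.coprime_iff_not_dvd hs).2 (not_dvd_Op' K)).symm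
  have hF : Fit (Op' (orderOf x) K) ≤ Op p K := (Fit_le_of_normal hN).trans (Fit_eq_Op h0).le
  have h1 : ⁅Op' (orderOf x) K, zpowers x⁆ ≤ Op p K :=
    (odd_sdprod_primact_commg_sub_Fitting (IsSdprod.of_coprime (hxx.trans hN.norm) cop)
      (odd_of_le ho (sup_le hN.le hxx)) (sol_of_le hsol (sup_le hN.le hxx)) cop
      (semiprime_of_prime_card _ (by rwa [Nat.card_zpowers])) (by_contra fun e => h3
        ((dvd_card_of_isPGroup (((Op_isPGroup p K).to_le hF).to_le inf_le_left) e).trans (card_dvd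
          (inf_le_inf (hF.trans hQ.le) (cent_zpowers x).le))))).trans hF
  have hx' := hQ.norm hx
  have ht' : t ∈ 𝐍(Op p K) := norm_le_norm_Op p K hn
  have e1 := quo_inf_cent1 hQ.le hx' (by
    rw [← Nat.card_zpowers]; exact coprime_card_mono cop hQK le_rfl)
  have h2 : Fit (K ⁒ Op p K) ≤ 𝐂[coset (Op p K) x] := Fit_le_of_forall fun l _ => by
    by_cases e : l = orderOf x
    · subst e
      have h4 : zpowers (coset (Op p K) x) ≤ K ⁒ Op p K := zpowers_le.2 (coset_mem_quo _ hx)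
      have h5 : coset (Op p K) x ^ orderOf x = 1 := orderOf_dvd_iff_pow_eq_one.1 (orderOf_coset_dvd _ x)
      refine le_sup_left.trans (le_cent_of_cyc h5 (isPGroup_sup (Op_isPGroup _ _)
        (abelem_isPGroup (abelem_zpowers h5)) (.inr (h4.trans (Op_normal _ _).norm)))
        (mem_sup_right (mem_zpowers _)) (isCyclic_of_le' (e1 ▸ isCyclic_quo hc _)
          (inf_le_inf_right _ (sup_le (Op_le _ _) h4))))
    · rw [← cent_zpowers, ← quo_zpowers hx']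
      refine (Op_le_Op' e _).trans (le_trans ?_ (quo_le_cent_of_commutator_le h1))
      exact (quo_Opi hQ ((Op'_piGrp _ K).of_le hQK)).ge
  have h4 : Fit (K ⁒ Op p K) ≤ 𝐂[coset (Op p K) t] :=
    (le_inf (Fit_le _) h2).trans (e1.ge.trans ((quo_mono _ ht).trans (quo_cent1_le ht')))
  have h5 := coprime_cent_Fitting (quo_le_norm (Op p K) (zpowers_le.2 hn))
    (coprime_quo (coprime_zp ho t2) _ _) (sol_quo hsol _)
  rw [inf_eq_left.2 (by rw [quo_zpowers ht']; exact le_cent_symm (h4.trans (cent_zpowers _).ge)),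
    quo_le_cent_iff (zpowers_le.2 ht') hQ.norm, Subgroup.commutator_comm] at h5
  rw [← cent_zpowers]
  exact (coprime_cent_prod (zpowers_le.2 hn) (coprime_zp ho t2) (.inl hsol)).ge.trans
    (sup_le_sup_right h5 _)

variable (h : Fr t H L W S P T 3 q r k)
include h

omit [Finite G] in
theorem num : 3 ∣ q ∧ q + 1 = 4 * k ∧ 2 * r + 1 = q := by
  obtain ⟨f, ⟨m, rfl⟩, e⟩ := h.pow
  have h1 : q % 4 = 3 := by rw [e, pow_succ, pow_mul, Nat.mul_mod, Nat.pow_mod]; norm_num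
  have h2 : 3 ∣ q := e ▸ dvd_pow_self 3 (by omega)
  obtain ⟨-, -, h3 | h3⟩ := h.par <;> omega

omit [Finite G] in
theorem cardT : ♯T = r := by have := num h; rw [h.tor.card]; omega

omit [Finite G] in
theorem HC : H ≤ 𝐂[t] := fun g hg => (h.cent g).2 (.inl hg)

theorem mem_H (hg : g ∈ 𝐂[t]) (ho : Odd (orderOf g)) : g ∈ H := ((h.cent g).1 hg).elim id fun e => by
  have := pow_mem e (orderOf g)
  obtain ⟨m, hm⟩ := ho
  rw [Commute.mul_pow (mem_cent1.1 hg), pow_orderOf_eq_one, one_mul, hm, pow_succ, pow_mul, pow_two,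
    h.t2, one_pow, one_mul] at this
  exact absurd this h.tH

theorem le_H (hY : Y ≤ 𝐂[t]) (ho : Odd ♯Y) : Y ≤ H := fun _ hg => mem_H h (hY hg) (odd_of_mem ho hg)

omit [Finite G] in
theorem pP : IsPGroup 3 P := abelem_isPGroup h.uni.elem

omit [Finite G] in
theorem WH : W ≤ H := h.sup ▸ le_sup_right

theorem P_ne : P ≠ ⊥ := fun e => by
  have := h.uni.card
  have := h.five
  rw [e, card_bot] at *
  omega

theorem copPT : (♯P).Coprime ♯T := coprime_of_isPGroup (pP h)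
  ((piGrp_compl_singleton Nat.prime_three).2 (by have := num h; rw [cardT h]; omega))

theorem cardPT : ♯(P ⊔ T : Subgroup G) = q * r := by
  rw [← (IsSdprod.of_coprime h.TP (copPT h)).card, h.uni.card, cardT h]

theorem oddPT : Odd ♯(P ⊔ T : Subgroup G) := by
  have := num h
  rw [cardPT h]
  exact (Nat.odd_iff.2 (by omega)).mul h.par.1

theorem inf_L (hB : P ⊔ T ≤ B) (hL : ¬ L ≤ B) : B ⊓ L = P ⊔ T := by
  have h1 : P ⊔ T ≤ L ⊓ 𝐍(P) := le_inf (sup_le h.uni.le h.tor.le) (sup_le (le_norm_self P) h.TP)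
  have h2 : P ⊔ T = L ⊓ 𝐍(P) := eq_of_le_of_card_le h1 (by
    have := h.uni.card_norm
    obtain ⟨-, -, e⟩ := num h
    rw [cardPT h]
    rw [show q - 1 = 2 * r by omega] at this
    nlinarith)
  refine le_antisymm (h2 ▸ le_inf inf_le_right ?_) (le_inf hB (h1.trans inf_le_left))
  exact (h.uni.max _ (h2 ▸ le_inf hB (h1.trans inf_le_left)) inf_le_right).resolve_right
    fun e => hL (e ▸ inf_le_left)

theorem inf_H (hB : P ⊔ T ⊔ W ≤ B) (hL : ¬ L ≤ B) : B ⊓ H = P ⊔ T ⊔ W := by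
  rw [inf_comm, ← h.sup, sup_inf_of_le_right (.inr ((WH h).trans h.norm)) (le_sup_right.trans hB),
    inf_comm, inf_L h (le_sup_left.trans hB) hL]

theorem oddD : Odd ♯(P ⊔ T ⊔ W : Subgroup G) :=
  ((oddPT h).mul h.oddW).of_dvd_nat (card_sup_dvd (.inr (le_norm_sup h.WP h.WT)))

theorem syl_t (ht : t ∈ B) (ho : Odd ♯(B ⊓ H : Subgroup G)) : Syl 2 (zpowers t) B := by
  obtain ⟨R, hR, h1⟩ := exists_syl_ge (zpowers_le.2 ht) (abelem_isPGroup (abelem_zpowers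
    ((pow_two t).trans h.t2)))
  have h2 : ∀ s ∈ R, s ∈ H → s = 1 := fun s hs hH => mem_bot.1 (inf_eq_bot_of_coprime_card
    (coprime_of_isPGroup hR.isPGroup (odd_iff.1 ho)) ▸ (⟨hs, hR.le hs, hH⟩ : s ∈ R ⊓ (B ⊓ H)))
  have h3 := h1 (mem_zpowers t)
  refine le_antisymm (fun s hs => ?_) h1 ▸ hR
  rcases (h.cent s).1 (cent_le_cent1 h3 (Ab.le_cent (h.ab2 R hR.isPGroup) hs)) with e | e
  · exact h2 s hs e ▸ one_mem _
  · exact eq_inv_of_mul_eq_one_left (h2 _ (mul_mem hs h3) e) ▸ inv_mem (mem_zpowers t)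

theorem sdp (ht : t ∈ B) (ho : Odd ♯(B ⊓ H : Subgroup G)) : IsSdprod (O B) (zpowers t) B :=
  cyclic_pdiv_normal_complement (syl_t h ht ho) inferInstance fun _ hq _ => hq.two_le

theorem not_inv {z u : G} (hz : z ∈ 𝐂[t]) (h3 : z ^ 3 = 1) (hu : u ∈ 𝐂[t]) (u2 : u * u = 1)
    (e : u * z * u⁻¹ = z⁻¹) : z = 1 := by
  by_contra z1
  have ho := orderOf_eq_prime h3 z1
  have hn := num h
  have zH := mem_H h hz (by rw [ho]; decide)
  wlog uH : u ∈ H generalizing u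
  · refine this (mul_mem hu (mem_cent1_self t)) ?_ ?_ (((h.cent u).1 hu).resolve_left uH)
    · rw [mul_assoc, ← mul_assoc t, ← mem_cent1.1 hu, mul_assoc u, h.t2, mul_one, u2]
    · rw [← e, mul_inv_rev, mul_assoc u, ← mem_cent1.1 hz]; group
  have uL : u ∈ L := zpowers_le.1 (le_of_coprime_relIndex (zpowers_le.2 uH) h.norm
    ((coprime_zp h.oddW u2).symm.coprime_dvd_right (by
      rw [← h.sup, relIndex_sup_eq' (.inr ((WH h).trans h.norm))]
      exact relIndex_dvd_card _ _)))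
  have zL : z ∈ L := by
    have := mul_mem uL (conj_mem_of_norm (h.norm zH) (inv_mem uL))
    rwa [show u * (z * u⁻¹ * z⁻¹) = u * z * u⁻¹ * z⁻¹ by group, e, ← mul_inv_rev, inv_mem_iff,
      eq_inv_of_mul_eq_one_left ((pow_three' z).symm.trans h3), inv_mem_iff] at this
  obtain ⟨U, hU, h1 | h1 | h1⟩ := h.part z zL z1
  · have h2 := orderOf_dvd_card (H := L ⊓ 𝐍(U)) ⟨uL, h1.ti u uL z hU z1 (e ▸ inv_mem hU)⟩
    have h4 := h1.card_norm
    rw [show q - 1 = 2 * r by omega, mul_left_comm, mul_right_inj' two_ne_zero] at h4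
    have h5 := eq_one_of_odd_of_sq (Odd.of_dvd_nat (h4 ▸ cardPT h ▸ oddPT h) h2) u2
    rw [h5, one_mul, inv_one, mul_one] at e
    exact z1 (eq_one_of_odd_of_sq (by rw [ho]; decide) (eq_inv_iff_mul_eq_one.1 e))
  · have := orderOf_dvd_card hU
    rw [h1.card, ho] at this
    omega
  · have := orderOf_dvd_card hU
    rw [h1.card, ho] at this
    omega

theorem exists_inv : ∃ v ∈ L, v ≠ 1 ∧ v * v = 1 := by
  obtain ⟨j, hj, -, h1⟩ := h.exj
  exact ⟨j, hj.2, fun e => h1 (e ▸ one_mem T), h.sq j hj.1⟩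

theorem not_le_norm (hZ : IsPGroup 3 Z) (h0 : Z ≠ ⊥) (ht : t ∈ 𝐍(Z)) : ¬ L ≤ 𝐍(Z) := fun hL => by
  have ho := odd_of_isPGroup (by decide) hZ
  obtain ⟨v, hv, v1, v2⟩ := exists_inv h
  have h1 : Z ⊓ L = ⊥ := (h.smp _ ⟨inf_le_right, le_norm_inf hL (le_norm_self L)⟩).resolve_right
    fun e => v1 (eq_one_of_odd_of_sq (odd_of_mem ho (inf_le_left (a := Z) (e.ge hv))) v2)
  have h2 : Z ⊓ 𝐂[t] = ⊥ := by
    have h3 := le_H h inf_le_right (odd_of_le ho (inf_le_left : Z ⊓ 𝐂[t] ≤ Z))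
    refine eq_bot_iff.2 (h.centL ▸ le_inf h3 (commutator_eq_bot_iff.1 (eq_bot_iff.2 (h1 ▸ le_inf
      ((commutator_mono inf_le_left le_rfl).trans (commutator_le_left' hL))
      (commutator_le_right' (h3.trans h.norm))))))
  have hc : v ∈ 𝐂[t] := HC h (h.le hv)
  have k : ∀ u ∈ 𝐂[t], u ≠ 1 → u * u = 1 → Z ⊓ 𝐂[u] = ⊥ := fun u hu u1 u2 => by_contra fun e => by
    obtain ⟨z, hz, ho⟩ := cauchy Nat.prime_three (dvd_card_of_isPGroup (hZ.to_le inf_le_left) e)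
    obtain ⟨g, rfl⟩ := h.conj u u1 u2
    have e1 := not_inv h (z := g⁻¹ * z * g) (u := g⁻¹ * t * g) (mem_conj.1 (cent1_conj g t ▸ hz.2))
      (by rw [← orderOf_dvd_iff_pow_eq_one, orderOf_conj', ho])
      (mem_conj.1 (cent1_conj g t ▸ mem_cent1_comm.1 hu)) (by simpa using conj_sq h.t2 g⁻¹) (by
        calc _ = g⁻¹ * (t * z * t⁻¹) * g := by group
          _ = _ := by rw [conj_eq_inv h.t2 ht h2 hz.1]; group)
    rw [← orderOf_conj' g z, e1, orderOf_one] at ho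
    omega
  have vt : v * t ≠ 1 := fun e => h.tH (eq_inv_of_mul_eq_one_right e ▸ inv_mem (h.le hv))
  have vt2 : v * t * (v * t) = 1 := by
    rw [mul_assoc, ← mul_assoc t, ← mem_cent1.1 hc, mul_assoc v, h.t2, mul_one, v2]
  obtain ⟨z, hz, z1⟩ := exists_mem_ne_one h0
  have e1 := conj_eq_inv v2 (hL hv) (k v hc v1 v2) hz
  have e2 := conj_eq_inv vt2 (mul_mem (hL hv) ht) (k _ (mul_mem hc (mem_cent1_self t)) vt vt2) hz
  rw [show v * t * z * (v * t)⁻¹ = v * (t * z * t⁻¹) * v⁻¹ by group, conj_eq_inv h.t2 ht h2 hz,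
    ← conj_inv, e1, inv_inv] at e2
  exact z1 (eq_one_of_odd_of_sq (odd_of_mem ho hz) (eq_inv_iff_mul_eq_one.1 e2))

end Cfsg.Agent.JR.La
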