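import Cfsg.Agent.Lib.JR.Hyp
import Cfsg.Agent.Lib.W3.Base
import Cfsg.Agent.Lib.E8.Rank
import Cfsg.Agent.Lib.OO.BG2
import Cfsg.Agent.Lib.OO.Pf.BG4_A

/-!
# Package MC: transfer from a Sylow subgroup of maximal class
-/

set_option autoImplicit false

namespace Cfsg.Agent.JR.MCx

open Subgroup Cfsg.Agent.OO Cfsg.Agent.Coprime Cfsg.Agent.R1
open scoped commutatorElement Pointwise

universe u

variable {G : Type u} [Group G] [Finite G] {B E P T : Subgroup G} {s : ℕ} {g w z : G}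

theorem mem_der_of_fusion [Fact s.Prime] (hS : Syl s T ⊤) (hB : T ≤ B) (hw : w ∈ T)
    (key : ∀ (k : ℕ) (g : G), g⁻¹ * w ^ k * g ∈ T → ∃ b ∈ B, g⁻¹ * w ^ k * g = b * w ^ k * b⁻¹)
    (h : w ∈ der (⊤ : Subgroup G)) : w ∈ der B := by
  classical
  let ϕ : T →* Abelianization B := Abelianization.of.comp (inclusion hB)
  have := Fintype.ofFinite (Quotient (MulAction.orbitRel (zpowers w) (G ⧸ T)))
  have h1 : MonoidHom.transfer ϕ w = ϕ ⟨w, hw⟩ ^ T.index := by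
    rw [MonoidHom.transfer_eq_prod_quotient_orbitRel_zpowers_quot, index_eq_sum_minimalPeriod T w,
      ← Finset.prod_pow_eq_pow_sum]
    refine Finset.prod_congr rfl fun q _ => ?_
    obtain ⟨b, hb, e⟩ := key _ _ (QuotientGroup.out_conj_pow_minimalPeriod_mem T w q.out)
    have e2 : inclusion hB ⟨_, QuotientGroup.out_conj_pow_minimalPeriod_mem T w q.out⟩ =
        ⟨b, hb⟩ * inclusion hB ⟨w, hw⟩ ^ Function.minimalPeriod (w • ·) q.out * ⟨b, hb⟩⁻¹ :=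
      Subtype.ext e
    simp only [ϕ, MonoidHom.comp_apply, e2, map_mul, map_inv, map_pow, mul_inv_cancel_comm]
  have h2 : MonoidHom.transfer ϕ w = 1 :=
    Abelianization.commutator_subset_ker (MonoidHom.transfer ϕ) h
  have h3 : orderOf (ϕ ⟨w, hw⟩) ∣ orderOf w :=
    (orderOf_map_dvd ϕ _).trans (by rw [Subgroup.orderOf_mk])
  have h4 : (orderOf w).Coprime T.index := by
    rw [← relIndex_top_right]; exact (hS.piGrp.piElt hw).coprime hS.hall.compl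
  have h5 : ϕ ⟨w, hw⟩ = 1 := orderOf_eq_one_iff.1 (Nat.eq_one_of_dvd_coprimes h4 h3
    (orderOf_dvd_of_pow_eq_one (h1 ▸ h2)))
  rw [der_eq_map]
  exact ⟨inclusion hB ⟨w, hw⟩, by rw [← Abelianization.ker_of]; exact h5, rfl⟩

/-- an element of prime order `s` with `N(⟨w⟩) = C(w)` and small centralizer -/
structure Good (s : ℕ) (w : G) : Prop where
  ord : orderOf w = s
  nc : 𝐍(zpowers w) ≤ 𝐂[w]
  bd : ∀ P ≤ 𝐂[w], IsPGroup s P → ♯P ∣ s ^ 2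

omit [Finite G] in
theorem Good.conj (h : Good s w) (g : G) : Good s (g * w * g⁻¹) where
  ord := by rw [orderOf_conj, h.ord]
  nc := by rw [← conj_zpowers, norm_conj, cent1_conj]; exact conj_mono g h.nc
  bd P hP hs := by
    rw [← card_conj g⁻¹ P]
    exact h.bd _ (le_conj_iff_inv_conj_le.1 (cent1_conj g w ▸ hP)) (isPGroup_conj.2 hs)

theorem Good.fix (h : Good s w) (hg : g * w * g⁻¹ ∈ zpowers w) : g * w * g⁻¹ = w :=
  mem_cent1_iff_conj.1 (h.nc (mem_norm_of_conj_le (by rw [conj_zpowers]; exact zpowers_le.2 hg)))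

omit [Finite G] in
theorem Good.card (h : Good s w) : ♯(zpowers w) = s := by rw [Nat.card_zpowers, h.ord]

variable [hs : Fact s.Prime]

theorem Good.syl (h : Good s w) (hE : E ≤ 𝐂[w]) (hc : ♯E = s ^ 2) : Syl s E 𝐂[w] := by
  obtain ⟨P, hP⟩ := exists_syl s 𝐂[w]
  exact hP.of_card_le hE (isPGroup_of_card_prime_pow hc)
    (hc ▸ Nat.le_of_dvd (pow_pos hs.out.pos 2) (h.bd P hP.le hP.isPGroup))

theorem Good.mem (h : Good s w) (hE : Syl s E 𝐂[w]) : w ∈ E :=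
  zpowers_le.1 (hE.le_of_norm (zpowers_le.2 (mem_cent1_self w))
    (isPGroup_of_card_prime_pow (h.card.trans (pow_one s).symm))
    (Or.inl (le_norm_of_le_cent (cent_zpowers w ▸ hE.le))))

omit [Finite G] in
theorem sq_cases {a b : ℕ} (h1 : 1 < a) (h2 : a < b) (h3 : a ∣ b) (h4 : b ∣ s ^ 2) :
    a = s ∧ b = s ^ 2 := by
  obtain ⟨i, hi, rfl⟩ := (Nat.dvd_prime_pow hs.out).1 (h3.trans h4)
  obtain ⟨j, hj, rfl⟩ := (Nat.dvd_prime_pow hs.out).1 h4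
  have h5 := (Nat.pow_lt_pow_iff_right hs.out.one_lt).1 h2
  have h6 : i ≠ 0 := by rintro rfl; simp at h1
  obtain rfl : i = 1 := by omega
  obtain rfl : j = 2 := by omega
  simp

section big

variable (h : Good s w) (hT : IsPGroup s T) (hb : ¬ ♯T ∣ s ^ 2)
include h hT hb

omit hs [Finite G] in
theorem nz (g : G) : g * w * g⁻¹ ∉ Zc T := fun hc =>
  hb ((h.conj g).bd T (le_cent1_iff.2 hc.2) hT)

omit hs [Finite G] in
theorem nz' : w ∉ Zc T := by simpa using nz h hT hb 1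

variable (hw : w ∈ T)
include hw

omit hs [Finite G] h hT hb in
theorem ZE : Zc T ≤ T ⊓ 𝐂[w] := inf_le_inf_left _ (cent_le_cent1 hw)

theorem cards : ♯(Zc T) = s ∧ ♯(T ⊓ 𝐂[w] : Subgroup G) = s ^ 2 :=
  sq_cases (one_lt_card (Zc_ne_bot (nil_of_isPGroup hT) fun e => hb (by simp [e])))
    (card_lt (lt_of_le_of_ne (ZE hw) fun e => nz' h hT hb (e ▸ ⟨hw, mem_cent1_self w⟩)))
    (card_dvd (ZE hw)) (h.bd _ inf_le_right (hT.to_le inf_le_left))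

theorem sup : Zc T ⊔ zpowers w = T ⊓ 𝐂[w] := by
  refine eq_of_le_of_card_le (sup_le (ZE hw) (zpowers_le.2 ⟨hw, mem_cent1_self w⟩)) ?_
  rw [card_sup_of_inf_eq_bot (Or.inr ((zpowers_le.2 hw).trans (Zc_normal T).norm)), h.card,
    (cards h hT hb hw).1, (cards h hT hb hw).2, sq]
  rw [inf_comm]
  exact inf_eq_bot_of_prime (h.card ▸ hs.out) fun e => nz' h hT hb (zpowers_le.1 e)

theorem comm (hP : IsPGroup s P) (h1 : P ≤ 𝐍(T ⊓ 𝐂[w])) (h2 : P ≤ 𝐍(Zc T)) :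
    ⁅T ⊓ 𝐂[w], P⁆ ≤ Zc T := by
  have hn : T ⊓ 𝐂[w] ≤ 𝐍(Zc T) := inf_le_left.trans (Zc_normal T).norm
  have hc : ♯((T ⊓ 𝐂[w]) ⁒ Zc T) = s := by
    have := card_mul_card_quo (⟨ZE hw, hn⟩ : Zc T ⊴ (T ⊓ 𝐂[w]))
    rw [(cards h hT hb hw).1, (cards h hT hb hw).2, sq] at this
    exact Nat.eq_of_mul_eq_mul_left hs.out.pos this
  exact (quo_le_cent_iff hn h2).1 (le_of_prime_of_inf_ne_bot (hc ▸ hs.out)
    (inf_cent_ne_bot_of_isPGroup (isPGroup_quo hP _) (isPGroup_quo (hT.to_le inf_le_left) _)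
      (quo_le_norm _ h1) (ne_bot_of_prime_dvd hs.out (by rw [hc]))))

theorem comm' (hP : IsPGroup s P) (h1 : P ≤ 𝐍(T ⊓ 𝐂[w])) (h2 : P ≤ 𝐍(Zc T)) (hg : g ∈ P) :
    g * w * g⁻¹ * w⁻¹ ∈ Zc T :=
  comm h hT hb hw hP h1 h2 (commutator_comm P _ ▸ commutator_mem_commutator hg
    (show w ∈ T ⊓ 𝐂[w] from ⟨hw, mem_cent1_self w⟩))

theorem orbit {c : G} (hc : c ∈ Zc T) : ∃ u ∈ T ⊓ 𝐍(T ⊓ 𝐂[w]), u * w * u⁻¹ = c * w := by
  obtain ⟨u, hu, hu'⟩ := SetLike.exists_of_lt (lt_inf_norm_of_nil (nil_of_isPGroup hT)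
    (lt_of_le_of_ne (inf_le_left : T ⊓ 𝐂[w] ≤ T) fun e => hb (e ▸ (cards h hT hb hw).2.dvd)))
  have h1 := comm' h hT hb hw (hT.to_le inf_le_left) inf_le_right
    (inf_le_left.trans (Zc_normal T).norm) hu
  have h2 : u * w * u⁻¹ * w⁻¹ ≠ 1 := fun e => hu' ⟨hu.1, mem_cent1_iff_conj.2 (mul_inv_eq_one.1 e)⟩
  rw [← eq_zpowers_of_prime ((cards h hT hb hw).1 ▸ hs.out) h1 h2, ← mem_powers_iff_mem_zpowers] at hc
  obtain ⟨j, rfl⟩ := hc
  refine ⟨u ^ j, pow_mem hu j, ?_⟩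
  induction j with
  | zero => simp
  | succ j ih =>
    have h3 := mem_cent_iff_conj.1 (le_cent_Zc T hu.1) _ (pow_mem h1 j)
    simp only at ih ⊢
    calc u ^ (j + 1) * w * (u ^ (j + 1))⁻¹ = u * (u ^ j * w * (u ^ j)⁻¹) * u⁻¹ := by group
      _ = u * (u * w * u⁻¹ * w⁻¹) ^ j * u⁻¹ * (u * w * u⁻¹ * w⁻¹) * w := by rw [ih]; group
      _ = _ := by rw [h3, pow_succ]

theorem conj_mem (hg : g * w * g⁻¹ ∈ T ⊓ 𝐂[w]) : g * w * g⁻¹ * w⁻¹ ∈ Zc T := by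
  rw [← sup h hT hb hw, mem_sup_norm_left ((zpowers_le.2 hw).trans (Zc_normal T).norm)] at hg
  obtain ⟨c, hc, x, hx, e⟩ := hg
  rw [← mem_powers_iff_mem_zpowers] at hx
  obtain ⟨k, rfl⟩ := hx
  have h1 : k.Coprime s := ((Nat.coprime_or_dvd_of_prime hs.out k).resolve_right fun hk =>
    nz h hT hb g (by
      have : w ^ k = 1 := orderOf_dvd_iff_pow_eq_one.1 (h.ord ▸ hk)
      simp only [this, mul_one] at e
      exact e ▸ hc)).symm
  obtain ⟨m, hm⟩ := exists_pow_eq_self_of_coprime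
    (h1.coprime_dvd_right ((cards h hT hb hw).1 ▸ orderOf_dvd_card hc))
  obtain ⟨u, -, hu⟩ := orbit h hT hb hw (pow_mem hc m)
  have h2 : Commute (c ^ m) w := (mem_cent_iff.1 (pow_mem hc m).2 w hw).symm
  have h3 : (u⁻¹ * g) * w * (u⁻¹ * g)⁻¹ = w ^ k := by
    have : u * w ^ k * u⁻¹ = g * w * g⁻¹ := by
      rw [← conj_pow, hu, h2.mul_pow, ← pow_mul, mul_comm m, pow_mul, hm, e]
    calc _ = u⁻¹ * (g * w * g⁻¹) * u := by group
      _ = _ := by rw [← this]; group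
  have h4 := h.fix (h3 ▸ pow_mem (mem_zpowers w) k)
  have h5 : g * w * g⁻¹ = u * w * u⁻¹ := by
    calc _ = u * ((u⁻¹ * g) * w * (u⁻¹ * g)⁻¹) * u⁻¹ := by group
      _ = _ := by rw [h4]
  rw [h5, hu, mul_inv_cancel_right]
  exact pow_mem hc m

theorem fusion (hg : g * w * g⁻¹ ∈ T) : ∃ b ∈ 𝐍(Zc T), b * w * b⁻¹ = g * w * g⁻¹ ∧
    (g ∈ 𝐍(T ⊓ 𝐂[w]) → b = g) := by
  have h' := h.conj g
  have key : ∀ b, b * w * b⁻¹ = g * w * g⁻¹ → b •ᶜ (T ⊓ 𝐂[w]) ≤ T ⊓ 𝐂[g * w * g⁻¹] →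
      b ∈ 𝐍(Zc T) := fun b e hb' => mem_norm_of_conj_mem fun c hc => by
    obtain ⟨u, -, hu⟩ := orbit h hT hb hw hc
    have h1 := conj_mem h' hT hb hg (g := b * u * b⁻¹) (by
      have : b * u * b⁻¹ * (g * w * g⁻¹) * (b * u * b⁻¹)⁻¹ = b * (c * w) * b⁻¹ := by
        rw [← e, ← hu]; group
      rw [this]
      exact hb' (conj_mem_conj (mul_mem (ZE hw hc) ⟨hw, mem_cent1_self w⟩)))
    have : b * c * b⁻¹ = b * u * b⁻¹ * (g * w * g⁻¹) * (b * u * b⁻¹)⁻¹ * (g * w * g⁻¹)⁻¹ := by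
      rw [← e, eq_mul_inv_of_mul_eq hu.symm]; group
    exact this ▸ h1
  by_cases hn : g ∈ 𝐍(T ⊓ 𝐂[w])
  · refine ⟨g, key g rfl (le_inf ((conj_eq_of_mem_norm hn).le.trans inf_le_left) ?_), rfl, fun _ => rfl⟩
    rw [cent1_conj]
    exact conj_mono g inf_le_right
  obtain ⟨c, hc, hc'⟩ := (h'.syl inf_le_right (cards h' hT hb hg).2).exists_conj_le
    (Q := g •ᶜ (T ⊓ 𝐂[w])) (by rw [cent1_conj]; exact conj_mono g inf_le_right)
    (isPGroup_conj.2 (hT.to_le inf_le_left))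
  have e : c * g * w * (c * g)⁻¹ = g * w * g⁻¹ := by
    rw [← mem_cent1_iff_conj.1 hc]
    conv_lhs => rw [mul_inv_rev]
    group
  exact ⟨c * g, key _ e (conj_conj c g _ ▸ hc'), e, fun hn' => (hn hn').elim⟩

theorem norm_le : 𝐍(T ⊓ 𝐂[w]) ≤ 𝐍(Zc T) := fun g hg => by
  obtain ⟨b, hb, -, e⟩ := fusion h hT hb hw
    (conj_mem_of_norm hg (show w ∈ T ⊓ 𝐂[w] from ⟨hw, mem_cent1_self w⟩)).1
  exact e hg ▸ hb

theorem mem_norm (hg : g ∈ 𝐍(Zc T)) (h1 : coset (Zc T) g ∈ 𝐍(zpowers (coset (Zc T) w))) :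
    g ∈ 𝐍(T ⊓ 𝐂[w]) := by
  have hw' := (Zc_normal T).norm hw
  rw [← quo_zpowers hw'] at h1
  have := le_norm_sup_of_quo (zpowers_le.2 hg) (zpowers_le.2 hw')
    (by rw [quo_zpowers hg]; exact zpowers_le.2 h1)
  rw [sup_comm, sup h hT hb hw] at this
  exact zpowers_le.1 this

theorem coset_mem (hg : g ∈ 𝐍(T ⊓ 𝐂[w])) : coset (Zc T) g ∈ 𝐂[coset (Zc T) w] :=
  mem_cent1.2 ((coset_commute_iff (norm_le h hT hb hw hg) ((Zc_normal T).norm hw)).2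
    (conj_mem h hT hb hw (conj_mem_of_norm hg ⟨hw, mem_cent1_self w⟩)))

theorem good_quo : Good s (coset (Zc T) w) where
  ord := ((Nat.dvd_prime hs.out).1 (h.ord ▸ orderOf_coset_dvd _ w)).resolve_left fun e =>
    nz' h hT hb ((coset_eq_one_iff ((Zc_normal T).norm hw)).1 (orderOf_eq_one_iff.1 e))
  nc x hx := by
    obtain ⟨g, hg, rfl⟩ := exists_coset _ x
    exact coset_mem h hT hb hw (mem_norm h hT hb hw hg hx)
  bd P hP hp := by
    have h1 := isPGroup_quoPre (hT.to_le (Zc_le T)) hp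
    have h2 : 𝐂[w].relIndex (quoPre (Zc T) P) ≤ s := by
      rw [← E8.ncard_cls, ← (cards h hT hb hw).1, ← Nat.card_coe_set_eq]
      refine Nat.card_le_card_of_injective (fun y => (⟨y.1 * w⁻¹, ?_⟩ : Zc T)) fun x y e =>
        Subtype.ext (mul_right_cancel (congrArg Subtype.val e))
      obtain ⟨_, x, hx, rfl⟩ := y
      exact (coset_commute_iff (mem_quoPre.1 hx).1 ((Zc_normal T).norm hw)).1
        (mem_cent1.1 (hP (mem_quoPre.1 hx).2))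
    obtain ⟨j, hj⟩ := (isPiNum_singleton_iff hs.out (relIndex_pos _ _).ne').1
      ((piGrp_singleton h1).relIndex 𝐂[w])
    have h3 : 𝐂[w].relIndex (quoPre (Zc T) P) ∣ s := by
      rw [hj] at h2 ⊢
      simpa using pow_dvd_pow s ((Nat.pow_le_pow_iff_right hs.out.one_lt).1 (h2.trans (pow_one s).ge))
    have h4 := mul_dvd_mul (h.bd _ inf_le_left (h1.to_le inf_le_right)) h3
    rw [card_inf_mul_relIndex, card_quoPre, (cards h hT hb hw).1, mul_comm (s ^ 2)] at h4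
    exact Nat.dvd_of_mul_dvd_mul_left hs.out.pos h4

theorem step (hz : z ∈ 𝐂[w]) (hn : z ∈ 𝐍(T ⊓ 𝐂[w])) (hc : z * z ∉ 𝐂(T ⊓ 𝐂[w])) :
    ∃ (E' : Subgroup (Coset (Zc T))) (z' : Coset (Zc T)), E' ≤ 𝐂[coset (Zc T) w] ∧ ♯E' = s ^ 2 ∧
      z' ∈ 𝐂[coset (Zc T) w] ∧ z' ∈ 𝐍(E') ∧ z' * z' ∉ 𝐂(E') := by
  have hN := norm_le h hT hb hw
  have hK : (𝐍(T ⊓ 𝐂[w]) ⊓ 𝐂(Zc T)) ⊴ 𝐍(T ⊓ 𝐂[w]) := normalIn_inf_cent hN
  obtain ⟨R, hR, hTR⟩ := exists_syl_ge (show T ⊓ 𝐍(T ⊓ 𝐂[w]) ≤ 𝐍(T ⊓ 𝐂[w]) ⊓ 𝐂(Zc T) from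
    le_inf inf_le_right (inf_le_left.trans (le_cent_Zc T))) (hT.to_le inf_le_left)
  have hE : T ⊓ 𝐂[w] < T ⊓ 𝐍(T ⊓ 𝐂[w]) := lt_inf_norm_of_nil (nil_of_isPGroup hT)
    (lt_of_le_of_ne inf_le_left fun e => hb (e ▸ (cards h hT hb hw).2.dvd))
  have hRN : R ≤ 𝐍(Zc T) := (hR.le.trans inf_le_left).trans hN
  have hZR : Zc T ≤ R := ((ZE hw).trans hE.le).trans hTR
  have h1 : R ⁒ Zc T ≤ 𝐂[coset (Zc T) w] := fun x hx => by
    obtain ⟨r, hr, rfl⟩ := (mem_quo_of_le hRN).1 hx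
    exact coset_mem h hT hb hw (hR.le hr).1
  obtain ⟨k, hk, y, hy, rfl⟩ := (hR.frattini hK).mem_iff.1 hn
  refine ⟨R ⁒ Zc T, coset _ y, h1, ?_, coset_mem h hT hb hw hy.1, coset_mem_norm _ hy.2, fun e => hc ?_⟩
  · have h2 := (good_quo h hT hb hw).bd _ h1 (isPGroup_quo hR.isPGroup _)
    have h3 := card_lt (hE.trans_le hTR)
    rw [← card_mul_card_quo ⟨hZR, hRN⟩, (cards h hT hb hw).1, (cards h hT hb hw).2, sq] at h3
    have h4 := lt_of_mul_lt_mul_left h3 (Nat.zero_le _)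
    obtain ⟨j, hj, e⟩ := (Nat.dvd_prime_pow hs.out).1 h2
    rw [e] at h4 ⊢
    have := (Nat.pow_lt_pow_iff_right hs.out.one_lt).1 ((pow_one s).trans_lt h4)
    rw [show j = 2 by omega]
  have hy2 := hN (mul_mem hy.1 hy.1)
  have h2 : ⁅zpowers (y * y), R⁆ ≤ Zc T := (quo_le_cent_iff (zpowers_le.2 hy2) hRN).1 (by
    rw [quo_zpowers hy2, coset_mul (hN hy.1) (hN hy.1)]; exact zpowers_le.2 e)
  have h3 := three_subgroup (A := T ⊓ 𝐂[w]) (B := zpowers (y * y)) (H := R)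
    (commutator_eq_bot_iff'.2 ((hR.le.trans inf_le_right).trans (cent_anti
      (((commutator_comm _ _).le.trans (commutator_mono le_rfl (hE.le.trans hTR))).trans h2))))
    (commutator_eq_bot_iff'.2 ((inf_le_left.trans (le_cent_Zc T)).trans (cent_anti h2)))
  have h4 : y * y ∈ 𝐂(Zc T) := cent_anti (fun c hc => by
    obtain ⟨u, hu, e⟩ := orbit h hT hb hw hc
    rw [eq_mul_inv_of_mul_eq e.symm]
    exact commutator_mem_commutator (hTR hu) (show w ∈ T ⊓ 𝐂[w] from ⟨hw, mem_cent1_self w⟩))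
    (zpowers_le.1 (commutator_eq_bot_iff'.1 h3))
  rw [← sup h hT hb hw, cent_sup, cent_zpowers]
  refine ⟨?_, mul_mem hz hz⟩
  rw [show k * y * (k * y) = k * (y * k * y⁻¹) * (y * y) by group]
  exact mul_mem (mul_mem hk.2 (hK.conj_mem hy.1 hk).2) h4

end big

theorem base (h : Good s w) (hE : Syl s E ⊤) (hw : E ≤ 𝐂[w]) (hc : ♯E = s ^ 2) (hz : z ∈ 𝐂[w])
    (hn : z ∈ 𝐍(E)) (hy : z * z ∉ 𝐂(E)) (h4 : ¬ 4 ∣ ♯𝐍(E)) : 𝐍(E) ≤ 𝐂[w] := by
  have hm := h.mem (h.syl hw hc)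
  have ha : Ab E := Pf.B4.ab_of_card_le_sq hE.isPGroup hc.le
  by_cases hcy : IsCyclic E
  · refine (norm_le_norm_Ohm s E).trans (le_trans (le_of_eq ?_) h.nc)
    rw [IsEp.eq_Ohm_of_isCyclic (isEp_one_iff.2 ⟨zpowers_le.2 hm, h.card⟩) hcy]
  have he : IsElementaryAbelian s E := ⟨ha, fun x hx => by
    obtain ⟨j, hj, e⟩ := (Nat.dvd_prime_pow hs.out).1 (hc ▸ orderOf_dvd_card hx)
    refine orderOf_dvd_iff_pow_eq_one.1 (e ▸ ?_)
    have : j ≠ 2 := fun e2 => hcy (by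
      rw [← eq_of_le_of_card_le (zpowers_le.2 hx) (by rw [Nat.card_zpowers, e, e2, hc])]
      infer_instance)
    simpa using pow_dvd_pow s (show j ≤ 1 by omega)⟩
  have key : ∀ b ∈ 𝐍(E), b * w * b⁻¹ ∈ 𝐂[z * z] → b ∈ 𝐂[w] := fun b hb e => by
    have h1 : zpowers w ≤ E ⊓ 𝐂[z * z] := zpowers_le.2 ⟨hm, mem_cent1_comm.1 (mul_mem hz hz)⟩
    have h2 : E ⊓ 𝐂[z * z] < E := lt_of_le_of_ne inf_le_left fun e =>
      hy (le_cent1_iff.1 (e.ge.trans inf_le_right))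
    have h3 := (sq_cases (s := s) ((h.card ▸ hs.out.one_lt).trans_le (card_le h1)) (card_lt h2)
      (card_dvd h2.le) hc.dvd).1
    exact mem_cent1_iff_conj.2 (h.fix (eq_of_le_of_card_le h1 (h3.trans h.card.symm).le ▸
      ⟨conj_mem_of_norm hb hm, e⟩))
  obtain ⟨S, hS⟩ := exists_syl 2 𝐍(E)
  have hS2 : ♯S ∣ 2 := by
    obtain ⟨j, hj⟩ := IsPGroup.iff_card.1 hS.isPGroup
    have : ¬ 2 ≤ j := fun e => h4 ((pow_dvd_pow 2 e).trans (hj ▸ card_dvd hS.le))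
    simpa [hj] using pow_dvd_pow 2 (show j ≤ 1 by omega)
  have hO := cyclic_pdiv_normal_complement hS (isCyclic_of_card_dvd_prime hS2)
    fun q hq _ => hq.two_le
  have hzO : z * z ∈ Op' 2 𝐍(E) := by
    rw [← coset_eq_one_iff (hO.normal.norm (mul_mem hn hn)), ← sq, coset_pow (hO.normal.norm hn)]
    refine orderOf_dvd_iff_pow_eq_one.1 ((orderOf_dvd_card (coset_mem_quo _ hn)).trans ?_)
    rwa [card_quo hO.normal.norm, hO.relIndex_left]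
  have hd : der (Op' 2 𝐍(E)) ≤ 𝐂(E) := fun x hx => mem_of_constt_mem (π := {s})
    (ha.le_cent (hE.mem_of_mem_norm (mem_top _) (constt_mem _ (hO.left_le (der_le _ hx)))
      (piElt_constt _ _)))
    (der1_odd_norm_p2Elem he hc.le hO.left_le (Nat.not_even_iff_odd.1 fun e => not_dvd_Op' _ e.two_dvd)
      _ (constt_mem _ hx) (((Nat.Prime.coprime_iff_not_dvd hs.out).2
        ((isPiNum_compl_singleton hs.out).1 (piElt_constt _ _))).symm))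
  have hOw : Op' 2 𝐍(E) ≤ 𝐂[w] := fun o ho => key o (hO.left_le ho) (by
    have h1 := mem_cent_iff_conj.1 (hd (commutator_mem_commutator (inv_mem ho) hzO)) w hm
    have h2 := mem_cent1_iff_conj.1 (mul_mem hz hz)
    rw [mem_cent1_comm, mem_cent1_iff_conj]
    calc _ = o * (⁅o⁻¹, z * z⁆ * (z * z * w * (z * z)⁻¹) * ⁅o⁻¹, z * z⁆⁻¹) * o⁻¹ := by
          simp only [commutatorElement_def]; group
      _ = _ := by rw [h2, h1])
  intro b hb
  refine key b hb ?_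
  rw [mem_cent1_comm, cent1_conj, mem_conj]
  simpa using hOw (hO.normal.conj_mem (inv_mem hb) hzO)

theorem main (n : ℕ) : ∀ (G : Type u) [Group G] [Finite G] (w z : G) (E : Subgroup G),
    Nat.card G = n → Good s w → E ≤ 𝐂[w] → ♯E = s ^ 2 → z ∈ 𝐂[w] → z ∈ 𝐍(E) → z * z ∉ 𝐂(E) →
    (∀ D : Subgroup G, IsPGroup s D → (∀ g : G, ¬ D ≤ g •ᶜ zpowers w) → ¬ 4 ∣ ♯𝐍(D)) →
    w ∉ der (⊤ : Subgroup G) := by
  induction n using Nat.strong_induction_on with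
  | h n ih =>
  intro G _ _ w z E hG h hw hc hz hn hy h4
  have hE := h.syl hw hc
  obtain ⟨T, hT, hET⟩ := exists_syl_ge (le_top : E ≤ ⊤) hE.isPGroup
  by_cases hb : ♯T ∣ s ^ 2
  · obtain rfl : E = T := eq_of_le_of_card_le hET (hc ▸ Nat.le_of_dvd (pow_pos hs.out.pos 2) hb)
    refine W3.not_mem_der hT (Pf.B4.ab_of_card_le_sq hE.isPGroup hc.le) (h.mem hE)
      (fun e => hs.out.one_lt.ne' (by rw [← h.ord, e, orderOf_one]))
      (inf_le_right.trans (base h hT hw hc hz hn hy (h4 E hE.isPGroup fun g e => ?_)))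
    have := card_le e
    rw [card_conj, h.card, hc] at this
    nlinarith [hs.out.one_lt]
  have hp := hT.isPGroup
  have hm := hET (h.mem hE)
  obtain rfl : T ⊓ 𝐂[w] = E := hE.eq_of_le (le_inf hET hw) inf_le_right (hp.to_le inf_le_left)
  obtain ⟨E', z', h1, h2, h3, h5, h6⟩ := step h hp hb hm hz hn hy
  have hZ := (cards h hp hb hm).1
  have h7 := h4 _ (hp.to_le (Zc_le T)) fun g e => nz h hp hb g
    (eq_of_le_of_card_le e (by rw [card_conj, h.card, hZ]) ▸ conj_mem_conj (mem_zpowers w))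
  intro hd
  refine ih _ ?_ (Coset (Zc T)) _ z' E' rfl (good_quo h hp hb hm) h1 h2 h3 h5 h6
    (fun D _ _ e => h7 (e.trans ((card_dvd (le_top.trans (quo_norm _).ge)).trans (card_quo_dvd _ _))))
    ?_
  · rw [← hG, ← card_top (G := G), ← card_top (G := Coset _), ← top_quo]
    exact card_quo_lt le_top (ne_bot_of_prime_dvd hs.out hZ.symm.dvd)
  rw [← quo_norm, ← quo_der le_rfl]
  refine coset_mem_quo _ (mem_der_of_fusion hT (Zc_normal T).norm hm (fun k g hg => ?_) hd)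
  rcases Nat.coprime_or_dvd_of_prime hs.out k with hk | hk
  · obtain ⟨m, e⟩ := exists_pow_eq_self_of_coprime (h.ord ▸ hk.symm : k.Coprime (orderOf w))
    obtain ⟨b, hb, e, -⟩ := fusion h hp hb hm (g := g⁻¹) (by
      have := pow_mem hg m
      rwa [← inv_inv g, inv_inv g⁻¹, conj_pow, e] at this)
    exact ⟨b, hb, by rw [← conj_pow, e, conj_pow, inv_inv]⟩
  · exact ⟨1, one_mem _, by simp [orderOf_dvd_iff_pow_eq_one.1 (h.ord ▸ hk)]⟩

end Cfsg.Agent.JR.MCx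

namespace Cfsg.Agent.JR

open Subgroup Cfsg.Agent.OO Cfsg.Agent.Coprime

universe u

theorem mc : MC.{u} := by
  intro G _ _ s w z E _ h2 hs ho hnc hE hc hz hn hy hodd h4 hd
  have : Fact s.Prime := ⟨by rcases hs with rfl | rfl | rfl <;> norm_num⟩
  refine MCx.main _ G w z E rfl ⟨ho, hnc, fun P hP hp => hc ▸ hE.card_dvd hP hp⟩ hE.le hc hz hn
    (fun e => hy ?_) (fun D hD hg e => ?_) (by rw [hd]; trivial)
  · obtain ⟨m, hm⟩ := exists_pow_eq_self_of_coprime (Nat.coprime_two_left.2 hodd)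
    rw [← hm, sq]
    exact pow_mem e m
  obtain ⟨K, hK⟩ := Sylow.exists_subgroup_card_pow_prime (G := 𝐍(D)) 2 (n := 2) e
  have h1 : ∀ x : K, (x.1.1 : G) * x.1.1 = 1 := fun x => h2 _ (by
    have : x ^ 4 = 1 := by rw [show 4 = Nat.card K by rw [hK]; rfl]; exact pow_card_eq_one'
    exact congrArg (·.1.1) this)
  have := Fintype.ofFinite K
  obtain ⟨a, b, c, hab, hac, hbc⟩ := Fintype.two_lt_card_iff.1
    (show 2 < Fintype.card K by rw [← Nat.card_eq_fintype_card, hK]; norm_num)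
  have hi : ∀ {x y : K}, (x.1.1 : G) = y.1.1 → x = y := fun e => Subtype.ext (Subtype.ext e)
  obtain ⟨g, e⟩ := h4 D (a⁻¹ * b).1.1 (a⁻¹ * c).1.1 hD (fun e => hab (inv_mul_eq_one.1 (hi e)))
    (fun e => hac (inv_mul_eq_one.1 (hi e))) (fun e => hbc (mul_left_cancel (hi e))) (h1 _) (h1 _)
    (by
      have h3 := mul_eq_one_iff_eq_inv.1 (h1 ((a⁻¹ * b) * (a⁻¹ * c)))
      rwa [coe_mul, coe_mul, mul_inv_rev, ← mul_eq_one_iff_eq_inv.1 (h1 _),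
        ← mul_eq_one_iff_eq_inv.1 (h1 _)] at h3) (a⁻¹ * b).1.2 (a⁻¹ * c).1.2
  exact hg g e

end Cfsg.Agent.JR
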