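import Mathlib

/-!
# Arithmetic for the order formula of a group of Ree type
-/

set_option autoImplicit false

namespace Cfsg.Agent.JR.C2

/-- the quintic of case II -/
def Fp (A Q : ℤ) : ℤ :=
  (Q + 1) * (Q - 1) * (A + 1) * ((2 * A + (Q - 1) ^ 2) *
    ((Q + 1) * ((Q + 1) ^ 2 * (Q - 1) * A * (A + 1)) - (A + 2) * Q * (A - Q + 1) ^ 2) +
      4 * A * (Q + 1) ^ 2 * Q * (A - Q + 1) ^ 2) -
    ((Q + 1) * ((Q + 1) ^ 2 * (Q - 1) * A * (A + 1)) - (A + 2) * Q * (A - Q + 1) ^ 2) *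
      (2 * Q + 7) * Q * (A - Q + 1) ^ 2

theorem Fp_ne {A Q : ℤ} (hA : 2 ≤ |A|) (hQ : 11 ≤ |Q|) : Fp A Q ≠ 0 := fun h => by
  have key : 0 < 4 * (7 * Q ^ 2 + 2 * Q) * A * Fp A Q - A ^ 4 * (2 * (7 * Q ^ 2 + 2 * Q) * A +
      (-4 * Q ^ 5 - 10 * Q ^ 4 - 30 * Q ^ 3 + 42 * Q ^ 2 + 18 * Q + 2)) ^ 2 := by
    clear h
    obtain ⟨b, hb, e⟩ : ∃ b : ℤ, 0 ≤ b ∧ (A = b + 2 ∨ A = -(b + 2)) :=
      ⟨|A| - 2, by omega, by rcases abs_choice A with e | e <;> omega⟩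
    obtain ⟨s, hs, e'⟩ : ∃ s : ℤ, 0 ≤ s ∧ (Q = s + 11 ∨ Q = -(s + 11)) :=
      ⟨|Q| - 11, by omega, by rcases abs_choice Q with e | e <;> omega⟩
    clear hA hQ
    rcases e with rfl | rfl <;> rcases e' with rfl | rfl <;> · unfold Fp; ring_nf; positivity
  rw [h] at key
  nlinarith [mul_nonneg (by positivity : 0 ≤ A ^ 4) (sq_nonneg (2 * (7 * Q ^ 2 + 2 * Q) * A +
      (-4 * Q ^ 5 - 10 * Q ^ 4 - 30 * Q ^ 3 + 42 * Q ^ 2 + 18 * Q + 2)))]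

variable {Q n N a b c l m ν : ℤ}

theorem numII (hQ : Q + 1 = 2 * n) (h11 : 11 ≤ |Q|) (a0 : a ≠ 0) (N0 : N ≠ 0)
    (hc : 1 + c + a = n * N) (c0 : c ≠ 0) (hb : 1 + a + a + b = 0)
    (E1 : (Q : ℂ) ^ 2 * N * (1 + (1 - n) ^ 2 / a + (1 - n) ^ 2 / a + Q ^ 2 / b) =
      Q * (Q + 1) ^ 2 * (Q - 1))
    (E2 : (Q : ℂ) ^ 2 * N * (1 + (2 * n) ^ 2 / c + (1 - n) ^ 2 / a - n ^ 2 / (n * N)) =
      Q ^ 2 * (Q + 1) * (Q + 3)) : False := by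
  have Q0 : Q ≠ 0 := by omega
  have n0 : n ≠ 0 := by rintro rfl; rw [show Q = -1 by omega] at h11; simp at h11
  have b0 : b ≠ 0 := by omega
  have e1 : Q ^ 2 * N * (a * b + 2 * (1 - n) ^ 2 * b + Q ^ 2 * a) = Q * (Q + 1) ^ 2 * (Q - 1) * (a * b) := by
    have : (a : ℂ) ≠ 0 ∧ (b : ℂ) ≠ 0 := by exact_mod_cast And.intro a0 b0
    obtain ⟨_, _⟩ := this
    apply Int.cast_injective (α := ℂ)
    push_cast
    rw [← E1]; field_simp; ring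
  have e2 : Q ^ 2 * (N * (a * c + 4 * n ^ 2 * a + (1 - n) ^ 2 * c) - n * (a * c)) =
      Q ^ 2 * (Q + 1) * (Q + 3) * (a * c) := by
    have : (a : ℂ) ≠ 0 ∧ (c : ℂ) ≠ 0 ∧ (n : ℂ) ≠ 0 ∧ (N : ℂ) ≠ 0 := by simp [*]
    obtain ⟨_, _, _, _⟩ := this
    apply Int.cast_injective (α := ℂ)
    push_cast
    rw [← E2]; field_simp; ring
  obtain rfl : Q = 2 * n - 1 := by omega
  obtain rfl : b = -1 - 2 * a := by omega
  obtain rfl : c = n * N - 1 - a := by omega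
  set Q := 2 * n - 1 with hQ'
  have e3 : (Q + 1) ^ 2 * (Q - 1) * (2 * a) * (2 * a + 1) = Q * N * (2 * a - Q + 1) ^ 2 :=
    mul_left_cancel₀ Q0 (by rw [hQ'] at *; linear_combination 2 * e1)
  have e4 := mul_left_cancel₀ (pow_ne_zero 2 Q0) (e2.trans (by rw [mul_assoc, mul_assoc]))
  refine Fp_ne (A := 2 * a) (by
    have := abs_nonneg (2 * a); rcases abs_choice (2 * a) with e | e <;> omega) h11 (mul_left_cancel₀ (mul_ne_zero (mul_ne_zero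
      two_ne_zero a0) (show Q + 1 ≠ 0 by omega)) ?_)
  have e5 : 2 * a * (Q + 1) * Fp (2 * a) Q = ((Q + 1) ^ 2 * (Q - 1) * (2 * a) * (2 * a + 1)) *
      ((2 * (2 * a) + (Q - 1) ^ 2) * ((Q + 1) * ((Q + 1) ^ 2 * (Q - 1) * (2 * a) * (2 * a + 1)) -
        (2 * a + 2) * Q * (2 * a - Q + 1) ^ 2) + 4 * (2 * a) * (Q + 1) ^ 2 * Q * (2 * a - Q + 1) ^ 2) -
      2 * a * (Q + 1) * (((Q + 1) * ((Q + 1) ^ 2 * (Q - 1) * (2 * a) * (2 * a + 1)) -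
        (2 * a + 2) * Q * (2 * a - Q + 1) ^ 2) * (2 * Q + 7) * Q * (2 * a - Q + 1) ^ 2) := by
    unfold Fp; ring
  rw [e5, e3, hQ'] at *
  linear_combination 8 * ((2 * n - 1) * (2 * a - (2 * n - 1) + 1) ^ 2) ^ 2 * e4

theorem numIb (hQ : Q + 1 = 2 * n) (h11 : 11 ≤ |Q|) (a0 : a ≠ 0) (b0 : b ≠ 0) (N0 : N ≠ 0)
    (hc : 1 + a + b = n * N) (hn : n - 1 = m * ν) (hl : Prime l) (l2 : ¬ l ∣ 2) (lm : l ∣ m)
    (lν : ¬ l ∣ ν) (m0 : m ≠ 0) (ha : m ∣ a - 1) (hb : m ∣ b - 1)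
    (E2 : (Q : ℂ) ^ 2 * N * (1 + 1 / a + n ^ 2 / b - n ^ 2 / (n * N)) =
      Q ^ 2 * (Q + 1) * (Q + 3)) : False := by
  have Q0 : Q ≠ 0 := by omega
  have n0 : n ≠ 0 := by rintro rfl; rw [show Q = -1 by omega] at h11; simp at h11
  have e2 : Q ^ 2 * (N * (a * b + b + n ^ 2 * a) - n * (a * b)) =
      Q ^ 2 * ((Q + 1) * (Q + 3) * (a * b)) := by
    have : (a : ℂ) ≠ 0 ∧ (b : ℂ) ≠ 0 ∧ (n : ℂ) ≠ 0 ∧ (N : ℂ) ≠ 0 := by simp [*]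
    obtain ⟨_, _, _, _⟩ := this
    apply Int.cast_injective (α := ℂ)
    push_cast
    rw [← mul_assoc _ (_ * _), ← mul_assoc _ (_ + _) (_ + _), ← E2]; field_simp
  have e3 : (1 + a + b) * (a * b + b + n ^ 2 * a) = n ^ 2 * (4 * n + 5) * (a * b) := by
    have := mul_left_cancel₀ (pow_ne_zero 2 Q0) e2
    rw [show Q = 2 * n - 1 by omega] at this
    rw [hc]; linear_combination n * this
  obtain ⟨σ, hσ⟩ := ha
  obtain ⟨β, hβ⟩ := hb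
  obtain ⟨d, hd⟩ := lm
  rw [show a = 1 + m * σ by omega, show b = 1 + m * β by omega, show n = 1 + m * ν by omega] at e3
  have e4 : l ∣ 2 ^ 4 * ν := ⟨d * (2 * β ^ 2 + 7 * β * σ + 2 * σ ^ 2 - 9 * β * σ - 22 * ν * (β + σ) +
    2 * ν * (4 * σ + β) - 14 * ν ^ 2 + m * (σ * β * (σ + β) - 22 * ν * σ * β + 2 * ν * σ * (σ + β) -
      17 * ν ^ 2 * (σ + β) + ν ^ 2 * (4 * σ + β) - 4 * ν ^ 3) + m ^ 2 * (ν ^ 2 * σ * (σ + β) -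
        17 * ν ^ 2 * σ * β - 4 * ν ^ 3 * (σ + β)) - m ^ 3 * (4 * ν ^ 3 * σ * β)),
    mul_left_cancel₀ m0 (by rw [← mul_assoc l, ← hd]; linear_combination -e3)⟩
  exact (hl.dvd_or_dvd e4).elim (fun h => l2 (hl.dvd_of_dvd_pow h)) lν

theorem numIa (hQ : Q + 1 = 2 * n) (h11 : 11 ≤ |Q|) (a0 : a ≠ 0) (b0 : b ≠ 0) (c0 : c ≠ 0)
    (N0 : N ≠ 0) (hc : 1 - N + Q * N + c = 0) (hb : 1 - N + a + b = 0)
    (E1 : (Q : ℂ) ^ 2 * N * (1 - 1 / N + Q ^ 2 / (Q * N) + Q ^ 2 / c) = Q * (Q + 1) ^ 2 * (Q - 1))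
    (E2 : (Q : ℂ) ^ 2 * N * (1 - 1 / N + n ^ 2 / a + n ^ 2 / b) = Q ^ 2 * (Q + 1) * (Q + 3)) :
    N = Q ^ 2 + Q + 1 ∧ 3 * (a - b) ^ 2 = -Q * (Q ^ 2 - 1) ^ 2 := by
  have Q0 : Q ≠ 0 := by omega
  have hQ' : 11 ≤ Q ∨ Q ≤ -11 := by rcases abs_choice Q with e | e <;> omega
  have : (a : ℂ) ≠ 0 ∧ (b : ℂ) ≠ 0 ∧ (c : ℂ) ≠ 0 ∧ (N : ℂ) ≠ 0 ∧ (Q : ℂ) ≠ 0 := by simp [*]
  obtain ⟨_, _, _, _, _⟩ := this
  have e1 : Q ^ 2 * ((N - 1 + Q) * c + Q ^ 2 * N) = Q * (Q + 1) ^ 2 * (Q - 1) * c := by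
    apply Int.cast_injective (α := ℂ)
    push_cast
    rw [← E1]; field_simp
  have e2 : Q ^ 2 * ((N - 1) * (a * b) + N * n ^ 2 * (a + b)) =
      Q ^ 2 * ((Q + 1) * (Q + 3) * (a * b)) := by
    apply Int.cast_injective (α := ℂ)
    push_cast
    rw [← mul_assoc _ (_ * _), ← mul_assoc _ (_ + _) (_ + _), ← E2]; field_simp; ring
  have e3 : Q * (Q - 1) * (Q * N + 1) * (N - (Q ^ 2 + Q + 1)) = 0 := by
    rw [show c = N - 1 - Q * N by omega] at e1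
    linear_combination -e1
  have e4 : N = Q ^ 2 + Q + 1 := by
    refine sub_eq_zero.1 ((mul_eq_zero.1 e3).resolve_left (mul_ne_zero (mul_ne_zero Q0 (by omega))
      fun e => ?_))
    have := Int.le_of_dvd one_pos ((abs_dvd _ _).2 ⟨-N, by linear_combination e⟩ : |Q| ∣ 1)
    omega
  have e5 := mul_left_cancel₀ (pow_ne_zero 2 Q0) e2
  rw [show a + b = N - 1 by omega, e4] at e5
  have e6 : 3 * (a * b) = (Q ^ 2 + Q + 1) * n ^ 2 * Q :=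
    mul_left_cancel₀ (show Q + 1 ≠ 0 by omega) (by linear_combination -e5)
  refine ⟨e4, ?_⟩
  have e7 : a + b = Q ^ 2 + Q := by omega
  linear_combination 3 * (a + b + Q ^ 2 + Q) * e7 - 4 * e6 +
    (Q ^ 2 + Q + 1) * Q * (Q + 1 + 2 * n) * hQ

theorem eq_three {p f : ℕ} {X Y : ℤ} (hp : p.Prime) (hf : Odd f) (hY : Y ≠ 0)
    (h : 3 * X ^ 2 = p ^ f * Y ^ 2) : p = 3 := by
  by_contra h3
  haveI := Fact.mk hp
  haveI : Fact (Nat.Prime 3) := ⟨Nat.prime_three⟩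
  have hY' := Int.natAbs_ne_zero.2 hY
  have e : 3 * X.natAbs ^ 2 = p ^ f * Y.natAbs ^ 2 := by
    simpa [Int.natAbs_mul, Int.natAbs_pow] using congrArg Int.natAbs h
  have hX : X.natAbs ≠ 0 := fun e' => by
    rw [e'] at e
    exact mul_ne_zero (pow_ne_zero f hp.ne_zero) (pow_ne_zero 2 hY') (by omega)
  have := congrArg (padicValNat p) e
  rw [padicValNat.mul (by omega) (pow_ne_zero 2 hX), padicValNat.mul (pow_ne_zero f hp.ne_zero)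
    (pow_ne_zero 2 hY'), padicValNat.prime_pow, padicValNat.pow, padicValNat.pow,
    padicValNat_primes h3] at this
  obtain ⟨j, rfl⟩ := hf
  omega

end Cfsg.Agent.JR.C2
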