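import Cfsg.Agent.Lib.JR.KBase
import Cfsg.Agent.Lib.ZG.Count
import Cfsg.Agent.Lib.Perm.FourGroup
import Cfsg.Agent.Lib.Core.Ord1092

/-!
# Groups of Janko type: centralizers of the elements of order 3 and 5
-/

set_option autoImplicit false

namespace Cfsg.Agent.JR.Q5x

open Subgroup Cfsg.Agent.OO Cfsg.Agent.Coprime Cfsg.Agent.R1 Cfsg.Agent.GW Cfsg.Agent.ZG
open scoped commutatorElement Pointwise

universe u

variable {G : Type u} [Group G] {P X Y : Subgroup G} {a b g k s u v w x y z : G} {p r n : ℕ}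

variable (G) in
/-- the centralizers of involutions look like `2 × A₅` -/
structure J : Prop where
  ab2 : Ab2 G
  sq : ∀ x : G, PiElt {2} x → x * x = 1
  conj : ∀ a b : G, a ≠ 1 → a * a = 1 → b ≠ 1 → b * b = 1 → ∃ g, g * a * g⁻¹ = b
  card : ∀ u : G, u ≠ 1 → u * u = 1 → ♯𝐂[u] = 120
  odd : ∀ u : G, u ≠ 1 → u * u = 1 → ∀ y ∈ 𝐂[u], y ≠ 1 → Odd (orderOf y) →
    (orderOf y = 3 ∨ orderOf y = 5) ∧
      (∀ g ∈ 𝐂[u], g ∈ 𝐂[y] → g ∈ zpowers y ∨ g * u ∈ zpowers y) ∧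
      ∃ v ∈ 𝐂[u], v * v = 1 ∧ v * y * v⁻¹ = y⁻¹

/-- `x` is centralized by `u` and inverted by `v` -/
structure Tr (u v x : G) : Prop where
  u1 : u ≠ 1
  u2 : u * u = 1
  v2 : v * v = 1
  uv : v ∈ 𝐂[u]
  xu : x ∈ 𝐂[u]
  x1 : x ≠ 1
  xo : Odd (orderOf x)
  inv : v * x * v⁻¹ = x⁻¹

theorem par_five {k : ℕ} (h : Par 5 r k) : r = 3 ∧ k = 1 := by
  obtain ⟨-, -, h⟩ := h
  omega

theorem mul_sq (u2 : u * u = 1) (v2 : v * v = 1) (h : v ∈ 𝐂[u]) : u * v * (u * v) = 1 := by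
  rw [mul_assoc, ← mul_assoc v, mem_cent1.1 h, mul_assoc, v2, mul_one, u2]

theorem mem_zp3 (x3 : orderOf x = 3) (h : y ∈ zpowers x) : y = 1 ∨ y = x ∨ y = x⁻¹ := by
  classical
  rw [IsOfFinOrder.mem_zpowers_iff_mem_range_orderOf (by rw [← orderOf_pos_iff, x3]; decide), x3] at h
  obtain ⟨i, hi, rfl⟩ := Finset.mem_image.1 h
  have : x ^ 2 = x⁻¹ := eq_inv_of_mul_eq_one_left (by rw [← pow_succ, ← pow_orderOf_eq_one x, x3])
  rw [Finset.mem_range] at hi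
  interval_cases i <;> simp [this]

theorem norm_le_ext (x3 : orderOf x = 3) : 𝐍(zpowers x) ≤ ext x := fun _ hg =>
  (mem_zp3 x3 (conj_mem_of_norm hg (mem_zpowers x))).resolve_left
    (conj_ne_one.2 fun e => by simp [e] at x3)

variable [Finite G]

theorem j_of {k : ℕ} (h : KK.Gl1 G p 5 r k) : J G := by
  refine ⟨h.ab2, h.sq, h.conj, fun u u1 u2 => ?_, fun u u1 u2 y hy y1 ho => ?_⟩ <;>
    have l := h.lf u u1 u2 <;> obtain ⟨rfl, rfl⟩ := par_five l.par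
  · have h1 := card_mul_relIndex (KK.Ld_le u)
    rw [show (KK.Ld u).relIndex 𝐂[u] = 2 from index_eq_two_iff.2 ⟨⟨u, mem_cent1_self u⟩, fun g => by
      by_cases e : (g : G) ∈ KK.Ld u
      · exact Or.inr ⟨e, fun e' => h.nmem u u1 u2 ((mul_mem_cancel_left e).1 e')⟩
      · exact Or.inl ⟨(h.full u u1 u2 g g.2).resolve_left e, e⟩⟩, l.card] at h1
    exact h1.symm
  have k1 : ∀ g ∈ 𝐂[u], g ∈ 𝐂[y] → KK.Ld u ⊓ 𝐂[y] = zpowers y →
      g ∈ zpowers y ∨ g * u ∈ zpowers y := fun g hg hg' e =>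
    (h.full u u1 u2 g hg).imp (fun e' => e ▸ ⟨e', hg'⟩) fun e' =>
      e ▸ ⟨e', mul_mem hg' (mem_cent1_comm.1 hy)⟩
  have yL : y ∈ KK.Ld u := KK.mem_of_sq_mem ho (by
    rcases h.full u u1 u2 y hy with e | e
    · exact mul_mem e e
    · have := mul_mem e e
      rwa [mul_assoc, ← mul_assoc u, ← mem_cent1.1 hy, mul_assoc, u2, mul_one] at this)
  obtain ⟨T, hT, h1 | h1 | h1⟩ := l.part y yL y1
  · have h2 := eq_zpowers_of_prime (h1.card ▸ Nat.prime_five) hT y1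
    have h3 : orderOf y = 5 := by rw [← Nat.card_zpowers, h2, h1.card]
    obtain ⟨j, hj, j2⟩ := cauchy (p := 2) (H := KK.Ld u ⊓ 𝐍(T)) Nat.prime_two
      (by have := h1.card_norm; omega)
    have j3 : j * j = 1 := by rw [← pow_two, ← j2, pow_orderOf_eq_one]
    refine ⟨.inr h3, fun g hg hg' => k1 g hg hg' (h2 ▸ h1.cent y hT y1), j, KK.Ld_le u hj.1, j3,
      (conj_cases (h3 ▸ Nat.prime_five) (h2 ▸ conj_mem_of_norm hj.2 hT) (by rw [j3]; group)).resolve_left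
        fun e => ?_⟩
    have := orderOf_dvd_card (h1.cent y hT y1 ▸ ⟨hj.1, mem_cent1_iff_conj.2 e⟩ : j ∈ T)
    rw [j2, h1.card] at this
    omega
  · have h2 := eq_zpowers_of_prime (h1.card ▸ Nat.prime_three) hT y1
    obtain ⟨j, hj, -, j2, j3⟩ := KK.tor_exists_inv h1
    exact ⟨.inl (by rw [← Nat.card_zpowers, h2, h1.card]), fun g hg hg' =>
      k1 g hg hg' (h2 ▸ KK.tor_cent h1 hT (KK.ne_sq ho y1)), j, KK.Ld_le u hj, j2, j3 y hT⟩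
  · have := orderOf_dvd_card hT
    rw [h1.card] at this
    exact absurd (orderOf_eq_one_iff.1 ((Nat.coprime_two_right.2 ho).eq_one_of_dvd this)) y1

theorem syl_zp (hp : p.Prime) (hx : orderOf x = p) (h1 : x ∈ X) (h : ¬ p ^ 2 ∣ ♯X) :
    Syl p (zpowers x) X := by
  have := Fact.mk hp
  refine ⟨zpowers_le.2 h1, Core.isPGroup_zpowers_of_orderOf (k := 1) (by rw [hx, pow_one]), fun e => h ?_⟩
  rw [← card_mul_relIndex (zpowers_le.2 h1), Nat.card_zpowers, hx, sq]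
  exact mul_dvd_mul_left p e

theorem not_sq_dvd (hp : p.Prime) (hx : orderOf x = p) (h : ¬ p ^ 2 ∣ ♯𝐂[x]) :
    ¬ p ^ 2 ∣ Nat.card G := by
  have := Fact.mk hp
  have h1 := card_mul_relIndex (cent_normal x).le
  have h2 := Ord1092.relIndex_cent_dvd (P := zpowers x) inferInstance
  rw [cent_zpowers, Nat.card_zpowers, hx, Nat.totient_prime hp] at h2
  have h3 : (p ^ 2).Coprime (𝐂[x].relIndex 𝐍(zpowers x)) := ((Nat.coprime_self_sub_right hp.one_le).2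
    (Nat.coprime_one_right p)).coprime_dvd_right h2 |>.pow_left 2
  have h4 := IsSylowIn.of_syl_norm le_top (top_inf_eq 𝐍(zpowers x) ▸ syl_zp hp hx (le_normalizer (mem_zpowers x))
    fun e => h (h3.dvd_of_dvd_mul_right (h1 ▸ e)))
  intro e
  rw [← card_mul_index (zpowers x), Nat.card_zpowers, hx, sq] at e
  exact h4.not_dvd (by rw [relIndex_top_right]; exact Nat.dvd_of_mul_dvd_mul_left hp.pos e)

namespace J

variable (h : J G)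
include h

theorem sq' (e : x ^ 2 ^ n = 1) : x * x = 1 :=
  h.sq x (isPGroup_zpowers_iff.1 (Core.isPGroup_zpowers_of_pow_eq_one e))

theorem no_swap (a2 : a * a = 1) (z2 : z * z = 1) (hc : a * z = z * a) (h1 : k * a * k⁻¹ = z)
    (h2 : k * z * k⁻¹ = a) : a = z := by
  obtain ⟨e, m, ⟨j, hj⟩, hm⟩ := Nat.exists_eq_two_pow_mul_odd (orderOf_pos k).ne'
  have s2 : k ^ m * k ^ m = 1 := h.sq' (n := e) (by
    rw [← pow_mul, mul_comm, ← hm, pow_orderOf_eq_one])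
  have c : (k ^ 2) ^ j ∈ 𝐂[a] := pow_mem (mem_cent1_iff_conj.2 (by
    rw [show k ^ 2 * a * (k ^ 2)⁻¹ = k * (k * a * k⁻¹) * k⁻¹ by simp [pow_two, mul_assoc], h1, h2])) j
  have s1 : k ^ m * a * (k ^ m)⁻¹ = z := by
    rw [hj, pow_succ', pow_mul, mul_inv_rev, ← h1]
    nth_rewrite 2 [← mem_cent1_iff_conj.1 c]
    simp only [mul_assoc]
  rw [inv_eq s2] at s1
  have e1 : k ^ m * a * (k ^ m * a) = z * a := by rw [← s1]; simp only [mul_assoc]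
  have e2 := h.sq' (x := k ^ m * a) (n := 2) (by
    rw [show 2 ^ 2 = 2 * 2 from rfl, pow_mul, pow_two, pow_two, e1, mul_assoc, ← mul_assoc a, hc,
      mul_assoc, a2, mul_one, z2])
  rw [e1] at e2
  rw [eq_inv_of_mul_eq_one_right e2, inv_eq z2]

theorem exists_tr (u1 : u ≠ 1) (u2 : u * u = 1) (hp : p = 3 ∨ p = 5) :
    ∃ v x, Tr u v x ∧ orderOf x = p := by
  obtain ⟨x, hx, e⟩ := cauchy (p := p) (H := 𝐂[u]) (by rcases hp with rfl | rfl <;> decide)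
    (by rw [h.card u u1 u2]; rcases hp with rfl | rfl <;> decide)
  have x1 : x ≠ 1 := by rintro rfl; rw [orderOf_one] at e; omega
  have xo : Odd (orderOf x) := by rw [e]; rcases hp with rfl | rfl <;> decide
  obtain ⟨-, -, v, h1, h2, h3⟩ := h.odd u u1 u2 x hx x1 xo
  exact ⟨v, x, ⟨u1, u2, h2, h1, hx, x1, xo, h3⟩, e⟩

end J

namespace Tr

variable (c : Tr u v x)
include c

omit [Finite G] in
theorem vC : v ∉ 𝐂[x] := not_cent_of_inv c.xo c.x1 c.inv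

omit [Finite G] in
theorem uC : u ∈ 𝐂[x] := mem_cent1_comm.1 c.xu

omit [Finite G] in
theorem v1 : v ≠ 1 := fun e => c.vC (e ▸ one_mem _)

omit [Finite G] in
theorem mul : Tr u (u * v) x :=
  { c with
    v2 := mul_sq c.u2 c.v2 c.uv
    uv := mul_mem (mem_cent1_self u) c.uv
    inv := by
      rw [show u * v * x * (u * v)⁻¹ = u * (v * x * v⁻¹) * u⁻¹ by group, c.inv,
        mem_cent1_iff_conj.1 (cent1_inv x ▸ c.uC)] }

omit [Finite G] in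
theorem conj (g : G) : Tr (g * u * g⁻¹) (g * v * g⁻¹) (g * x * g⁻¹) :=
  ⟨conj_ne_one.2 c.u1, conj_sq c.u2 g, conj_sq c.v2 g, cent1_conj g u ▸ conj_mem_conj c.uv,
    cent1_conj g u ▸ conj_mem_conj c.xu, conj_ne_one.2 c.x1, orderOf_conj g x ▸ c.xo,
    conj_inv_conj' c.inv g⟩

theorem vN : v ∈ 𝐍(zpowers x) := KK.mem_norm_of_inv c.inv

omit [Finite G] in
theorem uO : u ∈ 𝐍(O 𝐂[x]) := le_norm_Opi _ le_normalizer c.uC

theorem vO : v ∈ 𝐍(O 𝐂[x]) := le_norm_Opi _ (cent_normal x).norm c.vN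

variable (h : J G)
include h

omit [Finite G] in
theorem ord : orderOf x = 3 ∨ orderOf x = 5 := (h.odd u c.u1 c.u2 x c.xu c.x1 c.xo).1

omit [Finite G] in
theorem prime : (orderOf x).Prime := by rcases c.ord h with e | e <;> rw [e] <;> decide

theorem syl : Syl 2 (zpowers u) 𝐂[x] := by
  obtain ⟨S, hS, hle⟩ := exists_syl_ge (zpowers_le.2 c.uC) (two_elt c.u2)
  refine le_antisymm hle (fun s hs => ?_) ▸ hS
  have k : ∀ s ∈ S, s ∈ zpowers x → s = 1 := fun s hs e => by_contra fun e' =>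
    not_odd hS.isPGroup hs e' (c.xo.of_dvd_nat (orderOf_dvd_of_mem_zpowers e))
  have hu := hle (mem_zpowers u)
  rcases (h.odd u c.u1 c.u2 x c.xu c.x1 c.xo).2.1 s
    (mem_cent1.2 (ab_iff.1 (h.ab2 S hS.isPGroup) s hs u hu)) (hS.le hs) with e | e
  · exact k s hs e ▸ one_mem _
  · exact eq_inv_of_mul_eq_one_left (k _ (mul_mem hs hu) e) ▸ inv_mem (mem_zpowers u)

theorem memO : g ∈ O 𝐂[x] ↔ g ∈ 𝐂[x] ∧ Odd (orderOf g) := mem_O (pnil_of_cyc (c.syl h))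

theorem sdp : IsSdprod (O 𝐂[x]) (zpowers u) 𝐂[x] := (pnil_of_cyc (c.syl h)).sdprod (c.syl h)

theorem card_cent : ♯𝐂[x] = 2 * ♯(O 𝐂[x]) := by
  rw [← (c.sdp h).card, Nat.card_zpowers, orderOf_eq_two c.u2 c.u1, mul_comm]

theorem card_norm (x3 : orderOf x = 3) : ♯𝐍(zpowers x) = 4 * ♯(O 𝐂[x]) := by
  rw [← card_mul_relIndex (cent_normal x).le, c.card_cent h, show 𝐂[x].relIndex 𝐍(zpowers x) = 2 from
    index_eq_two_iff.2 ⟨⟨v, c.vN⟩, fun g => ?_⟩]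
  · ring
  by_cases e : (g : G) ∈ 𝐂[x]
  · exact Or.inr ⟨e, fun e' => c.vC ((mul_mem_cancel_left e).1 e')⟩
  refine Or.inl ⟨mul_mem_cent (inv_of_ext (norm_le_ext x3 g.2) e) c.inv, e⟩

theorem xO : x ∈ O 𝐂[x] := (c.memO h).2 ⟨mem_cent1_self x, c.xo⟩

theorem inf_u : O 𝐂[x] ⊓ 𝐂[u] = zpowers x := by
  refine le_antisymm (fun g hg => ((h.odd u c.u1 c.u2 x c.xu c.x1 c.xo).2.1 g hg.2
    (Opi_le _ _ hg.1)).resolve_right fun e => ?_) (zpowers_le.2 ⟨c.xO h, c.xu⟩)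
  exact not_odd (two_elt c.u2) (mem_zpowers u) c.u1
    (odd_of_mem (odd_O _) ((mul_mem_cancel_left (mem_inf.1 hg).1).1 (zpowers_le.2 (c.xO h) e)))

theorem inf_uv : O 𝐂[x] ⊓ 𝐂[u] ⊓ 𝐂[v] = ⊥ :=
  c.inf_u h ▸ inf_eq_bot_of_prime (Nat.card_zpowers x ▸ c.prime h)
    fun e => c.vC (mem_cent1_comm.1 (e (mem_zpowers x)))

theorem card_O : ♯(O 𝐂[x]) =
    orderOf x * ♯(O 𝐂[x] ⊓ 𝐂[v] : Subgroup G) * ♯(O 𝐂[x] ⊓ 𝐂[u * v] : Subgroup G) := by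
  have := Perm.card_mul_sq_of_four_group (odd_O 𝐂[x]) c.u2 c.v2 (mem_cent1.1 c.uv).symm
    (fun _ => conj_mem_of_norm c.uO) fun _ => conj_mem_of_norm c.vO
  rwa [c.inf_uv h, c.inf_u h, Nat.card_zpowers, card_bot, one_pow, mul_one] at this

theorem swap (hy : y ∈ O 𝐂[x] ⊓ 𝐂[v]) (y1 : y ≠ 1) :
    Tr v u y ∧ O 𝐂[x] ⊓ 𝐂[v] = zpowers y := by
  have h1 : u ∈ 𝐍(O 𝐂[x] ⊓ 𝐂[v]) :=
    mem_norm_inf c.uO (le_normalizer (mem_cent1_comm.1 c.uv))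
  have h2 : O 𝐂[x] ⊓ 𝐂[v] ⊓ 𝐂[u] = ⊥ := inf_right_comm _ _ 𝐂[u] ▸ c.inf_uv h
  have c' : Tr v u y := ⟨c.v1, c.v2, c.u2, mem_cent1_comm.1 c.uv, hy.2, y1,
    odd_of_mem (odd_O _) hy.1, conj_eq_inv c.u2 h1 h2 hy⟩
  refine ⟨c', le_antisymm (fun g hg => c'.inf_u h ▸ ⟨(c'.memO h).2
    ⟨mem_cent1.2 (ab_iff.1 (ab_of_inf_eq_bot c.u2 h1 h2) g hg y hy), odd_of_mem (odd_O _) hg.1⟩, hg.2⟩)
    (zpowers_le.2 hy)⟩

theorem part : ♯(O 𝐂[x] ⊓ 𝐂[v] : Subgroup G) = 1 ∨ ∃ y ∈ O 𝐂[x], Tr v u y ∧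
    ♯(O 𝐂[x] ⊓ 𝐂[v] : Subgroup G) = orderOf y := by
  by_cases e : O 𝐂[x] ⊓ 𝐂[v] = ⊥
  · exact .inl (card_eq_one_iff.2 e)
  obtain ⟨y, hy, y1⟩ := exists_mem_ne_one e
  exact .inr ⟨y, hy.1, (c.swap h hy y1).1, by rw [(c.swap h hy y1).2, Nat.card_zpowers]⟩

theorem rot (c' : Tr v u b) (e : orderOf b = orderOf x) :
    ∃ g, g * u * g⁻¹ = v ∧ g * v * g⁻¹ = u * v ∧ g * x * g⁻¹ ∈ zpowers b := by
  have := Fact.mk (c'.prime h)
  obtain ⟨g, hg⟩ := h.conj u v c.u1 c.u2 c.v1 c.v2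
  have c1 := c.conj g
  rw [hg] at c1
  have h1 := syl_zp (c'.prime h) rfl c'.xu (by
    rw [h.card v c.v1 c.v2]; rcases c'.ord h with e | e <;> rw [e] <;> decide)
  obtain ⟨k, hk, h2⟩ := h1.exists_conj_le (zpowers_le.2 c1.xu)
    (Core.isPGroup_zpowers_of_orderOf (k := 1) (by rw [orderOf_conj, pow_one, e]))
  have c2 := c1.conj k
  rw [conj_zpowers, zpowers_le] at h2
  rw [mem_cent1_iff_conj.1 hk] at c2
  have h3 := eq_zpowers_of_prime (Nat.card_zpowers b ▸ c'.prime h) h2 c2.x1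
  have h4 := inv_of_mem c2.inv (h3 ▸ mem_zpowers b)
  have key : ∀ s, s * b * s⁻¹ = b⁻¹ → k * (g * v * g⁻¹) * k⁻¹ * s⁻¹ ∈ zpowers b →
      ∃ g, g * u * g⁻¹ = v ∧ g * v * g⁻¹ = s ∧ g * x * g⁻¹ ∈ zpowers b := fun s hs hm => by
    obtain ⟨n, hn⟩ := KK.mem_zp_sq (c'.xo.of_dvd_nat (orderOf_dvd_of_mem_zpowers hm))
    set β := k * (g * v * g⁻¹) * k⁻¹ * s⁻¹ with hβ
    have hγ := zpow_mem hm n
    have h5 := inv_of_mem hs hγ
    have h6 : β ^ n * β ^ n = β := by rw [← (Commute.refl β).mul_zpow]; exact hn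
    refine ⟨(β ^ n)⁻¹ * (k * g), ?_, ?_, ?_⟩
    · calc _ = (β ^ n)⁻¹ * (k * (g * u * g⁻¹) * k⁻¹) * (β ^ n)⁻¹⁻¹ := by group
        _ = v := by rw [hg, mem_cent1_iff_conj.1 hk,
          mem_cent1_iff_conj.1 (inv_mem (zpowers_le.2 c'.xu hγ))]
    · calc _ = (β ^ n)⁻¹ * β * (s * β ^ n * s⁻¹) * s := by rw [hβ]; group
        _ = s := by rw [h5]; nth_rewrite 2 [← h6]; group
    · convert conj_mem_of_mem (inv_mem hγ) h2 using 1; group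
  rcases (h.odd v c.v1 c.v2 b c'.xu c'.x1 c'.xo).2.1 _ (mul_mem c2.uv c'.uv)
    (mul_mem_cent h4 c'.inv) with e | e
  · obtain ⟨g, h5, h6, -⟩ := key u c'.inv (by rwa [inv_eq c.u2])
    exact absurd (h.no_swap c.u2 c.v2 (mem_cent1.1 c.uv).symm h5 h6 ▸ c.uC) c.vC
  · exact key (u * v) (mem_cent1.1 c.uv ▸ c'.mul.inv) (by rwa [inv_eq c.mul.v2, ← mul_assoc])

theorem both (hb : b ∈ O 𝐂[x]) (c' : Tr v u b) (e : orderOf b = orderOf x) :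
    ∃ g, g * u * g⁻¹ = v ∧ g * v * g⁻¹ = u * v ∧ g * x * g⁻¹ ∈ O 𝐂[x] ⊓ 𝐂[v] ∧
      g⁻¹ * x * g ∈ O 𝐂[x] ⊓ 𝐂[u * v] := by
  obtain ⟨g, h1, h2, h3⟩ := c.rot h c' e
  have h4 := zpowers_le.2 hb h3
  refine ⟨g, h1, h2, ⟨h4, zpowers_le.2 c'.xu h3⟩, (c.memO h).2 ⟨?_, orderOf_conj' g x ▸ c.xo⟩,
    (?_ : _ ∈ 𝐂[u * v])⟩
  · rw [← mem_conj, ← cent1_conj, mem_cent1_comm]
    exact Opi_le _ _ h4
  · rw [← mem_conj, ← cent1_conj, ← conj_mul, h1, h2, ← mul_assoc, mem_cent1.1 c.uv, mul_assoc, c.v2,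
      mul_one]
    exact c.xu

theorem card_eq (hb : b ∈ O 𝐂[x]) (c' : Tr v u b) (e : orderOf b = orderOf x) :
    ♯(O 𝐂[x] ⊓ 𝐂[u * v] : Subgroup G) = orderOf x := by
  obtain ⟨g, -, -, -, h1⟩ := c.both h hb c' e
  rw [(c.mul.swap h h1 (conj_ne_one'.2 c.x1)).2, Nat.card_zpowers, orderOf_conj']

omit [Finite G] h in
theorem mul_mul : u * (u * v) = v := by rw [← mul_assoc, c.u2, one_mul]

theorem cube (hp : orderOf x ^ 2 ∣ Nat.card G) :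
    ∃ b ∈ O 𝐂[x], Tr v u b ∧ orderOf b = orderOf x := by
  have k : ∀ {v}, Tr u v x → orderOf x ∣ ♯(O 𝐂[x] ⊓ 𝐂[v] : Subgroup G) →
      ∃ b ∈ O 𝐂[x], Tr v u b ∧ orderOf b = orderOf x := fun c e => by
    rcases c.part h with e' | ⟨y, hy, c', e'⟩ <;> rw [e'] at e
    · exact absurd (Nat.dvd_one.1 e) (c.prime h).ne_one
    · exact ⟨y, hy, c', ((Nat.prime_dvd_prime_iff_eq (c.prime h) (c'.prime h)).1 e).symm⟩
  have h1 : orderOf x ^ 2 ∣ ♯𝐂[x] := by_contra fun e => not_sq_dvd (c.prime h) rfl e hp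
  rw [c.card_cent h, c.card_O h] at h1
  have h2 := ((Nat.coprime_two_right.2 c.xo).pow_left 2).dvd_of_dvd_mul_left h1
  rw [sq, mul_assoc] at h2
  rcases (c.prime h).dvd_mul.1 (Nat.dvd_of_mul_dvd_mul_left (orderOf_pos x) h2) with e | e
  · exact k c e
  obtain ⟨b, hb, c', e⟩ := k c.mul e
  obtain ⟨g, -, -, -, h3⟩ := c.mul.both h hb c' e
  rw [c.mul_mul] at h3
  exact ⟨_, h3.1, (c.swap h h3 (conj_ne_one'.2 c.x1)).1, orderOf_conj' g x⟩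

theorem card_cube (hb : b ∈ O 𝐂[x]) (c' : Tr v u b) (e : orderOf b = orderOf x) :
    ♯(O 𝐂[x]) = orderOf x ^ 3 := by
  rw [c.card_O h, c.card_eq h hb c' e, (c.swap h ⟨hb, c'.xu⟩ c'.x1).2, Nat.card_zpowers, e]
  ring

theorem comm_mem (hp : p.Prime) (e : ♯(O 𝐂[x]) = orderOf x * p ^ 2) (hy : y ∈ O 𝐂[x])
    (hz : z ∈ O 𝐂[x]) : y * z * y⁻¹ * z⁻¹ ∈ zpowers x := by
  have := Fact.mk hp
  have h1 : O 𝐂[x] ≤ 𝐍(zpowers x) := (Opi_le _ _).trans (KK.cent_le_norm_zp x)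
  have h2 := card_mul_relIndex (zpowers_le.2 (c.xO h))
  rw [e, Nat.card_zpowers, ← card_quo h1] at h2
  exact (ab_quo_iff h1).1 (IsPGroup.isMulCommutative_of_card_eq_prime_sq
    (Nat.eq_of_mul_eq_mul_left (orderOf_pos x) h2)) (commutator_mem_commutator hy hz)

theorem not_five (x3 : orderOf x = 3) (hy : y ∈ O 𝐂[x]) (c1 : Tr v u y) (y5 : orderOf y = 5)
    (hz : z ∈ O 𝐂[x]) (c2 : Tr (u * v) u z) (z5 : orderOf z = 5) : False := by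
  have h1 := c.comm_mem h Nat.prime_five (by
    rw [c.card_O h, (c.swap h ⟨hy, c1.xu⟩ c1.x1).2, (c.mul.swap h ⟨hz, c2.xu⟩ c2.x1).2,
      Nat.card_zpowers, Nat.card_zpowers, y5, z5, mul_assoc, sq]) hz hy
  have h2 : Commute (z * y * z⁻¹ * y⁻¹) y :=
    (mem_cent1.1 (cent1_le_of_mem_zpowers h1 (Opi_le _ _ hy))).symm
  have h3 := h2.mul_pow 5
  rw [inv_mul_cancel_right, conj_pow, ← y5, pow_orderOf_eq_one, y5, mul_one, mul_one,
    mul_inv_cancel] at h3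
  have h4 := Nat.dvd_gcd (orderOf_dvd_of_pow_eq_one h3.symm) (x3 ▸ orderOf_dvd_of_mem_zpowers h1)
  have h5 : z ∈ O 𝐂[y] := (c1.memO h).2 ⟨mem_cent1_iff_conj.2
    (mul_inv_eq_one.1 (orderOf_eq_one_iff.1 (Nat.dvd_one.1 h4))), c2.xo⟩
  have h6 := c1.mul.card_eq h h5 (c1.mul.swap h ⟨h5, mem_cent1.1 c.uv ▸ c2.xu⟩ c2.x1).1
    (z5.trans y5.symm)
  have h7 := orderOf_dvd_card (H := O 𝐂[y] ⊓ 𝐂[u])
    ⟨(c1.memO h).2 ⟨mem_cent1_comm.1 (Opi_le _ _ hy), c.xo⟩, c.xu⟩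
  rw [c1.mul_mul] at h6
  rw [h6, x3, y5] at h7
  omega

end Tr

end Cfsg.Agent.JR.Q5x
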