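import Cfsg.Agent.Lib.JR.Q5a
import Cfsg.Agent.Lib.Transfer.HallWielandt
import Cfsg.Agent.Lib.Coprime.IndexBound

/-!
# Groups of Janko type: the Sylow 3-subgroups have order 3
-/

set_option autoImplicit false

namespace Cfsg.Agent.JR.Q5x

open Subgroup Cfsg.Agent.OO Cfsg.Agent.Coprime Cfsg.Agent.R1 Cfsg.Agent.GW Cfsg.Agent.ZG
open scoped commutatorElement Pointwise

universe u

variable {G : Type u} [Group G] {A X Y : Subgroup G} {a b f g k p q u v w y z : G}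

theorem transv (hc : Commute a b) (a3 : a ^ 3 = 1) (b3 : b ^ 3 = 1) (h1 : p * a * p⁻¹ = a)
    (h2 : p * b * p⁻¹ = a * b) (h3 : q * a * q⁻¹ = b * a) (h4 : q * b * q⁻¹ = b) :
    p * q * (p * q) * a * (p * q * (p * q))⁻¹ = a⁻¹ := by
  have e : ∀ y, p * q * y * (p * q)⁻¹ = p * (q * y * q⁻¹) * p⁻¹ := fun y => by group
  have e1 : p * q * a * (p * q)⁻¹ = a * b * a := by rw [e, h3, ← conj_mul, h1, h2]
  have e2 : p * q * b * (p * q)⁻¹ = a * b := by rw [e, h4, h2]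
  calc _ = p * q * (p * q * a * (p * q)⁻¹) * (p * q)⁻¹ := by group
    _ = a * b * a * (a * b) * (a * b * a) := by rw [e1, ← conj_mul, ← conj_mul, e1, e2]
    _ = a ^ 3 * a ^ 3 * b ^ 3 * a⁻¹ := by
      rw [eq_mul_inv_iff_mul_eq]
      simp only [pow_succ, pow_zero, one_mul, mul_assoc, hc.symm.left_comm, hc.symm.eq]
    _ = _ := by rw [a3, b3]; group

variable [Finite G]

theorem J.not_sq_inv (h : J G) (ho : Odd (orderOf z)) (z1 : z ≠ 1)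
    (e : k * k * z * (k * k)⁻¹ = z⁻¹) : False := by
  obtain ⟨n, m, ⟨j, hj⟩, hm⟩ := Nat.exists_eq_two_pow_mul_odd (orderOf_pos k).ne'
  have s2 : k ^ m * k ^ m = 1 := h.sq' (n := n) (by
    rw [← pow_mul, mul_comm, ← hm, pow_orderOf_eq_one])
  rw [← (Commute.refl k).mul_pow, hj, pow_succ, pow_mul, pow_two] at s2
  exact not_cent_of_inv ho z1 e
    ((mul_mem_cancel_left (pow_mem (mul_mem_cent e e) j)).1 (s2 ▸ one_mem _))

theorem J.card_le (h : J G) (c : Tr u v a) (hX : IsPGroup 3 X) (hu : u ∈ 𝐍(X)) (hv : v ∈ 𝐍(X)) :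
    ♯X ≤ 27 := by
  have : Fact (Nat.Prime 3) := ⟨by decide⟩
  have k : ∀ w : G, w ≠ 1 → w * w = 1 → ♯(X ⊓ 𝐂[w] : Subgroup G) ≤ 3 := fun w w1 w2 => by
    obtain ⟨n, hn⟩ := (hX.to_le (inf_le_left : X ⊓ 𝐂[w] ≤ X)).exists_card_eq
    have := h.card w w1 w2 ▸ card_dvd (inf_le_right : X ⊓ 𝐂[w] ≤ _)
    rw [hn] at this ⊢
    rcases n with _ | _ | n
    · decide
    · decide
    · exact absurd ((pow_dvd_pow 3 (by omega : 2 ≤ n + 1 + 1)).trans this) (by decide)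
  have := Perm.card_mul_sq_of_four_group (odd_of_isPGroup (by decide) hX) c.u2 c.v2
    (mem_cent1.1 c.uv).symm (fun _ => conj_mem_of_norm hu) fun _ => conj_mem_of_norm hv
  exact (Nat.le_mul_of_pos_right _ (pow_pos (card_pos' _) 2)).trans (this.trans_le
    (Nat.mul_le_mul (Nat.mul_le_mul (k u c.u1 c.u2) (k v c.v1 c.v2)) (k _ c.mul.v1 c.mul.v2)))

/-- the configuration with `|O(C(a))| = 27` -/
structure Cu (u v a g : G) : Prop extends Tr u v a where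
  j : J G
  a3 : orderOf a = 3
  gu : g * u * g⁻¹ = v
  gv : g * v * g⁻¹ = u * v
  gb : g * a * g⁻¹ ∈ O 𝐂[a] ⊓ 𝐂[v]
  gc : g⁻¹ * a * g ∈ O 𝐂[a] ⊓ 𝐂[u * v]

namespace Cu

variable (c : Cu u v a g)
include c

theorem inf_v : O 𝐂[a] ⊓ 𝐂[v] = zpowers (g * a * g⁻¹) :=
  (c.swap c.j c.gb (conj_ne_one.2 c.x1)).2

theorem inf_w : O 𝐂[a] ⊓ 𝐂[u * v] = zpowers (g⁻¹ * a * g⁻¹⁻¹) :=
  (inv_inv g).symm ▸ (c.mul.swap c.j c.gc (conj_ne_one'.2 c.x1)).2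

theorem card : ♯(O 𝐂[a]) = 27 := by
  rw [c.card_O c.j, c.inf_v, c.inf_w, Nat.card_zpowers, Nat.card_zpowers, orderOf_conj, orderOf_conj,
    c.a3]

theorem pair : Pair (S4 u v) u v :=
  pair_mk c.u1 c.v1 (fun e => c.vC (e ▸ c.uC)) c.u2 c.v2 (mem_cent1.1 c.uv).symm

theorem gen (h1 : a ∈ Y) (h2 : g * a * g⁻¹ ∈ Y) (h3 : g⁻¹ * a * g ∈ Y) : O 𝐂[a] ≤ Y :=
  c.pair.le_of_forall (S4_le.2 ⟨c.uO, c.vO⟩) (odd_O _) (c.inf_u c.j ▸ zpowers_le.2 h1)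
    (c.inf_v ▸ zpowers_le.2 h2) (c.inf_w ▸ zpowers_le.2 ((inv_inv g).symm ▸ h3))

theorem comm : g⁻¹ * a * g ∈ 𝐂[g * a * g⁻¹] := by
  have a3 : a ^ 3 = 1 := by rw [← c.a3, pow_orderOf_eq_one]
  have b3 : (g * a * g⁻¹) ^ 3 = 1 := by rw [conj_pow, a3, mul_one, mul_inv_cancel]
  have h1 : g * a * g⁻¹ ∈ 𝐂[a] := Opi_le _ _ c.gb.1
  have h2 := mem_cent1_iff_conj.1 (Opi_le _ _ c.gc.1)
  have h3 : (g * (g * a * g⁻¹) * g⁻¹)⁻¹ ∈ 𝐂[g * a * g⁻¹] :=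
    inv_mem (cent1_conj g a ▸ conj_mem_conj h1)
  have hc : Commute a (g * a * g⁻¹) := (mem_cent1.1 h1).symm
  have k : ∀ z, g⁻¹ * a * g * (g * a * g⁻¹) * (g⁻¹ * a * g)⁻¹ = z * (g * a * g⁻¹) →
      (g * (g * a * g⁻¹) * g⁻¹)⁻¹ * a * (g * (g * a * g⁻¹) * g⁻¹)⁻¹⁻¹ = g * ((g * a * g⁻¹)⁻¹ * z *
        (g * a * g⁻¹)) * g⁻¹ * a := fun z e => by
    rw [eq_mul_inv_of_mul_eq e.symm]; simp [mul_assoc]
  rcases mem_zp3 c.a3 (c.comm_mem c.j Nat.prime_three (by rw [c.card, c.a3]; rfl) c.gc.1 c.gb.1)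
    with e | e | e
  · exact mem_cent1_iff_conj.2 (mul_inv_eq_one.1 e)
  · have e' := eq_mul_of_mul_inv_eq e
    refine (c.j.not_sq_inv c.xo c.x1 (transv hc a3 b3 h2 e' ?_ (mem_cent1_iff_conj.1 h3))).elim
    rw [k _ e', mul_assoc _ a, hc.eq]; group
  · have e' := eq_mul_of_mul_inv_eq e
    refine (c.j.not_sq_inv (orderOf_inv a ▸ c.xo) (inv_ne_one.2 c.x1) (transv hc.inv_left
      (by rw [inv_pow, a3, inv_one]) b3 (by rw [← conj_inv, h2]) e' ?_ (mem_cent1_iff_conj.1 h3))).elim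
    rw [← conj_inv, k _ e', mul_assoc (g * a * g⁻¹)⁻¹, hc.inv_left.eq, inv_mul_cancel_left,
      ← hc.inv_left.eq]; group

theorem ab : Ab (O 𝐂[a]) := by
  have h1 : g * a * g⁻¹ ∈ 𝐂[a] := Opi_le _ _ c.gb.1
  have h2 : g⁻¹ * a * g ∈ 𝐂[a] := Opi_le _ _ c.gc.1
  exact ab_iff_le_cent.2 (c.gen (le_cent1_iff.1 (Opi_le _ _))
    (le_cent1_iff.1 (c.gen (mem_cent1_comm.1 h1) (mem_cent1_self _) c.comm))
    (le_cent1_iff.1 (c.gen (mem_cent1_comm.1 h2) (mem_cent1_comm.1 c.comm) (mem_cent1_self _))))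

theorem gN : g ∈ 𝐍(O 𝐂[a]) :=
  (inv_mem_iff (x := g)).1 (mem_norm_of_conj_mem fun y hy => (c.memO c.j).2 ⟨by
    rw [inv_inv, ← mem_conj, ← cent1_conj]
    exact mem_cent1.2 (ab_iff.1 c.ab y hy _ c.gb.1), orderOf_conj g⁻¹ y ▸ odd_of_mem (odd_O _) hy⟩)

omit c in
theorem KN : 𝐍(zpowers a) ≤ 𝐍(O 𝐂[a]) := le_norm_Opi _ (cent_normal a).norm

theorem three : IsPGroup 3 (O 𝐂[a]) := IsPGroup.of_card (n := 3) c.card

theorem cardK : ♯𝐍(zpowers a) = 108 := by rw [c.card_norm c.j c.a3, c.card]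

omit [Finite G] in
theorem not_cent (n : ℕ) (hn : ¬ 3 ∣ n) : g ^ n * u * (g ^ n)⁻¹ ∉ 𝐂[a] := by
  have h1 : g ^ 2 * u * (g ^ 2)⁻¹ = u * v := by
    rw [← c.gv, ← c.gu, pow_two]; group
  have h2 : g ^ 3 ∈ 𝐂[u] := mem_cent1_iff_conj.2 (by
    rw [show g ^ 3 * u * (g ^ 3)⁻¹ = g * (g ^ 2 * u * (g ^ 2)⁻¹) * g⁻¹ by group, h1, ← conj_mul, c.gu,
      c.gv, ← mul_assoc, mem_cent1.1 c.uv, mul_assoc, c.v2, mul_one])
  rw [← Nat.mod_add_div n 3, pow_add, pow_mul, mul_inv_rev, mul_assoc (g ^ _), mul_assoc,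
    ← mul_assoc (_ * u), mem_cent1_iff_conj.1 (pow_mem h2 _), ← mul_assoc]
  obtain e | e : n % 3 = 1 ∨ n % 3 = 2 := by omega
  · rw [e, pow_one, c.gu]; exact c.vC
  · rw [e, h1]; exact c.mul.vC

theorem index : 𝐍(zpowers a).relIndex 𝐍(O 𝐂[a]) = 3 := by
  have : Fact (Nat.Prime 3) := ⟨by decide⟩
  have h1 := card_mul_relIndex (KN (a := a))
  rw [c.cardK] at h1
  have h2 : 𝐂[a].relIndex 𝐍(O 𝐂[a]) ≤ 26 := by
    rw [relIndex_centralizer_eq_ncard]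
    refine (Set.ncard_le_ncard (t := (O 𝐂[a] : Set G) \ {1}) ?_).trans ?_
    · rintro _ ⟨k, hk, rfl⟩
      exact ⟨conj_mem_of_norm hk (c.xO c.j), conj_ne_one.2 c.x1⟩
    · rw [Set.ncard_sdiff_singleton_of_mem (one_mem _), ← Nat.card_coe_set_eq]
      exact (congrArg (· - 1) c.card).le
  have h3 := card_mul_relIndex ((KK.cent_le_norm_zp a).trans KN)
  rw [c.card_cent c.j, c.card] at h3
  have h4 : ¬ 2 ∣ 𝐍(zpowers a).relIndex 𝐍(O 𝐂[a]) := by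
    obtain ⟨R, hR, h5⟩ := exists_syl_ge (zpowers_le.2 c.uO) (two_elt c.u2)
    refine fun e => hR.not_dvd (e.trans (relIndex_dvd_of_le_left _ fun r hr => ?_))
    exact c.inf_u c.j ▸ mem_norm_inf (hR.le hr) (le_normalizer
      (mem_cent1.2 (ab_iff.1 (c.j.ab2 R hR.isPGroup) r hr u (h5 (mem_zpowers u)))))
  have h5 := card_mul_relIndex (le_norm_self (O 𝐂[a]))
  rw [c.card] at h5
  have h6 : 3 ∣ (O 𝐂[a]).relIndex 𝐍(O 𝐂[a]) := by_contra fun e => by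
    have := (normalIn_norm (O 𝐂[a])).subgroupOf
    exact c.not_cent _ e (conj_mem_of_mem
      (Opi_le _ _ (pow_index_mem ((O 𝐂[a]).subgroupOf 𝐍(O 𝐂[a])) ⟨g, c.gN⟩)) c.uC)
  by_contra h7
  have h8 : ♯𝐍(O 𝐂[a]) = 972 := by omega
  obtain ⟨R, hR⟩ := exists_syl 3 𝐍(O 𝐂[a])
  have h9 : R.relIndex 𝐍(O 𝐂[a]) ≤ 4 := by
    refine Nat.le_of_dvd (by decide) (Nat.Coprime.dvd_of_dvd_mul_left (m := 3 ^ 5)
      (((Nat.Prime.coprime_iff_not_dvd Nat.prime_three).2 hR.not_dvd).symm.pow_right 5) ?_)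
    exact (Dvd.intro_left _ (card_mul_relIndex hR.le)).trans (h8 ▸ dvd_rfl)
  classical
  have := Fintype.ofFinite (𝐍(O 𝐂[a]) ⧸ R.subgroupOf 𝐍(O 𝐂[a]))
  have k1 := normalIn_map_subtype (R.subgroupOf 𝐍(O 𝐂[a])).normalCore
  have k2 := c.j.card_le c.toTr (hR.isPGroup.to_le (map_le_iff_le_comap.2 (normalCore_le _)))
    (k1.norm c.uO) (k1.norm c.vO)
  have k3 := (R.subgroupOf 𝐍(O 𝐂[a])).normalCore.card_mul_index
  have k4 : (R.subgroupOf 𝐍(O 𝐂[a])).normalCore.index ≤ 24 := by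
    rw [normalCore_eq_ker, index_ker]
    refine Nat.le_of_dvd (by decide) ((card_subgroup_dvd_card _).trans ?_)
    rw [Nat.card_perm, ← index_eq_card]
    exact Nat.factorial_dvd_factorial h9
  rw [card_subtype] at k2
  exact absurd ((k3.trans h8).ge.trans (Nat.mul_le_mul k2 k4)) (by decide)

theorem K_eq : O 𝐂[a] ⊔ S4 u v = 𝐍(zpowers a) :=
  eq_of_le_of_card_le (sup_le ((Opi_le _ _).trans (KK.cent_le_norm_zp a))
    (S4_le.2 ⟨KK.cent_le_norm_zp a c.uC, c.vN⟩)) (by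
    rw [card_sup_of_inf_eq_bot (.inr (S4_le.2 ⟨c.uO, c.vO⟩))
      (inf_eq_bot_of_coprime_card (c.pair.coprime (odd_O _))), c.card, c.pair.card, c.cardK])

theorem normal : 𝐍(zpowers a) ⊴ 𝐍(O 𝐂[a]) := by
  have h1 : g ∈ 𝐍(𝐍(zpowers a)) := c.K_eq ▸ mem_norm_sup c.gN (mem_norm_S4 (c.gu ▸ s_mem_S4 u v)
    (c.gv ▸ mul_mem (t_mem_S4 u v) (s_mem_S4 u v)))
  have h2 := relIndex_mul_relIndex _ _ _ (le_inf KN le_normalizer : 𝐍(zpowers a) ≤ _) inf_le_left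
  rw [c.index] at h2
  refine ⟨KN, (relIndex_eq_one.1 ((Nat.prime_three.eq_one_or_self_of_dvd _
    (Dvd.intro_left _ h2)).resolve_right fun e => ?_)).trans inf_le_right⟩
  rw [e] at h2
  have h3 : g ∈ 𝐍(zpowers a) := relIndex_eq_one.1 (by omega) (mem_inf.2 ⟨c.gN, h1⟩)
  exact c.vC (c.gu ▸ (cent_normal a).conj_mem h3 c.uC)

theorem mem_K (hk : k ∈ 𝐍(O 𝐂[a])) (hf : f ∈ zpowers (k * a * k⁻¹)) (f1 : f ≠ 1) (hy : y ∈ 𝐂[f]) :
    y ∈ 𝐍(zpowers a) := by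
  rw [← c.normal.conj_eq hk, ← norm_conj, conj_zpowers, ← eq_zpowers_of_prime (by
    rw [Nat.card_zpowers, orderOf_conj]; exact c.prime c.j) hf f1]
  exact KK.cent_le_norm_zp f hy

theorem uniq (hA : A ≤ 𝐍(O 𝐂[a])) (ha : Ab A) (hc : ♯A = 27) : A = O 𝐂[a] := by
  have : Fact (Nat.Prime 3) := ⟨by decide⟩
  refine eq_of_le_of_card_le (fun y hy => by_contra fun yO => ?_) (by rw [hc, c.card])
  have h3 : IsPGroup 3 A := IsPGroup.of_card (n := 3) hc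
  have yo : Odd (orderOf y) := odd_of_mem (by rw [hc]; decide) hy
  have yK : y ∉ 𝐍(zpowers a) := fun e => yO ((c.memO c.j).2 ⟨by_contra fun e' => e'
    (KK.mem_of_sq_mem yo (mul_mem_cent (inv_of_ext (norm_le_ext c.a3 e) e')
      (inv_of_ext (norm_le_ext c.a3 e) e'))), yo⟩)
  have h1 : 9 ≤ ♯(A ⊓ O 𝐂[a] : Subgroup G) := by
    have h4 := card_sup_mul_card_inf (.inl hA)
    obtain ⟨n, hn⟩ := (h3.to_sup_of_normal_right' c.three hA).exists_card_eq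
    have h5 := card_dvd (sup_le hA le_normalizer)
    rw [← card_mul_relIndex KN, c.cardK, c.index, hn] at h5
    have h6 := Nat.le_of_dvd (by decide) (((by decide : Nat.Coprime 3 4).pow_left n).dvd_of_dvd_mul_left
      (show _ ∣ 4 * 81 from h5))
    rw [hn, hc, c.card] at h4
    nlinarith
  have h2 : u •ᶜ (A ⊓ O 𝐂[a]) ≤ O 𝐂[a] := conj_le_of_mem_norm c.uO inf_le_right
  obtain ⟨f, ⟨⟨f1, f2⟩, f3⟩, f4⟩ := exists_mem_ne_one (H := A ⊓ O 𝐂[a] ⊓ u •ᶜ (A ⊓ O 𝐂[a])) fun e => by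
    have h4 := card_sup_of_inf_eq_bot (.inl (inf_le_right.trans (le_norm_of_ab c.ab h2))) e
    have h5 := card_le (sup_le (inf_le_right : A ⊓ _ ≤ _) h2)
    rw [h4, card_conj, c.card] at h5
    nlinarith
  have yf : y ∈ 𝐂[f] := mem_cent1.2 (ab_iff.1 ha y hy f f1)
  have h4 : y⁻¹ * (u * y * u⁻¹) ∈ 𝐂[f] := mul_mem (inv_mem yf) (mem_cent1.2 (ab_iff.1 (ab_conj.2 ha) _
    (conj_mem_conj hy) f (conj_mono u inf_le_left f3)))
  have uK := KK.cent_le_norm_zp a c.uC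
  have h5 : y⁻¹ * (u * y * u⁻¹) ∈ 𝐍(zpowers a) := by
    convert mul_mem (c.normal.conj_mem (inv_mem (hA hy)) uK) (inv_mem uK) using 1; group
  obtain ⟨o, ho, w, hw, e⟩ := (mem_sup_norm_left (S4_le.2 ⟨c.uO, c.vO⟩)).1 (c.K_eq ▸ h5)
  have h6 : f ∈ O 𝐂[a] ⊓ 𝐂[w] := ⟨f2, mem_cent1_comm.1 ((mul_mem_cancel_left
    (mem_cent1.2 (ab_iff.1 c.ab o ho f f2))).1 (e ▸ h4))⟩
  rcases c.pair.mem_S4.1 hw with rfl | rfl | rfl | rfl
  · refine yK (mem_norm_zp (c.inf_u c.j ▸ ⟨conj_mem_of_norm (hA hy) (c.xO c.j), ?_⟩))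
    have : y⁻¹ * u * y ∈ 𝐂[a] := by
      convert mul_mem (Opi_le _ _ ho) c.uC using 1
      rw [mul_one] at e
      rw [e]; group
    rwa [← mem_conj, ← cent1_conj, mem_cent1_comm] at this
  · exact yK (c.mem_K (one_mem _) (by simpa using c.inf_u c.j ▸ h6) f4 yf)
  · exact yK (c.mem_K c.gN (c.inf_v ▸ h6) f4 yf)
  · exact yK (c.mem_K (inv_mem c.gN) (c.inf_w ▸ h6) f4 yf)

theorem false [IsSimpleGroup G] : False := by
  have : Fact (Nat.Prime 3) := ⟨by decide⟩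
  obtain ⟨P, hP⟩ := c.three.exists_le_sylow
  have k : ∀ y : G, y •ᶜ O 𝐂[a] ≤ 𝐍(O 𝐂[a]) → y •ᶜ O 𝐂[a] = O 𝐂[a] := fun y e =>
    c.uniq e (ab_conj.2 c.ab) (by rw [card_conj, c.card])
  have h1 : (P : Subgroup G) ≤ 𝐍(O 𝐂[a]) := inf_eq_left.1 (eq_of_nil_of_inf_norm_le
    (nil_of_isPGroup P.isPGroup') inf_le_left fun y hy => ⟨hy.1, conj_eq_self_iff.1 (k y
      ((conj_le_of_mem_norm hy.2 (le_inf hP le_normalizer)).trans inf_le_right))⟩)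
  have h2 := Transfer.hallWielandt P ⟨hP, fun y e => k y (e.trans h1)⟩ fun y hy z hz => by
    have := mul_mem (conj_mem_of_norm' (h1 hy) (inv_mem hz)) hz
    simp only [Nat.add_one_sub_one, Function.iterate_succ, Function.iterate_zero, Function.comp, id]
    rw [mul_assoc, mul_assoc, ab_iff.1 c.ab _ this z hz]; group
  have h3 : pResidual 3 G = ⊤ := (IsSimpleGroup.eq_bot_or_eq_top_of_normal _
    (Transfer.pResidual_normal 3 G)).resolve_left fun e => c.u1 (mem_bot.1 (e ▸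
      Transfer.mem_pResidual_of_coprime (by rw [orderOf_eq_two c.u2 c.u1]; decide)))
  have := c.normal.subgroupOf
  have h4 := map_le_iff_le_comap.2 (Transfer.pResidual_le_of_index_eq_pow (p := 3) (k := 1)
    (𝐍(zpowers a).subgroupOf 𝐍(O 𝐂[a])) c.index)
  rw [h3, top_inf_eq] at h2
  have h5 := relIndex_eq_one.2 (h2.ge.trans h4)
  rw [c.index] at h5
  omega

end Cu

theorem Tr.not_three [IsSimpleGroup G] (c : Tr u v a) (h : J G) (a3 : orderOf a = 3)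
    (hb : b ∈ O 𝐂[a]) (c' : Tr v u b) : orderOf b ≠ 3 := fun e => by
  obtain ⟨g, h1, h2, h3, h4⟩ := c.both h hb c' (e.trans a3.symm)
  exact Cu.false ⟨c, h, a3, h1, h2, h3, h4⟩

end Cfsg.Agent.JR.Q5x
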