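import Cfsg.Agent.Lib.JR.Q5b
import Cfsg.Agent.Lib.JR.CH2
import Cfsg.Agent.Lib.JR.CH1

/-!
# Groups of Janko type: virtual characters induced from the normalizer of a subgroup of order 3
-/

set_option autoImplicit false

namespace Cfsg.Agent.JR.Q5x

open Subgroup Cfsg.Agent.OO Cfsg.Agent.Coprime Cfsg.Agent.GW Cfsg.Agent.ZG Cfsg.Agent.ODD
open scoped Pointwise ComplexConjugate

universe u

variable {G : Type u} [Group G] [Finite G] {a b g k u v w x y : G} {l σ φ F : G → ℂ} {α β : ℂ}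

/-- the 3-singular elements of `C(x)` -/
def Dx (x : G) : Set G := {k | k ∈ 𝐂[x] ∧ 3 ∣ orderOf k}

/-- the involutions inverting `x` -/
def Jx (x : G) : Set G := {a | a * a = 1 ∧ a * x * a⁻¹ = x⁻¹}

noncomputable def psi (x : G) : G → ℂ := (Dx x).indicator fun _ => 3

noncomputable def tht (x : G) (σ : G → ℂ) : G → ℂ := cfInd ⊤ 𝐍(zpowers x) (psi x * σ)

noncomputable def tau (x : G) : G → ℂ := (2 : ℂ) • cf1 (O 𝐂[x]) - cf1 𝐍(zpowers x)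

structure Tz (u v x : G) : Prop extends Tr u v x where
  j : J G
  x3 : orderOf x = 3
  nd : ¬ 3 ^ 2 ∣ ♯𝐂[x]

instance : Fact (Nat.Prime 3) := ⟨Nat.prime_three⟩

theorem tau_O (hk : k ∈ O 𝐂[x]) : tau x k = 1 := by
  simp only [tau, Pi.sub_apply, Pi.smul_apply, cf1E hk, cf1E (KK.cent_le_norm_zp x (Opi_le _ _ hk))]
  norm_num

theorem tau_not (hk : k ∈ 𝐂[x]) (h : k ∉ O 𝐂[x]) : tau x k = -1 := by
  simp [tau, cf1_of_not_mem h, cf1E (KK.cent_le_norm_zp x hk)]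

theorem tau_mem : tau x ∈ CF 𝐍(zpowers x) :=
  sub_mem (Submodule.smul_mem _ _ (cf1_mem_CF_of_normal
    ⟨(Opi_le _ _).trans (KK.cent_le_norm_zp x), Cu.KN⟩)) (cf1_mem_CF _)

theorem exists_conj_of_odd (ho : Odd (orderOf g)) (w2 : w * w = 1) (h : g * w * (g * w) = 1) :
    ∃ c ∈ zpowers g, c * w * c⁻¹ = g * w := by
  obtain ⟨n, hn⟩ := KK.mem_zp_sq ho
  have h1 := inv_of_mem (show w * g * w⁻¹ = g⁻¹ by
    rw [inv_eq w2]; exact eq_inv_of_mul_eq_one_right (by simpa only [mul_assoc] using h)) (inv_mem (zpow_mem (mem_zpowers g) n))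
  refine ⟨_, zpow_mem (mem_zpowers g) n, ?_⟩
  rw [mul_assoc, eq_mul_of_mul_inv_eq h1, inv_inv, ← mul_assoc, ← (Commute.refl g).mul_zpow]
  exact congrArg (· * w) hn

namespace Tz

variable (c : Tz u v x)
include c

theorem syl3 : Syl 3 (zpowers x) 𝐂[x] := syl_zp Nat.prime_three c.x3 (mem_cent1_self x) c.nd

theorem pnil : PNil 3 𝐂[x] := pnil_of_sdprod (Burnside_normal_complement c.syl3
  (inf_le_left.trans (cent_zpowers x).ge)) (Opi_piGrp _ _) c.syl3.isPGroup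

theorem ti : NormedTI (Dx x) ⊤ 𝐍(zpowers x) := by
  have k : ∀ y ∈ 𝐂[x], orderOf y = 3 → y ∈ zpowers x := fun y hy e => zpowers_le.1
    (c.syl3.le_of_normal_syl (KK.cent_le_norm_zp x) (zpowers_le.2 hy)
      (Core.isPGroup_zpowers_of_orderOf (k := 1) e))
  refine ⟨⟨x, mem_cent1_self x, c.x3.symm.dvd⟩, le_top, fun g hg a ha =>
    ⟨(cent_normal x).conj_mem hg ha.1, orderOf_conj g a ▸ ha.2⟩, fun g _ a ha ha' => ?_⟩
  obtain ⟨y, hy, y3⟩ := cauchy (H := zpowers a) Nat.prime_three (Nat.card_zpowers a ▸ ha.2)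
  rw [← eq_zpowers_of_prime (Nat.card_zpowers x ▸ c.prime c.j) (k y (zpowers_le.2 ha.1 hy) y3)
    (fun e => by simp [e] at y3)]
  refine mem_norm_zp ?_
  rw [eq_zpowers_of_prime (Nat.card_zpowers x ▸ c.prime c.j) (k y (zpowers_le.2 ha.1 hy) y3)
    (fun e => by simp [e] at y3)]
  exact k _ (zpowers_le.2 ha'.1 (conj_zpowers g a ▸ conj_mem_conj hy)) (orderOf_conj g y ▸ y3)

theorem exists_lin : ∃ l, IsLinChar 𝐂[x] l ∧ l x ≠ 1 ∧ (∀ k ∈ 𝐂[x], psi x k = 2 - l k - conj (l k)) ∧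
    cfInd 𝐍(zpowers x) 𝐂[x] (cf1 𝐂[x] - l) = psi x := by
  have h1 := c.pnil.sdprod c.syl3
  have h0 : x ∉ Op' 3 𝐂[x] := fun e => ((mem_Op' c.pnil).1 e).2 c.x3.symm.dvd
  obtain ⟨l, hl, h2, h3⟩ := exists_lin_char_cfker h1.normal
    (h1.der_le_of_ab (ab_of_isCyclic inferInstance)) h0
  rw [mem_cfker_lin hl] at h3
  have k1 : ∀ o ∈ Op' 3 𝐂[x], ∀ y, l (o * y) = l y := fun o ho y => by
    rw [lin_charMl hl (Opi_le _ _ ho), (mem_cfker_lin hl).1 (h2 ho), one_mul]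
  have k2 : ∀ k ∈ 𝐂[x], psi x k = 2 - l k - conj (l k) := fun k hk => by
    obtain ⟨o, ho, y, hy, rfl⟩ := h1.mem_iff.1 hk
    have h4 := lin_char_unity_root hl (mem_cent1_self x)
    have h5 := lin_char_mul_conj hl (mem_cent1_self x)
    rw [c.x3] at h4
    have h6 : l x + conj (l x) = -1 := mul_left_cancel₀ (sub_ne_zero.2 h3) (mul_left_cancel₀
      (lin_char_neq0 hl (mem_cent1_self x)) (by linear_combination h4 + (l x - 1) * h5))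
    have h7 : ∀ y, y ∉ Op' 3 𝐂[x] → o * y ∈ 𝐂[x] → psi x (o * y) = 3 := fun y h7 h8 =>
      Set.indicator_of_mem (show _ ∈ Dx x from ⟨h8, by_contra fun e =>
        h7 ((mul_mem_cancel_left ho).1 ((mem_Op' c.pnil).2 ⟨h8, e⟩))⟩) _
    rw [k1 o ho]
    rcases mem_zp3 c.x3 hy with rfl | rfl | rfl
    · rw [hl.one, psi, Set.indicator_of_notMem fun e => ((mem_Op' c.pnil).1 (mul_mem ho (one_mem _))).2 e.2]
      norm_num
    · rw [h7 _ h0 hk]; linear_combination h6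
    · rw [h7 _ (mt inv_mem_iff.1 h0) hk, char_inv hl.isChar, Complex.conj_conj]; linear_combination h6
  refine ⟨l, hl, h3, k2, funext fun k => ?_⟩
  have hF := sub_mem (cf1_mem_CF 𝐂[x]) hl.mem_CF
  by_cases hk : k ∈ 𝐂[x]
  swap
  · rw [(cfInd_normal (cent_normal x).norm hF.1).2 k hk, psi, Set.indicator_of_notMem fun e => hk e.1]
  rw [cfIndE' _ _ (KK.cent_le_norm_zp x hk), Finset.sum_congr rfl
    (g := fun g => 1 - conj (l k) + cf1 𝐂[x] g * (conj (l k) - l k)) fun g hg => ?_,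
    Finset.sum_add_distrib, C1.sum_cf1 (KK.cent_le_norm_zp x), sum_elts_const, c.card_norm c.j c.x3,
    c.card_cent c.j, k2 k hk]
  · have := cardC_ne_zero (O 𝐂[x])
    push_cast; field_simp; ring
  by_cases e : g ∈ 𝐂[x]
  · rw [cfunJ hF e, cf1E e, Pi.sub_apply, cf1E hk]; ring
  obtain ⟨o, ho, y, hy, rfl⟩ := h1.mem_iff.1 hk
  rw [Pi.sub_apply, cf1E ((cent_normal x).conj_mem (mem_elts.1 hg) hk), cf1_of_not_mem e, ← conj_mul,
    k1 _ (conj_mem_of_norm (le_norm_Opi _ (cent_normal x).norm (mem_elts.1 hg)) ho), k1 o ho,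
    inv_of_mem (inv_of_ext (norm_le_ext c.x3 (mem_elts.1 hg)) e) hy, char_inv hl.isChar]
  ring

theorem sum_psi {A : Set G} (hA : ∀ b, b ∈ A ↔ b * x ∈ A) (hK : ∀ b ∈ A, a * b ∈ 𝐂[x])
    (hF : ∀ k ∈ 𝐂[x], F (k * x) = F k) :
    ∑ b ∈ elts A, psi x (a * b) * F (a * b) = 2 * ∑ b ∈ elts A, F (a * b) := by
  obtain ⟨l, hl, h1, h2, -⟩ := c.exists_lin
  have k : ∀ l, IsLinChar 𝐂[x] l → l x ≠ 1 → ∑ b ∈ elts A, l (a * b) * F (a * b) = 0 := fun l hl h1 => by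
    have := sum_elts_equiv (Equiv.mulRight x) hA fun b => l (a * b) * F (a * b)
    rw [Finset.sum_congr rfl (g := fun b => l x * (l (a * b) * F (a * b))) fun b hb => by
      rw [Equiv.coe_mulRight, ← mul_assoc a, hF _ (hK b (mem_elts.1 hb)),
        lin_charMl hl (hK b (mem_elts.1 hb))]; ring, ← Finset.mul_sum] at this
    exact (mul_left_eq_self₀.1 this).resolve_left h1
  have h3 := k _ hl.star fun e => h1 (by simpa using congrArg conj e)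
  rw [Finset.sum_congr rfl fun b hb => by rw [h2 _ (hK b (mem_elts.1 hb)), sub_mul, sub_mul],
    Finset.sum_sub_distrib, Finset.sum_sub_distrib, k l hl h1, ← Finset.mul_sum]
  simpa using h3

theorem on (hσ : σ ∈ CF 𝐍(zpowers x)) : psi x * σ ∈ CFon 𝐍(zpowers x) (Dx x) := by
  obtain ⟨l, -, -, -, h⟩ := c.exists_lin
  exact ⟨mul_mem_CF (h ▸ cfInd_mem_CF _ _ _) hσ, fun k hk => by simp [psi, Set.indicator_of_notMem hk]⟩

theorem vchar : tht x (cf1 𝐍(zpowers x)) ∈ ZIrr ⊤ ∧ tht x (tau x) ∈ ZIrr ⊤ := by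
  obtain ⟨l, hl, -, -, h⟩ := c.exists_lin
  have h1 := sub_mem (cf1_vchar _) (char_vchar hl.isChar)
  have h2 := h ▸ cfInd_vchar (KK.cent_le_norm_zp x) h1
  have h3 := cfInd_vchar (KK.cent_le_norm_zp x) (mul_vchar h1 (cfInd_vchar (Opi_le _ _)
    (cf1_vchar (O 𝐂[x]))))
  rw [cfInd_cfun1 (c.sdp c.j).normal, (c.sdp c.j).relIndex_left, Nat.card_zpowers,
    orderOf_eq_two c.u2 c.u1, cfInd_mul _ _ (Submodule.smul_mem _ _ (cf1_mem_CF_of_normal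
    ⟨(Opi_le _ _).trans (KK.cent_le_norm_zp x), Cu.KN⟩)), h] at h3
  have h4 := mul_vchar h2 (cf1_vchar _)
  exact ⟨cfInd_vchar le_top h4, cfInd_vchar le_top (by rw [tau, mul_sub]; exact sub_mem h3 h4)⟩

theorem apply (hσ : σ ∈ CF 𝐍(zpowers x)) (hk : k ∈ Dx x) : tht x σ k = 3 * σ k := by
  rw [tht, normedTI_Ind_id c.ti (c.on hσ) hk (mem_top k), Pi.mul_apply, psi, Set.indicator_of_mem hk]

omit c in
theorem apply_zero (hy : ¬ 3 ∣ orderOf y) : tht x σ y = 0 :=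
  cfInd_eq_zero _ fun g _ => by
    rw [Pi.mul_apply, psi, Set.indicator_of_notMem fun e => hy (orderOf_conj' g y ▸ e.2), zero_mul]

theorem tau_mul (hk : k ∈ 𝐂[x]) : tau x (k * x) = tau x k := by
  by_cases e : k ∈ O 𝐂[x]
  · rw [tau_O e, tau_O (mul_mem e (c.xO c.j))]
  · rw [tau_not hk e, tau_not (mul_mem hk (mem_cent1_self x)) (by rwa [mul_mem_cancel_right (c.xO c.j)])]

theorem dot (hσ : σ ∈ CF 𝐍(zpowers x)) (hφ : φ ∈ CF ⊤)
    (h : ∀ k ∈ Dx x, σ k * conj (φ k) = α + β * tau x k) : ⟪tht x σ, φ⟫[⊤] = α := by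
  have h1 := c.sum_psi (a := 1) (F := fun k => α + β * tau x k) (A := 𝐂[x])
    (fun b => (mul_mem_cancel_right (mem_cent1_self x)).symm) (fun b hb => by rwa [one_mul])
    fun k hk => by simp only [c.tau_mul hk]
  simp only [one_mul, Finset.sum_add_distrib, ← Finset.mul_sum, tau, Pi.sub_apply, Pi.smul_apply,
    smul_eq_mul, Finset.sum_sub_distrib] at h1
  rw [sum_elts_const, ← sum_elts_subset (A := O 𝐂[x]) (f := cf1 _) (Opi_le _ _) fun _ _ => cf1_of_not_mem,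
    Finset.sum_congr (s₁ := elts (O 𝐂[x] : Set G)) rfl fun _ e => cf1E (mem_elts.1 e),
    Finset.sum_congr (f := cf1 _) rfl fun _ e => cf1E (KK.cent_le_norm_zp x (mem_elts.1 e)),
    sum_elts_const, sum_elts_const, c.card_cent c.j] at h1
  rw [tht, cfdot_cfInd_left le_top (c.on hσ).1.1 hφ, cfdotE, ← sum_elts_subset (A := 𝐂[x])
    (KK.cent_le_norm_zp x) fun k _ e => by rw [(c.on hσ).2 k fun e' => e e'.1, zero_mul],
    Finset.sum_congr rfl fun k _ => (?_ : _ = psi x k * (α + β * tau x k))]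
  · simp only [tau, Pi.sub_apply, Pi.smul_apply, smul_eq_mul]
    have := cardC_ne_zero (O 𝐂[x])
    rw [h1, c.card_norm c.j c.x3]
    push_cast; field_simp; ring
  by_cases e : k ∈ Dx x
  · rw [Pi.mul_apply, mul_assoc, h k e]
  · simp [psi, Set.indicator_of_notMem e]

theorem pair (hσ : σ ∈ CF 𝐍(zpowers x)) (h : ∀ k ∈ 𝐂[x], σ (k * x) = σ k) :
    invSum (tht x σ) * ♯𝐍(zpowers x) =
      Nat.card G * (2 * ∑ a ∈ elts (Jx x), ∑ b ∈ elts (Jx x), σ (a * b)) := by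
  have hJ : Jx x ⊆ Invs G := fun a ha =>
    ⟨fun e => not_cent_of_inv c.xo c.x1 ha.2 (e ▸ one_mem _), ha.1⟩
  have key : ∀ a ∈ Invs G, ∀ b ∈ Invs G, a * b ∈ Dx x → a ∈ Jx x ∧ b ∈ Jx x := fun a ha b hb e => by
    have h1 := inv_mul_left ha.2 hb.2
    have h2 := c.ti.mem_of_conj a (mem_top a) _ e (h1 ▸ ⟨inv_mem e.1, orderOf_inv (a * b) ▸ e.2⟩)
    have h3 : a ∉ 𝐂[x] := fun e' => by
      obtain ⟨y, hy, y3⟩ := cauchy (H := zpowers (a * b)) Nat.prime_three (Nat.card_zpowers (a * b) ▸ e.2)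
      exact not_cent_of_inv (by rw [y3]; decide) (fun e => by simp [e] at y3) (inv_of_mem h1 hy)
        (cent1_le_of_mem_zpowers (zpowers_le.1 (c.syl3.le_of_normal_syl (KK.cent_le_norm_zp x)
          (zpowers_le.2 (zpowers_le.2 e.1 hy)) (Core.isPGroup_zpowers_of_orderOf (k := 1) y3))) e')
    exact ⟨⟨ha.2, inv_of_ext (norm_le_ext c.x3 h2) h3⟩, hb.2, inv_of_ext (norm_le_ext c.x3
      ((mul_mem_cancel_left h2).1 (KK.cent_le_norm_zp x e.1))) fun e' =>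
        h3 ((mul_mem_cancel_right e').1 e.1)⟩
  have hx : ∀ y ∈ zpowers x, ∀ b ∈ Jx x, b * y ∈ Jx x := fun y hy b hb => ⟨by
    rw [← mul_assoc, ← inv_eq hb.1]; nth_rewrite 1 [inv_eq hb.1]
    rw [inv_of_mem hb.2 hy, inv_mul_cancel], by
    rw [← hb.2, mul_inv_rev, mul_assoc b, zp_comm hy (mem_zpowers x)]; group⟩
  rw [tht, ZG.invSum_ind (c.on hσ).1, ← sum_elts_subset hJ fun a ha e =>
    Finset.sum_eq_zero fun b hb => (c.on hσ).2 _ fun e' => e (key a ha b (mem_elts.1 hb) e').1,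
    Finset.mul_sum (a := 2)]
  refine congrArg _ (Finset.sum_congr rfl fun a ha => ?_)
  have ha := mem_elts.1 ha
  rw [← sum_elts_subset hJ fun b hb e => (c.on hσ).2 _ fun e' => e (key a (hJ ha) b hb e').2]
  exact c.sum_psi (fun b => ⟨hx x (mem_zpowers x) b, fun e => by
    simpa using hx _ (inv_mem (mem_zpowers x)) _ e⟩) (fun b hb => mul_mem_cent ha.2 hb.2) h

omit c in
theorem card_cls (c : Tr u v x) (F : ℂ) : ♯(O 𝐂[x] ⊓ 𝐂[v] : Subgroup G) *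
    ∑ _a ∈ elts {a | a ∈ Jx x ∧ a * v ∈ O 𝐂[x]}, F = ♯(O 𝐂[x]) * F := by
  rw [← C1.sum_conj v (fun _ => F) fun a => ⟨fun e => ?_, ?_⟩, sum_elts_const, nsmul_eq_mul]
  · obtain ⟨g, hg, e'⟩ := exists_conj_of_odd (odd_of_mem (odd_O _) e.2) c.v2
      (by rw [mul_assoc a, c.v2, mul_one, e.1.1])
    exact ⟨g, zpowers_le.2 e.2 hg, by rw [e', mul_assoc, c.v2, mul_one]⟩
  rintro ⟨g, hg, rfl⟩
  have := conj_inv_conj' c.inv g
  rw [mem_cent1_iff_conj.1 (Opi_le _ _ hg)] at this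
  refine ⟨⟨conj_sq c.v2 g, this⟩, ?_⟩
  convert mul_mem hg (conj_mem_of_norm c.vO (inv_mem hg)) using 1
  rw [inv_eq c.v2]; group

theorem mul_mem_O (ha : a ∈ 𝐂[x]) (hb : b ∈ 𝐂[x]) : a * b ∈ O 𝐂[x] ↔ (a ∈ O 𝐂[x] ↔ b ∈ O 𝐂[x]) :=
  mul_mem_iff_of_index_two (H := (O 𝐂[x]).subgroupOf 𝐂[x]) ((c.sdp c.j).relIndex_left.trans
    ((Nat.card_zpowers u).trans (orderOf_eq_two c.u2 c.u1))) (a := ⟨a, ha⟩) (b := ⟨b, hb⟩)

theorem uO' : u ∉ O 𝐂[x] := fun e =>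
  not_odd (two_elt c.u2) (mem_zpowers u) c.u1 (odd_of_mem (odd_O _) e)

theorem sum_J (h1 : ∀ k ∈ O 𝐂[x], σ k = α) (h2 : ∀ k ∈ 𝐂[x], k ∉ O 𝐂[x] → σ k = β) {m n : ℕ}
    (hm : ♯(O 𝐂[x] ⊓ 𝐂[v] : Subgroup G) = m) (hn : ♯(O 𝐂[x] ⊓ 𝐂[u * v] : Subgroup G) = n) :
    ∑ a ∈ elts (Jx x), ∑ b ∈ elts (Jx x), σ (a * b) = 9 * (α * (m ^ 2 + n ^ 2) + 2 * β * m * n) := by
  classical
  have k1 : ∀ a ∈ Jx x, a * (u * v) ∈ O 𝐂[x] ↔ a * v ∉ O 𝐂[x] := fun a ha => by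
    rw [← mem_cent1.1 c.uv, ← mul_assoc, c.mul_mem_O (mul_mem_cent ha.2 c.inv) c.uC]
    simp [c.uO']
  have k2 : ∀ a ∈ Jx x, ∀ b ∈ Jx x, (a * b ∈ O 𝐂[x] ↔ (a * v ∈ O 𝐂[x] ↔ b * v ∈ O 𝐂[x])) :=
    fun a ha b hb => by
      rw [← inv_mem_iff (x := b * v), ← c.mul_mem_O (mul_mem_cent ha.2 c.inv)
        (inv_mem (mul_mem_cent hb.2 c.inv)), mul_inv_rev, inv_eq hb.1, mul_assoc, mul_inv_cancel_left]
  have k3 : ∀ F : G → ℂ, ∑ a ∈ elts (Jx x), F a = ∑ a ∈ elts {a | a ∈ Jx x ∧ a * v ∈ O 𝐂[x]}, F a +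
      ∑ a ∈ elts {a | a ∈ Jx x ∧ a * (u * v) ∈ O 𝐂[x]}, F a := fun F => by
    rw [← Finset.sum_filter_add_sum_filter_not _ fun a => a * v ∈ O 𝐂[x]]
    congr 2 <;> ext a
    · simp
    · simpa using fun ha => (k1 a ha).symm
  have k4 : ∀ {w}, Tr u w x → ∀ {i j : ℕ}, ♯(O 𝐂[x] ⊓ 𝐂[w] : Subgroup G) = i → ♯(O 𝐂[x]) = 3 * i * j →
      ∀ F : ℂ, ∑ _a ∈ elts {a | a ∈ Jx x ∧ a * w ∈ O 𝐂[x]}, F = 3 * j * F := fun c' i j e e' F =>
    mul_left_cancel₀ (cardC_ne_zero _) (by rw [card_cls c', e, e']; push_cast; ring)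
  have h3 := c.card_O c.j
  rw [c.x3, hm, hn] at h3
  have k5 := k4 c.toTr hm h3
  have k6 := k4 c.mul hn (h3.trans (mul_right_comm 3 m n))
  have k7 : ∀ {A B : Set G} {γ : ℂ}, (∀ a ∈ A, ∀ b ∈ B, σ (a * b) = γ) →
      ∑ a ∈ elts A, ∑ b ∈ elts B, σ (a * b) = ∑ a ∈ elts A, ∑ b ∈ elts B, γ := fun e =>
    Finset.sum_congr rfl fun a ha => Finset.sum_congr rfl fun b hb => e a (mem_elts.1 ha) b (mem_elts.1 hb)
  simp only [k3, Finset.sum_add_distrib]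
  rw [k7 fun a ha b hb => h1 _ ((k2 a ha.1 b hb.1).2 (iff_of_true ha.2 hb.2)),
    k7 fun a ha b hb => h2 _ (mul_mem_cent ha.1.2 hb.1.2) fun e =>
      (k1 b hb.1).1 hb.2 (((k2 a ha.1 b hb.1).1 e).1 ha.2),
    k7 fun a ha b hb => h2 _ (mul_mem_cent ha.1.2 hb.1.2) fun e =>
      (k1 a ha.1).1 ha.2 (((k2 a ha.1 b hb.1).1 e).2 hb.2),
    k7 fun a ha b hb => h1 _ ((k2 a ha.1 b hb.1).2 (iff_of_false ((k1 a ha.1).1 ha.2) ((k1 b hb.1).1 hb.2)))]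
  simp only [k5, k6]
  ring

theorem conj_D (hk : k ∈ Dx x) (h : k ∉ O 𝐂[x]) :
    ∃ g, ∃ z ∈ zpowers x, z ≠ 1 ∧ g * k * g⁻¹ = u * z := by
  obtain ⟨s, hs, s1, s2⟩ := exists_invol fun e => h ((c.memO c.j).2 ⟨hk.1, e⟩)
  obtain ⟨g, hg, h1⟩ := (c.syl c.j).exists_conj_le (zpowers_le.2 (zpowers_le.2 hk.1 hs)) (two_elt s2)
  rw [conj_zpowers, zpowers_le, mem_zp c.u2] at h1
  have h2 := conj_mem_of_mem hg hk.1
  have h3 : g * k * g⁻¹ ∈ 𝐂[u] := h1.resolve_left (conj_ne_one.2 s1) ▸ cent1_conj g s ▸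
    conj_mem_conj (cent1_le_of_mem_zpowers hs (mem_cent1_self k))
  rcases (c.j.odd u c.u1 c.u2 x c.xu c.x1 c.xo).2.1 _ h3 h2 with e | e
  · exact (h ((c.memO c.j).2 ⟨hk.1, orderOf_conj g k ▸
      c.xo.of_dvd_nat (orderOf_dvd_of_mem_zpowers e)⟩)).elim
  refine ⟨g, _, e, fun e' => ?_, by rw [mem_cent1.1 h3, ← mul_assoc u, c.u2, one_mul]⟩
  have := hk.2
  rw [← orderOf_conj g k, eq_inv_of_mul_eq_one_left e', orderOf_inv, orderOf_eq_two c.u2 c.u1] at this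
  omega

end Tz

end Cfsg.Agent.JR.Q5x
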